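import Cfsg.Agent.H49.Core

/-!
Commutators of the elements centralising the lift of order three and the involution `l0`.
-/

set_option autoImplicit false
set_option linter.unusedSectionVars false
set_option linter.unusedVariables false
set_option synthInstance.maxSize 4096
set_option synthInstance.maxHeartbeats 400000

namespace Cfsg.Agent.H49

open Cfsg.Agent.LargeExtra

/-! ### Finite facts -/

/-- A map or the identity. -/
def pick (e : Bool) (f : W → W) : W → W := if e then f else id

/-- The words in the generators of the centraliser of `rV vc`. -/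
def wordC (i j k m : Bool) : W → W :=
  pick i (tv vb) ∘ (pick j sG ∘ (pick k (rV vc) ∘ pick m (rV vd)))

/-- The element of order three moving `b` to `c` and `c` to `b + c`. -/
def hG : W → W := (tv vd ∘ tv (vc + vf)) ∘ (tv vf ∘ tv (vb + vf + vd))

theorem cent_words : ∀ f d : W,
    om (rV vc d + d) f = 1 → om (rV vc f + f + (rV vc d + d)) d = 1 →
      om (rV vc d + d) (rV vc f + f + (rV vc d + d)) = 0 → om (rV vc d + d) d = 0 →
      om (rV vc f + f + (rV vc d + d)) f = 0 → om f d = 0 →
      ∃ i j k m : Bool, ∀ x ∈ ({vb, vc, vf, vd} : Finset W),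
        lin (rV vc d + d) (rV vc f + f + (rV vc d + d)) f d x = wordC i j k m x := by
  decide +kernel

theorem cent_b : rV vc vd + vd = vb ∧ rV vc vf + vf + vb = vc := by decide +kernel

theorem rho_t : ∀ x : W, tv vb (rhoG x) = rhoG (tv vb x) ∧ tv vb (rV vc x) = rV vc (tv vb x) ∧
    tv vb (sG x) = sG (tv vb x) ∧ tv vb (tv vb x) = x ∧ sG (rV vc x) = rV vc (sG x) := by
  decide +kernel

theorem hG_spec : ∀ x : W, hG (sG x) = rV vc (hG x) ∧ hG (tv vb x) = tv vb (sG (hG x)) := by
  decide +kernel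

theorem K_right_cancel : ∀ k l : K, detK l = 1 → mulK k l = l → k = oneK := by decide +kernel

theorem K_left_cancel : ∀ k l : K, detK l = 1 → mulK l k = l → k = oneK := by decide +kernel

theorem K_cent : ∀ k : K, detK k = 1 → mulK k kD = mulK kD k →
    k = oneK ∨ k = kD ∨ k = mulK kD kD := by decide +kernel

theorem symp_hG : Symp hG :=
  ((symp_tv _).comp (symp_tv _)).comp ((symp_tv _).comp (symp_tv _))

theorem Symp.surjective {g : W → W} (hg : Symp g) : Function.Surjective g :=
  (Finite.injective_iff_surjective).1 hg.injective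

/-- A map commuting with `rV vc` is a word in the four generators. -/
theorem exists_word {g : W → W} (hg : Symp g) (hc : ∀ x, g (rV vc x) = rV vc (g x)) :
    ∃ i j k m : Bool, g = wordC i j k m := by
  have eb : rV vc (g vd) + g vd = g vb := by rw [← hc, ← hg.add, cent_b.1]
  have ec : rV vc (g vf) + g vf + g vb = g vc := by rw [← hc, ← hg.add, ← hg.add, cent_b.2]
  have key := cent_words (g vf) (g vd)
  simp only [eb, ec, hg.form] at key
  obtain ⟨i, j, k, m, e⟩ := key (by decide) (by decide) (by decide) (by decide) (by decide)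
    (by decide)
  have hs : ∀ (e : Bool) (f : W → W), Symp f → Symp (pick e f) := fun e f hf => by
    cases e
    · exact Symp.id
    · exact hf
  have hw : Symp (wordC i j k m) :=
    (hs i _ (symp_tv _)).comp ((hs j _ symp_sG).comp ((hs k _ (symp_rV _)).comp (hs m _ (symp_rV _))))
  rw [← hg.eq_lin] at e
  exact ⟨i, j, k, m, ext_basis hg hw (e vb (by simp)) fun x hx => e x (by
    simp only [Finset.mem_insert, Finset.mem_singleton] at hx ⊢; tauto)⟩

/-! ### Commutators modulo an involution -/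

section Mod

variable {G : Type*} [Group G]

/-- The elements commuting with `l` and moving `y` at most by `l`. -/
def modGp (l y : G) (hl : l * l = 1) (hy : y * l = l * y) : Subgroup G where
  carrier := {x | x * l = l * x ∧ (x * y = y * x ∨ x * y = y * x * l)}
  one_mem' := ⟨by simp, Or.inl (by simp)⟩
  mul_mem' := by
    rintro x x' ⟨hxl, hx⟩ ⟨hxl', hx'⟩
    refine ⟨(Commute.mul_left hxl hxl' : _), ?_⟩
    rcases hx' with e' | e' <;> rcases hx with e | e
    · exact Or.inl (Commute.mul_left e e' : _)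
    · right
      calc x * x' * y = x * y * x' := by rw [mul_assoc, e', ← mul_assoc]
        _ = y * x * (l * x') := by rw [e]; group
        _ = y * (x * x') * l := by rw [← hxl']; group
    · right
      calc x * x' * y = x * y * x' * l := by rw [mul_assoc, e']; group
        _ = y * (x * x') * l := by rw [e]; group
    · left
      calc x * x' * y = x * y * x' * l := by rw [mul_assoc, e']; group
        _ = y * x * (l * x') * l := by rw [e]; group
        _ = y * (x * x') * (l * l) := by rw [← hxl']; group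
        _ = y * (x * x') := by rw [hl, mul_one]
  inv_mem' := by
    rintro x ⟨hxl, hx⟩
    refine ⟨(Commute.inv_left hxl : _), ?_⟩
    rcases hx with e | e
    · exact Or.inl (Commute.inv_left e : _)
    · right
      have hli : l * x⁻¹ = x⁻¹ * l := (Commute.inv_left hxl).symm
      calc x⁻¹ * y = x⁻¹ * (y * x * l) * (l * x⁻¹) := by
            rw [mul_assoc x⁻¹, mul_assoc (y * x) l, ← mul_assoc l l, hl]; group
        _ = y * (l * x⁻¹) := by rw [← e]; group
        _ = y * x⁻¹ * l := by rw [hli, ← mul_assoc]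

/-- Generators commuting modulo `l` generate a group commuting modulo `l`. -/
theorem closure_mod {l : G} (hl : l * l = 1) {S : Set G} (hS : ∀ x ∈ S, x * l = l * x)
    (h : ∀ x ∈ S, ∀ y ∈ S, x * y = y * x ∨ x * y = y * x * l) :
    ∀ x ∈ Subgroup.closure S, ∀ y ∈ Subgroup.closure S, x * y = y * x ∨ x * y = y * x * l := by
  intro x hx y hy
  have h1 : ∀ w (hw : w ∈ S), ∀ u ∈ Subgroup.closure S,
      u ∈ modGp l w hl (hS w hw) := fun w hw u hu =>
    (Subgroup.closure_le (modGp l w hl (hS w hw))).2 (fun v hv => ⟨hS v hv, h v hv w hw⟩) hu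
  have hyl : y * l = l * y := by
    refine Subgroup.closure_induction (fun v hv => hS v hv) (by simp) ?_ ?_ hy
    · exact fun a b _ _ ha hb => (Commute.mul_left ha hb : _)
    · exact fun a _ ha => (Commute.inv_left ha : _)
  have h2 : Subgroup.closure S ≤ modGp l y hl hyl := by
    refine (Subgroup.closure_le _).2 fun w hw => ⟨hS w hw, ?_⟩
    rcases (h1 w hw y hy).2 with e | e
    · exact Or.inl e.symm
    · refine Or.inr ?_
      rw [e, mul_assoc _ l l, hl, mul_one]
  exact (h2 hx).2

end Mod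

namespace Lifts

variable {G : Type*} [Group G] [Finite G] {z : G} {Q : Subgroup G} {χ : G → V}
  {d s r l0 l1 : G}

/-- Elements centralising `z` and `d` with the same action differ by a power of `z`. -/
theorem eq_of_acts (F : Frame z Q χ) (L : Lifts z Q χ d s r l0 l1) {x y : G} {k : K} {g : W → W}
    (hk : detK k = 1) (hg : Symp g) (hxz : x * z = z * x) (hxd : x * d = d * x)
    (hyz : y * z = z * y) (hyd : y * d = d * y) (ax : Acts Q χ x k g) (ay : Acts Q χ y k g) :
    x = y ∨ x = y * z := by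
  have hz : (y⁻¹ * x) * z = z * (y⁻¹ * x) := (Commute.mul_left (Commute.inv_left hyz) hxz : _)
  have hd : (y⁻¹ * x) * d = d * (y⁻¹ * x) := (Commute.mul_left (Commute.inv_left hyd) hxd : _)
  obtain ⟨k2, g2, hk2, hg2, a2⟩ := F.acts _ hz
  have a := F.acts_mul hz hg ay a2
  rw [mul_inv_cancel_left] at a
  obtain ⟨ek, eg⟩ := act_inj (k := mulK k k2) (l := k) (hg.comp hg2) hg (by rw [detK_mul, hk, hk2, one_mul]) hk fun v => by
    obtain ⟨c, hc, rfl⟩ := F.map_surj v
    exact (a c hc).symm.trans (ax c hc)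
  have e1 : k2 = oneK := K_left_cancel _ _ hk ek
  have e2 : g2 = id := funext fun v => hg.injective (congrFun eg v)
  rcases F.fix_d L.d_act (F.mem_of_acts _ hz (e1 ▸ e2 ▸ a2)) hd with e | e
  · exact Or.inl (inv_mul_eq_one.1 e).symm
  · exact Or.inr (inv_mul_eq_iff_eq_mul.1 e)

/-- Conjugation by a central square. -/
theorem sq_cases (F : Frame z Q χ) (L : Lifts z Q χ d s r l0 l1) {x : G} {g : W → W} (hg : Symp g)
    (hxz : x * z = z * x) (hxd : x * d = d * x) (ax : Acts Q χ x oneK g)
    (hgg : ∀ v, g (g v) = v) : x * x = 1 ∨ x * x = z := by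
  have a := F.acts_mul hxz hg ax ax
  rw [oneK_mul, show g ∘ g = id from funext hgg] at a
  rcases eq_of_acts F L detK_one Symp.id (Commute.mul_left hxz hxz : _)
    (Commute.mul_left hxd hxd : _) (by simp) (by simp) a (F.acts_of_mem (one_mem Q)) with e | e
  · exact Or.inl e
  · exact Or.inr (by rw [e, one_mul])

theorem s_l0 (F : Frame z Q χ) (L : Lifts z Q χ d s r l0 l1) : s * l0 * s⁻¹ = l0 := by
  have h2 : s * s * l1 * (s * s)⁻¹ = (s * l0 * s⁻¹) * (l0 * l1) := by
    calc s * s * l1 * (s * s)⁻¹ = s * (s * l1 * s⁻¹) * s⁻¹ := by group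
      _ = s * (l0 * l1) * s⁻¹ := by rw [L.s_conj]
      _ = (s * l0 * s⁻¹) * (s * l1 * s⁻¹) := by group
      _ = _ := by rw [L.s_conj]
  have h3 : s * s * l1 * (s * s)⁻¹ = l1 := by
    rcases sq_cases F L symp_sG L.sz L.sd L.s_act (fun v => (sG_facts v).2.2.1) with e | e <;> rw [e]
    · simp
    · rw [← L.l1z, mul_inv_cancel_right]
  rw [h3, ← mul_assoc] at h2
  have h4 : s * l0 * s⁻¹ * l0 = 1 := mul_eq_right.1 h2.symm
  calc s * l0 * s⁻¹ = s * l0 * s⁻¹ * (l0 * l0) := by rw [L.l0_sq, mul_one]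
    _ = l0 := by rw [← mul_assoc, h4, one_mul]

/-- A lift of the transvection along `b` commutes with the other lifts. -/
theorem t_comm (F : Frame z Q χ) (L : Lifts z Q χ d s r l0 l1) {t : G} (htz : t * z = z * t)
    (htd : t * d = d * t) (at' : Acts Q χ t oneK (tv vb)) :
    t * l0 = l0 * t ∧ t * l1 = l1 * t ∧ t * s = s * t := by
  have hzc : ∀ {u : G}, u * z = z * u → ∀ {ε : G}, (ε = 1 ∨ ε = z) → u * ε = ε * u := by
    intro u hu ε hε
    rcases hε with rfl | rfl
    · simp
    · exact hu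
  have move : ∀ {u : G} {g : W → W}, Symp g → u * z = z * u → u * d = d * u →
      Acts Q χ u oneK g → (∀ v, tv vb (g v) = g (tv vb v)) →
      ∃ ε, (ε = 1 ∨ ε = z) ∧ t * u * t⁻¹ = u * ε := by
    intro u g hg huz hud au hc
    have a1 := F.acts_mul huz (symp_tv vb) at' au
    have a2 := F.acts_mul htz hg au at'
    rw [oneK_mul, show tv vb ∘ g = g ∘ tv vb from funext hc] at a1
    rw [oneK_mul] at a2
    rcases eq_of_acts F L detK_one (hg.comp (symp_tv vb)) (Commute.mul_left htz huz : _)
      (Commute.mul_left htd hud : _) (Commute.mul_left huz htz : _) (Commute.mul_left hud htd : _)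
      a1 a2 with e | e
    · exact ⟨1, Or.inl rfl, by rw [e, mul_inv_cancel_right, mul_one]⟩
    · exact ⟨z, Or.inr rfl, by
        rw [e, mul_assoc u t z, htz, ← mul_assoc, mul_inv_cancel_right]⟩
  obtain ⟨ε, hε, he⟩ := move (symp_rV vc) L.l0z L.l0d L.l0_act (fun v => (rho_t v).2.1)
  obtain ⟨η, hη, hr⟩ := move symp_rhoG L.rz L.rd L.r_act (fun v => (rho_t v).1)
  obtain ⟨ζ, hζ, hs⟩ := move symp_sG L.sz L.sd L.s_act (fun v => (rho_t v).2.2.1)
  have hl1 : t * l1 * t⁻¹ = l1 * ε := by
    have c : ε * r⁻¹ = r⁻¹ * ε := (hzc (Commute.inv_left L.rz : _) hε).symm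
    calc t * l1 * t⁻¹ = (t * r * t⁻¹) * (t * l0 * t⁻¹) * (t * r * t⁻¹)⁻¹ := by
          rw [← L.r_conj]; group
      _ = r * (η * (l0 * ε)) * η⁻¹ * r⁻¹ := by rw [hr, he]; group
      _ = r * (l0 * ε) * r⁻¹ := by
          rw [← hzc (show (l0 * ε) * z = z * (l0 * ε) from
            Commute.mul_left (c := z) L.l0z (by rcases hε with rfl | rfl <;> simp [Commute, SemiconjBy]))
            hη]
          group
      _ = r * l0 * r⁻¹ * ε := by rw [mul_assoc r, mul_assoc l0, c]; group
      _ = l1 * ε := by rw [L.r_conj]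
  have hεε : ε * ε = 1 := by
    rcases hε with rfl | rfl
    · simp
    · exact F.setting.ci.sq
  -- conjugate the relation `s l1 s⁻¹ = l0 l1`
  have hε1 : ε = 1 := by
    have hr0 : t * (l0 * l1) * t⁻¹ = l0 * l1 := by
      calc t * (l0 * l1) * t⁻¹ = (t * l0 * t⁻¹) * (t * l1 * t⁻¹) := by group
        _ = l0 * (ε * l1) * ε := by rw [he, hl1]; group
        _ = l0 * (l1 * ε) * ε := by rw [hzc L.l1z hε]
        _ = _ := by rw [mul_assoc, mul_assoc l1, hεε, mul_one]
    have hl : t * (s * l1 * s⁻¹) * t⁻¹ = l0 * l1 * ε := by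
      have c : ε * s⁻¹ = s⁻¹ * ε := (hzc (Commute.inv_left L.sz : _) hε).symm
      calc t * (s * l1 * s⁻¹) * t⁻¹ = (t * s * t⁻¹) * (t * l1 * t⁻¹) * (t * s * t⁻¹)⁻¹ := by group
        _ = s * (ζ * (l1 * ε)) * ζ⁻¹ * s⁻¹ := by rw [hs, hl1]; group
        _ = s * (l1 * ε) * s⁻¹ := by
            rw [← hzc (show (l1 * ε) * z = z * (l1 * ε) from
              Commute.mul_left (c := z) L.l1z
                (by rcases hε with rfl | rfl <;> simp [Commute, SemiconjBy])) hζ]
            group
        _ = s * l1 * s⁻¹ * ε := by rw [mul_assoc s, mul_assoc l1, c]; group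
        _ = _ := by rw [L.s_conj]
    rw [L.s_conj, hr0] at hl
    exact left_eq_mul.1 hl
  subst hε1
  rw [mul_one] at he hl1
  have h0 := mul_inv_eq_iff_eq_mul.1 he
  have h1 := mul_inv_eq_iff_eq_mul.1 hl1
  refine ⟨h0, h1, ?_⟩
  -- squares of conjugate elements
  obtain ⟨m, hmz, hmd, am⟩ := F.lift_d L.dz L.d_ord L.d_act symp_hG detK_one
    (show mulK oneK kD = mulK kD oneK by decide) (F.real_pair (by decide) (by decide))
  have sqconj : ∀ {x y : G} {g g' : W → W}, Symp g → Symp g' → (∀ v, g (g v) = v) →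
      x * z = z * x → x * d = d * x → y * z = z * y → y * d = d * y →
      Acts Q χ x oneK g → Acts Q χ y oneK g' → (∀ v, hG (g v) = g' (hG v)) → y * y = x * x := by
    intro x y g g' hg hg' hgg hxz hxd hyz hyd ax ay hh
    have a1 := F.acts_mul hxz symp_hG am ax
    have a2 := F.acts_mul hmz hg' ay am
    rw [oneK_mul, show hG ∘ g = g' ∘ hG from funext hh] at a1
    rw [oneK_mul] at a2
    have hxx := sq_cases F L hg hxz hxd ax hgg
    have hmi : m * (x * x) * m⁻¹ = x * x := by rw [hzc hmz hxx, mul_inv_cancel_right]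
    rcases eq_of_acts F L detK_one (hg'.comp symp_hG) (Commute.mul_left hyz hmz : _)
      (Commute.mul_left hyd hmd : _) (Commute.mul_left hmz hxz : _) (Commute.mul_left hmd hxd : _)
      a2 a1 with e | e
    · calc y * y = (y * m * m⁻¹) * (y * m * m⁻¹) := by group
        _ = m * (x * x) * m⁻¹ := by rw [e]; group
        _ = _ := hmi
    · calc y * y = (y * m * m⁻¹) * (y * m * m⁻¹) := by group
        _ = m * x * (z * m⁻¹) * (m * x * (z * m⁻¹)) := by rw [e]; group
        _ = m * x * (m⁻¹ * z) * (m * x * (m⁻¹ * z)) := by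
            rw [(Commute.inv_left hmz : m⁻¹ * z = z * m⁻¹)]
        _ = m * x * m⁻¹ * (z * (m * x * m⁻¹)) * z := by group
        _ = m * x * m⁻¹ * ((m * x * m⁻¹) * z) * z := by
            rw [(Commute.mul_left (Commute.mul_left hmz hxz) (Commute.inv_left hmz)).symm.eq]
        _ = m * (x * x) * m⁻¹ * (z * z) := by group
        _ = _ := by rw [hmi, F.setting.ci.sq, mul_one]
  have hss : s * s = 1 := by
    rw [← sqconj symp_sG (symp_rV vc) (fun v => (sG_facts v).2.2.1) L.sz L.sd L.l0z L.l0d L.s_act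
      L.l0_act (fun v => (hG_spec v).1), L.l0_sq]
  have ats := F.acts_mul L.sz (symp_tv vb) at' L.s_act
  rw [oneK_mul] at ats
  have hts : t * s * (t * s) = t * t :=
    sqconj (symp_tv vb) ((symp_tv vb).comp symp_sG) (fun v => (rho_t v).2.2.2.1) htz htd
      (Commute.mul_left htz L.sz : _) (Commute.mul_left htd L.sd : _) at' ats
      (fun v => (hG_spec v).2)
  have h5 : s * (t * s) = t := mul_left_cancel ((mul_assoc t s (t * s)).symm.trans hts)
  calc t * s = s * s * (t * s) := by rw [hss, one_mul]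
    _ = s * (s * (t * s)) := mul_assoc _ _ _
    _ = s * t := by rw [h5]

/-- The generators of the centraliser of `l0`. -/
def gens (z : G) (Q : Subgroup G) (χ : G → V) (d s l0 l1 : G) : Set G :=
  {x | x = d ∨ x = z ∨ x = s ∨ x = l0 ∨ x = l1 ∨
    (x * z = z * x ∧ x * d = d * x ∧ Acts Q χ x oneK (tv vb))}

theorem mem_gens (F : Frame z Q χ) (L : Lifts z Q χ d s r l0 l1) {a : G} (haz : a * z = z * a)
    (had : a * d = d * a) (hal : a * l0 = l0 * a) :
    a ∈ Subgroup.closure (gens z Q χ d s l0 l1) := by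
  set K' := Subgroup.closure (gens z Q χ d s l0 l1) with hK
  have hd : d ∈ K' := Subgroup.subset_closure (Or.inl rfl)
  have hz : z ∈ K' := Subgroup.subset_closure (Or.inr (Or.inl rfl))
  obtain ⟨k, g, hk, hg, aa⟩ := F.acts a haz
  -- the first component
  have hkD : mulK k kD = mulK kD k := by
    have e1 := F.acts_mul L.dz hg aa L.d_act
    have e2 := F.acts_mul haz Symp.id L.d_act aa
    rw [had] at e1
    refine (act_inj (g := g ∘ id) (h := id ∘ g) (hg.comp Symp.id) (Symp.id.comp hg) ?_ ?_ fun v => ?_).1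
    · rw [detK_mul, hk, show detK kD = 1 by decide, one_mul]
    · rw [detK_mul, hk, show detK kD = 1 by decide, one_mul]
    · obtain ⟨c, hc, rfl⟩ := F.map_surj v
      exact (e1 c hc).symm.trans (e2 c hc)
  have hcomm : ∀ x, g (rV vc x) = rV vc (g x) := by
    have e1 := F.acts_mul L.l0z hg aa L.l0_act
    have e2 := F.acts_mul haz (symp_rV vc) L.l0_act aa
    rw [hal] at e1
    rw [oneK_mul] at e2
    refine fun x => congrFun (act_inj (k := mulK k oneK) (l := k) (hg.comp (symp_rV vc)) ((symp_rV vc).comp hg) ?_ hk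
      fun v => ?_).2 x
    · rw [detK_mul, hk, detK_one, one_mul]
    · obtain ⟨c, hc, rfl⟩ := F.map_surj v
      exact (e1 c hc).symm.trans (e2 c hc)
  obtain ⟨i, j, n, m, rfl⟩ := exists_word hg hcomm
  -- a lift of the pair without the transvection
  let Good : K → (W → W) → Prop := fun l h => detK l = 1 ∧ Symp h ∧
    ∃ u, u * z = z * u ∧ u * d = d * u ∧ u ∈ K' ∧ Acts Q χ u l h
  have good_mul : ∀ {l l' h h'}, Good l h → Good l' h' → Good (mulK l l') (h ∘ h') := by
    rintro l l' h h' ⟨hl, hh, u, huz, hud, huK, au⟩ ⟨hl', hh', u', huz', hud', huK', au'⟩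
    exact ⟨by rw [detK_mul, hl, hl', one_mul], hh.comp hh', u * u',
      (Commute.mul_left huz huz' : _), (Commute.mul_left hud hud' : _), mul_mem huK huK',
      F.acts_mul huz' hh au au'⟩
  have good_one : Good oneK id :=
    ⟨detK_one, Symp.id, 1, by simp, by simp, one_mem _, F.acts_of_mem (one_mem Q)⟩
  have good_pick : ∀ (e : Bool) (x : G) (f : W → W), Symp f → x * z = z * x → x * d = d * x →
      x ∈ K' → Acts Q χ x oneK f → Good oneK (pick e f) := by
    intro e x f hf hxz hxd hxK ax
    cases e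
    · exact good_one
    · exact ⟨detK_one, hf, x, hxz, hxd, hxK, ax⟩
  have good_kD : Good kD id := ⟨by decide, Symp.id, d, L.dz, rfl, hd, L.d_act⟩
  have good_k : Good k id := by
    rcases K_cent k hk hkD with rfl | rfl | rfl
    · exact good_one
    · exact good_kD
    · exact good_mul good_kD good_kD
  have hs : s ∈ K' := Subgroup.subset_closure (Or.inr (Or.inr (Or.inl rfl)))
  have hl0 : l0 ∈ K' := Subgroup.subset_closure (Or.inr (Or.inr (Or.inr (Or.inl rfl))))
  have hl1 : l1 ∈ K' := Subgroup.subset_closure (Or.inr (Or.inr (Or.inr (Or.inr (Or.inl rfl)))))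
  have good := good_mul good_k (good_mul (good_pick j s sG symp_sG L.sz L.sd hs L.s_act)
    (good_mul (good_pick n l0 _ (symp_rV vc) L.l0z L.l0d hl0 L.l0_act)
      (good_pick m l1 _ (symp_rV vd) L.l1z L.l1d hl1 L.l1_act)))
  set w' := pick j sG ∘ (pick n (rV vc) ∘ pick m (rV vd)) with hw'
  have good' : Good k w' := by
    have e : mulK k (mulK oneK (mulK oneK oneK)) = k := by simp [mulK, oneK]
    rw [e] at good
    exact good
  obtain ⟨-, hw, u, huz, hud, huK, au⟩ := good'
  set τ := a * u⁻¹ with hτ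
  have hτz : τ * z = z * τ := (Commute.mul_left haz (Commute.inv_left huz) : _)
  have hτd : τ * d = d * τ := (Commute.mul_left had (Commute.inv_left hud) : _)
  obtain ⟨k2, g2, hk2, hg2, aτ⟩ := F.acts τ hτz
  have a2 := F.acts_mul huz hg2 aτ au
  rw [hτ, inv_mul_cancel_right] at a2
  obtain ⟨ek, eg⟩ := act_inj (k := mulK k2 k) (l := k) (hg2.comp hw) hg (by rw [detK_mul, hk2, hk, one_mul]) hk fun v => by
    obtain ⟨c, hc, rfl⟩ := F.map_surj v
    exact (a2 c hc).symm.trans (aa c hc)
  have e1 : k2 = oneK := K_right_cancel _ _ hk ek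
  have e2 : g2 = pick i (tv vb) := funext fun v => by
    obtain ⟨y, rfl⟩ := hw.surjective v
    exact congrFun eg y
  rw [show a = τ * u by rw [hτ, inv_mul_cancel_right]]
  refine mul_mem ?_ huK
  rw [e1, e2] at aτ
  cases i
  · rcases F.fix_d L.d_act (F.mem_of_acts τ hτz aτ) hτd with e | e <;> rw [e]
    · exact one_mem _
    · exact hz
  · exact Subgroup.subset_closure (Or.inr (Or.inr (Or.inr (Or.inr (Or.inr ⟨hτz, hτd, aτ⟩)))))

/-- Commutators in the centraliser of `d` and `l0` lie in the group of `l0`. -/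
theorem comm_mem {G : Type*} [Group G] [Finite G] {z : G} {Q : Subgroup G} {χ : G → V}
    {d s r l0 l1 : G} (F : Frame z Q χ) (L : Lifts z Q χ d s r l0 l1) {a b : G}
    (haz : a * z = z * a) (had : a * d = d * a) (hal : a * l0 = l0 * a) (hbz : b * z = z * b)
    (hbd : b * d = d * b) (hbl : b * l0 = l0 * b) :
    a * b * a⁻¹ * b⁻¹ = 1 ∨ a * b * a⁻¹ * b⁻¹ = l0 := by
  have hs0 : s * l0 = l0 * s := mul_inv_eq_iff_eq_mul.1 (s_l0 F L)
  have hs1 : s * l1 = l1 * s * l0 := by
    calc s * l1 = l0 * l1 * s := mul_inv_eq_iff_eq_mul.1 L.s_conj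
      _ = l1 * (l0 * s) := by rw [L.l01]; group
      _ = l1 * s * l0 := by rw [← hs0, mul_assoc]
  have hs1' : l1 * s = s * l1 * l0 := by
    rw [hs1, mul_assoc _ l0 l0, L.l0_sq, mul_one]
  have hl : ∀ x ∈ gens z Q χ d s l0 l1, x * l0 = l0 * x := by
    rintro x (rfl | rfl | rfl | rfl | rfl | ⟨hxz, hxd, ax⟩)
    · exact L.l0d.symm
    · exact L.l0z.symm
    · exact hs0
    · rfl
    · exact L.l01.symm
    · exact (t_comm F L hxz hxd ax).1
  have hgen : ∀ x ∈ gens z Q χ d s l0 l1, ∀ y ∈ gens z Q χ d s l0 l1,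
      x * y = y * x ∨ x * y = y * x * l0 := by
    rintro x (rfl | rfl | rfl | rfl | rfl | ⟨hxz, hxd, ax⟩) y
      (rfl | rfl | rfl | rfl | rfl | ⟨hyz, hyd, ay⟩)
    · exact Or.inl rfl
    · exact Or.inl L.dz
    · exact Or.inl L.sd.symm
    · exact Or.inl L.l0d.symm
    · exact Or.inl L.l1d.symm
    · exact Or.inl hyd.symm
    · exact Or.inl L.dz.symm
    · exact Or.inl rfl
    · exact Or.inl L.sz.symm
    · exact Or.inl L.l0z.symm
    · exact Or.inl L.l1z.symm
    · exact Or.inl hyz.symm
    · exact Or.inl L.sd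
    · exact Or.inl L.sz
    · exact Or.inl rfl
    · exact Or.inl hs0
    · exact Or.inr hs1
    · exact Or.inl (t_comm F L hyz hyd ay).2.2.symm
    · exact Or.inl L.l0d
    · exact Or.inl L.l0z
    · exact Or.inl hs0.symm
    · exact Or.inl rfl
    · exact Or.inl L.l01
    · exact Or.inl (t_comm F L hyz hyd ay).1.symm
    · exact Or.inl L.l1d
    · exact Or.inl L.l1z
    · exact Or.inr hs1'
    · exact Or.inl L.l01.symm
    · exact Or.inl rfl
    · exact Or.inl (t_comm F L hyz hyd ay).2.1.symm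
    · exact Or.inl hxd
    · exact Or.inl hxz
    · exact Or.inl (t_comm F L hxz hxd ax).2.2
    · exact Or.inl (t_comm F L hxz hxd ax).1
    · exact Or.inl (t_comm F L hxz hxd ax).2.1
    · rcases eq_of_acts F L detK_one (symp_tv vb) hxz hxd hyz hyd ax ay with rfl | rfl
      · exact Or.inl rfl
      · exact Or.inl ((Commute.refl y).mul_left hyz.symm : _)
  rcases closure_mod L.l0_sq hl hgen a (mem_gens F L haz had hal) b (mem_gens F L hbz hbd hbl)
    with e | e
  · left
    rw [e]; group
  · right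
    have ha' : l0 * a⁻¹ = a⁻¹ * l0 := ((Commute.inv_left hal).symm : _)
    have hb' : l0 * b⁻¹ = b⁻¹ * l0 := ((Commute.inv_left hbl).symm : _)
    calc a * b * a⁻¹ * b⁻¹ = b * a * (l0 * a⁻¹) * b⁻¹ := by rw [e]; group
      _ = b * (l0 * b⁻¹) := by rw [ha']; group
      _ = l0 := by rw [hb']; group

end Lifts

end Cfsg.Agent.H49
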