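import Cfsg.Agent.H49.Lifts

/-!
The intersection at a pure conjugate and the lifts inside the side group.
-/

set_option autoImplicit false
set_option linter.unusedSectionVars false
set_option linter.unusedVariables false
set_option linter.style.haveILetI false
set_option synthInstance.maxSize 2048

namespace Cfsg.Agent.H49

open Cfsg.Agent.LargeExtra

/-! ### Finite facts -/

/-- The set contained in the intersection. -/
def Low (v : V) : Prop := om vb v.1 = 0 ∧ (v.2 = 0 ∨ v.2 = vb)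

instance (v : V) : Decidable (Low v) := inferInstanceAs (Decidable (_ ∧ _))

theorem vX : ∀ X : W, om vb X = 0 →
    ∃ a b c : ZMod 2, X = a • vb + b • vc + c • vd := by decide +kernel

theorem rV_invol : ∀ v ∈ ({vc, vd, vc + vd} : Finset W), ∀ x : W, rV v (rV v x) = x := by
  decide +kernel

theorem rho_cycle : ∀ x : W, rhoG (rV vc (rhoG (rhoG x))) = rV vd x ∧
    rhoG (rV vd (rhoG (rhoG x))) = rV (vc + vd) x ∧
    rhoG (rV (vc + vd) (rhoG (rhoG x))) = rV vc x ∧ rhoG (rhoG (rhoG x)) = x ∧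
    rV vc (rV vd x) = rV (vc + vd) x ∧ rhoG vb = vb := by decide +kernel

theorem sG_facts : ∀ x : W, sG (rhoG (sG x)) = rhoG (rhoG x) ∧ sG (rV vc (sG x)) = rV vc x ∧
    sG (sG x) = x ∧ sG (rV vd (sG (rV vd x))) = rV vc x ∧ sG vb = vb := by decide +kernel

theorem invol_fix_b : ∀ c f d : W, om vb f = 1 → om vb d = 0 → om vb c = 0 → om c d = 1 →
    om c f = 0 → om f d = 0 →
    (∀ x ∈ ({vc, vf, vd} : Finset W), lin vb c f d (lin vb c f d x) = x) →
    (∀ x ∈ ({vc, vf, vd} : Finset W),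
      lin vb c f d (rhoG (lin vb c f d (rhoG (rhoG x)))) =
        rhoG (lin vb c f d (rhoG (rhoG (lin vb c f d x))))) →
    (∀ x ∈ ({vc, vf, vd} : Finset W), lin vb c f d x = x) ∨
    (∀ x ∈ ({vc, vf, vd} : Finset W), lin vb c f d x = tv vb x) ∨
    ∃ v ∈ ({vc, vd, vc + vd} : Finset W), ∀ x ∈ ({vc, vf, vd} : Finset W),
      lin vb c f d (rhoG (lin vb c f d (rhoG (rhoG x)))) = rV v x := by
  decide +kernel

theorem low_X : ∀ X : W, (rV vc X + X = 0 ∨ rV vc X + X = vb) → om vb X = 0 := by decide +kernel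

theorem low_Y : ∀ Y U : W, rV vc Y + Y = 0 → om vb Y = 0 → om vb U = 1 →
    (Y = 0 ∨ Y = vb) ∨ (rV vc U + U + Y = 0 ∨ rV vc U + U + Y = vb) := by decide +kernel

theorem low_U : ∀ U : W, om vb (rV vc U + U) = 0 := by decide +kernel

theorem low_spec : rV vc vf + vf = vc + vb ∧ rV vd vf + vf = vd + vb ∧ rV vc vd + vd = vb ∧
    rV vd 0 = 0 ∧ rV vc 0 = 0 := by decide +kernel

theorem symp_rV (v : W) : Symp (rV v) := (symp_tv v).comp (symp_tv _)
theorem symp_sG : Symp sG := (symp_tv _).comp (symp_tv _)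
theorem symp_rhoG : Symp rhoG := (symp_tv _).comp (symp_tv _)

theorem ext_basis {g h : W → W} (hg : Symp g) (hh : Symp h) (hb : g vb = h vb)
    (e : ∀ x ∈ ({vc, vf, vd} : Finset W), g x = h x) : g = h := by
  rw [hg.eq_lin, hh.eq_lin, hb, e vc (by simp), e vf (by simp), e vd (by simp)]

/-- A pair fixing the normal form. -/
theorem fix_pair {k : K} {h : W → W} (hh : Symp h) (hk : detK k = 1)
    (e : act k h (vb, 0) = (vb, 0)) : k.1 = 1 ∧ k.2.2.1 = 0 ∧ h vb = vb := by
  have h1 : k.1 • h vb = vb := by simpa [act, appK, hh.zero] using congrArg Prod.fst e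
  have h2 : k.2.2.1 • h vb = 0 := by simpa [act, appK, hh.zero] using congrArg Prod.snd e
  rcases z2cases k.1 with a | a
  · rw [a, zero_smul] at h1; exact absurd h1 (by decide)
  · rw [a, one_smul] at h1
    rw [h1] at h2
    rcases z2cases k.2.2.1 with c | c
    · exact ⟨a, c, h1⟩
    · rw [c, one_smul] at h2; exact absurd h2 (by decide)

namespace Frame

variable {G : Type*} [Group G] [Finite G] {z : G} {Q : Subgroup G} {χ : G → V}

theorem real_pair (F : Frame z Q χ) {u v w y : W} (h1 : om u v = 1) (h2 : om w y = 1) :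
    Real z Q χ oneK ((tv u ∘ tv v) ∘ (tv w ∘ tv y)) := by
  have := F.real_mul ((symp_tv u).comp (symp_tv v)) (F.realP u v h1) (F.realP w y h2)
  rwa [oneK_mul] at this

theorem split_even : ∀ x : W, rV vc x = ((tv vc ∘ tv vd) ∘ (tv vd ∘ tv (vc + vb))) x ∧
    rV vd x = ((tv vd ∘ tv vc) ∘ (tv vc ∘ tv (vd + vb))) x ∧
    sG x = ((tv vb ∘ tv (vf + vd)) ∘ (tv (vf + vd) ∘ tv vc)) x := by decide +kernel

theorem real_rhoG (F : Frame z Q χ) : Real z Q χ oneK rhoG := F.realP vc vd (by decide)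

theorem real_sG (F : Frame z Q χ) : Real z Q χ oneK sG := by
  have e : sG = (tv vb ∘ tv (vf + vd)) ∘ (tv (vf + vd) ∘ tv vc) := funext fun x => (split_even x).2.2
  rw [e]; exact F.real_pair (by decide) (by decide)

theorem real_rVc (F : Frame z Q χ) : Real z Q χ oneK (rV vc) := by
  have e : rV vc = (tv vc ∘ tv vd) ∘ (tv vd ∘ tv (vc + vb)) := funext fun x => (split_even x).1
  rw [e]; exact F.real_pair (by decide) (by decide)

theorem real_rVd (F : Frame z Q χ) : Real z Q χ oneK (rV vd) := by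
  have e : rV vd = (tv vd ∘ tv vc) ∘ (tv vc ∘ tv (vd + vb)) := funext fun x => (split_even x).2.1
  rw [e]; exact F.real_pair (by decide) (by decide)

/-- An element realising `kD` of order three. -/
theorem exists_d (F : Frame z Q χ) : ∃ d : G, d * z = z * d ∧ orderOf d = 3 ∧ Acts Q χ d kD id := by
  obtain ⟨m, hm, am⟩ := F.realD
  have hpow : ∀ j : ℕ, m ^ j * z = z * m ^ j ∧
      Acts Q χ (m ^ j) (if j % 3 = 0 then oneK else if j % 3 = 1 then kD else mulK kD kD) id := by
    intro j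
    induction j with
    | zero => exact ⟨by simp, by simpa using F.acts_of_mem (one_mem Q)⟩
    | succ j ih =>
      refine ⟨(Commute.pow_left hm _ : _), ?_⟩
      rw [pow_succ]
      have := F.acts_mul hm Symp.id ih.2 am
      simp only [Function.comp_id] at this
      have hc : j % 3 = 0 ∧ (j + 1) % 3 = 1 ∨ j % 3 = 1 ∧ (j + 1) % 3 = 2 ∨
          j % 3 = 2 ∧ (j + 1) % 3 = 0 := by omega
      rcases hc with ⟨a, b⟩ | ⟨a, b⟩ | ⟨a, b⟩ <;> simp [a, b] at this ⊢
      · rwa [oneK_mul] at this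
      · exact this
      · rwa [show mulK (mulK kD kD) kD = oneK by decide] at this
  -- the two-part of `m ^ 3`
  have h3Q : m ^ 3 ∈ Q := F.mem_of_acts _ (hpow 3).1 (by simpa using (hpow 3).2)
  obtain ⟨e, he⟩ := F.setting.ci.isPGroup ⟨m ^ 3, h3Q⟩
  have hme : (m ^ 2 ^ e) ^ 3 = 1 := by
    rw [← pow_mul, mul_comm, pow_mul]; exact congrArg Subtype.val he
  have hone : ∀ d : G, d ^ 3 = 1 → Acts Q χ d kD id → orderOf d = 3 := by
    intro d hd ad
    haveI : Fact (Nat.Prime 3) := ⟨Nat.prime_three⟩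
    refine orderOf_eq_prime hd fun h1 => ?_
    obtain ⟨a, ha, hav⟩ := F.map_surj (vb, 0)
    have := ad a ha
    rw [h1, hav] at this
    simp [hav] at this
    exact absurd this (by decide)
  have h2e : 2 ^ e % 3 = 1 ∨ 2 ^ e % 3 = 2 := by
    clear he hme hpow hone
    induction e with
    | zero => simp
    | succ e ih => rw [pow_succ, Nat.mul_mod]; rcases ih with h | h <;> simp [h]
  rcases h2e with h | h
  · have := (hpow (2 ^ e)).2
    simp [h] at this
    exact ⟨_, (hpow _).1, hone _ hme this, this⟩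
  · have := (hpow (2 ^ e * 2)).2
    have h' : 2 ^ e * 2 % 3 = 1 := by omega
    simp [h'] at this
    refine ⟨_, (hpow _).1, hone _ ?_ this, this⟩
    rw [pow_mul, ← pow_mul, mul_comm, pow_mul, hme, one_pow]

theorem kD_surj : ∀ v : V, ∃ u : V, u + act kD id u = v := by decide +kernel

/-- Lifting into the centraliser of `d`. -/
theorem lift_d (F : Frame z Q χ) {d : G} (hdz : d * z = z * d) (hd3 : orderOf d = 3)
    (hd : Acts Q χ d kD id) {k : K} {h : W → W} (hh : Symp h) (hk : detK k = 1)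
    (hkD : mulK k kD = mulK kD k) (hr : Real z Q χ k h) :
    ∃ m, m * z = z * m ∧ m * d = d * m ∧ Acts Q χ m k h := by
  obtain ⟨m, hm, am⟩ := hr
  have hmi : m⁻¹ * z = z * m⁻¹ := (Commute.inv_left hm : _)
  have hdi : d⁻¹ * z = z * d⁻¹ := (Commute.inv_left hdz : _)
  set c := m * d * m⁻¹ * d⁻¹ with hc
  have hcz : c * z = z * c :=
    (Commute.mul_left (Commute.mul_left (Commute.mul_left hm hdz) hmi) hdi : _)
  have hcQ : c ∈ Q := by
    refine F.mem_of_acts c hcz ?_
    intro a ha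
    set b := d⁻¹ * a * d with hb
    have hbQ : b ∈ Q := by
      rw [hb]; simpa using F.setting.norm d⁻¹ hdi a ha
    set b' := m⁻¹ * b * m with hb'
    have hbQ' : b' ∈ Q := by
      rw [hb']; simpa using F.setting.norm m⁻¹ hmi b hbQ
    have e1 : c * a * c⁻¹ = m * (d * b' * d⁻¹) * m⁻¹ := by rw [hc, hb', hb]; group
    have e2 : a = d * (m * b' * m⁻¹) * d⁻¹ := by rw [hb', hb]; group
    rw [e1, am _ (F.setting.norm d hdz b' hbQ'), hd b' hbQ']
    conv_rhs => rw [e2, hd _ (F.setting.norm m hm b' hbQ'), am b' hbQ']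
    simp only [act, id, appK_one, Prod.mk.eta]
    rw [← appK_mul kD k, ← hkD, appK_mul]
    simp only [appK, hh.add, hh.smul]
  obtain ⟨u, hu⟩ := kD_surj (χ c)
  obtain ⟨q, hq, rfl⟩ := F.map_surj u
  have hq' : q * d * q⁻¹ * d⁻¹ ∈ Q := by
    rw [mul_assoc q d, mul_assoc]
    exact mul_mem hq (F.setting.norm d hdz _ (inv_mem hq))
  have hval : χ (q * d * q⁻¹ * d⁻¹) = χ c := by
    rw [show q * d * q⁻¹ * d⁻¹ = q * (d * q⁻¹ * d⁻¹) by group,
      F.map_mul _ hq _ (F.setting.norm d hdz _ (inv_mem hq)), hd _ (inv_mem hq), F.map_inv hq, hu]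
  have hc3 : (c * d) ^ 3 = 1 := by
    rw [hc, inv_mul_cancel_right, conj_pow, ← hd3, pow_orderOf_eq_one, mul_one, mul_inv_cancel]
  have hq3 : (q * d * q⁻¹) ^ 3 = 1 := by
    rw [conj_pow, ← hd3, pow_orderOf_eq_one, mul_one, mul_inv_cancel]
  have key : q * d * q⁻¹ = c * d := by
    rcases F.eq_or_mul hcQ hq' hval.symm with e | e
    · exact mul_inv_eq_iff_eq_mul.1 e
    · exfalso
      have e' := mul_inv_eq_iff_eq_mul.1 e
      have hzc : Commute z (c * d) := (Commute.mul_left (a := c) hcz hdz).symm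
      rw [e', mul_assoc, ← hdz, ← mul_assoc, hzc.symm.mul_pow, hc3, one_mul] at hq3
      refine F.setting.ci.ne_one ?_
      rwa [show z ^ 3 = z * (z * z) by simp [pow_succ, mul_assoc], F.setting.ci.sq, mul_one] at hq3
  refine ⟨q⁻¹ * m, (Commute.mul_left (Commute.inv_left (F.setting.ci.comm q hq)) hm : _), ?_, ?_⟩
  · have e : m * d = q * d * q⁻¹ * m := by rw [key, hc]; group
    calc q⁻¹ * m * d = q⁻¹ * (m * d) := mul_assoc _ _ _
      _ = d * (q⁻¹ * m) := by rw [e]; group
  · have := F.acts_mul (m := q⁻¹) hm Symp.id (F.acts_of_mem (inv_mem hq)) am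
    rwa [oneK_mul] at this

/-- An element of `C(z)` whose pair fixes `χ x` fixes `x` after an adjustment by `Q`. -/
theorem adjust (F : Frame z Q χ) {x m : G} {k : K} {h : W → W} (hx : x ∈ Q) (hx1 : x ≠ 1)
    (hxz : x ≠ z) (hm : m * z = z * m) (am : Acts Q χ m k h) (hfix : act k h (χ x) = χ x)
    (hh : Symp h) :
    ∃ m', m' * z = z * m' ∧ m' * x = x * m' ∧ Acts Q χ m' k h := by
  rcases F.eq_or_mul hx (F.setting.norm m hm x hx) (by rw [am x hx, hfix]) with e | e
  · exact ⟨m, hm, mul_inv_eq_iff_eq_mul.1 e, am⟩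
  · obtain ⟨q, hq, hqx⟩ := F.setting.ci.exists_swap hx hx1 hxz
    refine ⟨q * m, (Commute.mul_left (F.setting.ci.comm q hq) hm : _),
      mul_inv_eq_iff_eq_mul.1 ?_, ?_⟩
    · calc q * m * x * (q * m)⁻¹ = q * (m * x * m⁻¹) * q⁻¹ := by group
        _ = (q * x * q⁻¹) * (q * z * q⁻¹) := by rw [e]; group
        _ = x := by rw [hqx, F.setting.ci.comm q hq, mul_inv_cancel_right, mul_assoc,
              F.setting.ci.sq, mul_one]
    · have := F.acts_mul hm Symp.id (F.acts_of_mem hq) am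
      rwa [oneK_mul] at this

end Frame

namespace IsPair

open Cfsg.Agent.H49.Frame (side)

variable {G : Type*} [Group G] [Finite G] {z x g : G} {Q : Subgroup G} {χ : G → V}

theorem x_mem_side (F : Frame z Q χ) (hP : IsPair z Q g x) : x ∈ side Q g :=
  (hP.frame F).setting.ci.mem

/-- The elements of the fours group are realised in the side group. -/
theorem exists_side (F : Frame z Q χ) (hP : IsPair z Q g x) (hx : χ x = (vb, 0)) :
    ∀ v ∈ ({vc, vd, vc + vd} : Finset W), ∃ r ∈ side Q g, r * z = z * r ∧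
      Acts Q χ r oneK (rV v) := by
  classical
  have F' := hP.frame F
  obtain ⟨m0, hm0, am0⟩ := F.real_rhoG
  obtain ⟨m, hm, hmx, am⟩ := F.adjust hP.mem (hP.x_ne_one F) hP.ne hm0 am0 (by rw [hx]; decide)
    symp_rhoG
  have am2 := F.acts_mul hm symp_rhoG am am
  have am3 := F.acts_mul hm (symp_rhoG.comp symp_rhoG) am2 am
  rw [oneK_mul] at am2
  rw [oneK_mul, oneK_mul] at am3
  have hm3 : m ^ 3 ∈ Q := by
    refine F.mem_of_acts _ (Commute.pow_left hm 3 : _) ?_
    rw [pow_succ, pow_two]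
    have e : (rhoG ∘ rhoG) ∘ rhoG = id := funext fun y => (rho_cycle y).2.2.2.1
    rwa [e] at am3
  have hmi : m⁻¹ * z = z * m⁻¹ := (Commute.inv_left hm : _)
  have ami : Acts Q χ m⁻¹ oneK (rhoG ∘ rhoG) := by
    have e : m⁻¹ = (m ^ 3)⁻¹ * (m * m) := by simp [pow_succ, mul_assoc]
    rw [e]
    have := F.acts_mul (m := (m ^ 3)⁻¹) (Commute.mul_left hm hm : _) Symp.id
      (F.acts_of_mem (inv_mem hm3)) am2
    rwa [oneK_mul] at this
  have conjR : ∀ r ∈ side Q g, r * z = z * r → ∀ h, Symp h → Acts Q χ r oneK h →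
      m * r * m⁻¹ ∈ side Q g ∧ (m * r * m⁻¹) * z = z * (m * r * m⁻¹) ∧
      Acts Q χ (m * r * m⁻¹) oneK (rhoG ∘ h ∘ rhoG ∘ rhoG) := by
    intro r hr hrz h hh ar
    refine ⟨F'.setting.norm m hmx r hr, (Commute.mul_left (Commute.mul_left hm hrz) hmi : _), ?_⟩
    have := F.acts_mul hrz symp_rhoG am ar
    have := F.acts_mul (m := m * r) hmi (symp_rhoG.comp hh) this ami
    rwa [oneK_mul, oneK_mul] at this
  obtain ⟨r, r', h, h', hr, hrz, hr', hrz', hh, hh', ar, ar', hne, hne', hnn⟩ := hP.exists_two F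
  -- the candidates
  have cand : ∀ r ∈ side Q g, r * z = z * r → ∀ h, Symp h → Acts Q χ r oneK h →
      h = id ∨ h = tv vb ∨ ∃ v ∈ ({vc, vd, vc + vd} : Finset W),
        h ∘ rhoG ∘ h ∘ rhoG ∘ rhoG = rV v := by
    intro r hr hrz h hh ar
    have hb : h vb = vb := by
      have hrx : r * x = x * r := F'.setting.ci.comm r hr
      have := ar x hP.mem
      rw [show r * x * r⁻¹ = x by rw [hrx, mul_inv_cancel_right], hx] at this
      exact (fix_pair hh detK_one this.symm).2.2
    have h2 : ∀ y, h (h y) = y := by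
      have hQ2 : r * r ∈ Q := by
        rcases F'.setting.ci.sq_mem hr with e | e <;> rw [e]
        · exact one_mem _
        · exact hP.mem
      have a2 := F.acts_mul hrz hh ar ar
      rw [oneK_mul] at a2
      intro y
      obtain ⟨a, ha, hav⟩ := F.map_surj (y, 0)
      have := (a2 a ha).symm.trans (F.acts_of_mem hQ2 a ha)
      rw [hav, act_one, act_one] at this
      exact congrArg Prod.fst this
    obtain ⟨hr1, hrz1, ar1⟩ := conjR r hr hrz h hh ar
    have hcm : ∀ y, h (rhoG (h (rhoG (rhoG y)))) = rhoG (h (rhoG (rhoG (h y)))) := by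
      obtain ⟨c, hc, ec⟩ : ∃ c ∈ Q, r * (m * r * m⁻¹) = c * ((m * r * m⁻¹) * r) := by
        refine ⟨r * (m * r * m⁻¹) * r⁻¹ * (m * r * m⁻¹)⁻¹, ?_, by group⟩
        rcases F'.setting.ci.comm_mem hr hr1 with e | e <;> rw [e]
        · exact one_mem _
        · exact hP.mem
      have l := F.acts_mul hrz1 hh ar ar1
      have r0 := F.acts_mul hrz (symp_rhoG.comp (hh.comp (symp_rhoG.comp symp_rhoG))) ar1 ar
      have r1 := F.acts_mul (m := c) (Commute.mul_left hrz1 hrz : _) Symp.id (F.acts_of_mem hc) r0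
      rw [← ec] at r1
      rw [oneK_mul] at l
      rw [oneK_mul, oneK_mul] at r1
      intro y
      obtain ⟨a, ha, hav⟩ := F.map_surj (y, 0)
      have := (l a ha).symm.trans (r1 a ha)
      rw [hav, act_one, act_one] at this
      exact congrArg Prod.fst this
    have el := hh.eq_lin
    rw [hb] at el
    have f1 : om vb (h vf) = 1 := by rw [← hb, hh.form]; decide
    have f2 : om vb (h vd) = 0 := by rw [← hb, hh.form]; decide
    have f3 : om vb (h vc) = 0 := by rw [← hb, hh.form]; decide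
    have f4 : om (h vc) (h vd) = 1 := by rw [hh.form]; decide
    have f5 : om (h vc) (h vf) = 0 := by rw [hh.form]; decide
    have f6 : om (h vf) (h vd) = 0 := by rw [hh.form]; decide
    rcases invol_fix_b _ _ _ f1 f2 f3 f4 f5 f6 (fun y _ => by rw [← el]; exact h2 y)
      (fun y _ => by rw [← el]; exact hcm y) with e | e | ⟨v, hv, e⟩
    · exact Or.inl (ext_basis hh Symp.id hb fun y hy => by rw [el]; exact e y hy)
    · refine Or.inr (Or.inl (ext_basis hh (symp_tv vb) ?_ fun y hy => by rw [el]; exact e y hy))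
      rw [hb]; decide
    · refine Or.inr (Or.inr ⟨v, hv, ext_basis
        (hh.comp (symp_rhoG.comp (hh.comp (symp_rhoG.comp symp_rhoG)))) (symp_rV v) ?_
        fun y hy => ?_⟩)
      · have hrb := (rho_cycle 0).2.2.2.2.2
        simp only [Function.comp, hrb, hb]
        have key : ∀ u ∈ ({vc, vd, vc + vd} : Finset W), vb = rV u vb := by decide +kernel
        exact key v hv
      · simp only [Function.comp]
        rw [el]; exact e y hy
  -- a single element suffices
  obtain ⟨v, hv, r2, hr2, hrz2, ar2⟩ : ∃ v ∈ ({vc, vd, vc + vd} : Finset W),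
      ∃ r2 ∈ side Q g, r2 * z = z * r2 ∧ Acts Q χ r2 oneK (rV v) := by
    have mk : ∀ r ∈ side Q g, r * z = z * r → ∀ h, Symp h → Acts Q χ r oneK h →
        ∀ v, h ∘ rhoG ∘ h ∘ rhoG ∘ rhoG = rV v →
        ∃ r2 ∈ side Q g, r2 * z = z * r2 ∧ Acts Q χ r2 oneK (rV v) := by
      intro r hr hrz h hh ar v hv
      obtain ⟨hr1, hrz1, ar1⟩ := conjR r hr hrz h hh ar
      refine ⟨r * (m * r * m⁻¹), mul_mem hr hr1, (Commute.mul_left hrz hrz1 : _), ?_⟩
      have := F.acts_mul hrz1 hh ar ar1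
      rwa [oneK_mul, hv] at this
    rcases cand r hr hrz h hh ar with e | e | ⟨v, hv, e⟩
    · exact absurd e hne
    · rcases cand r' hr' hrz' h' hh' ar' with e' | e' | ⟨v, hv, e'⟩
      · exact absurd e' hne'
      · exact absurd (e.trans e'.symm) hnn
      · exact ⟨v, hv, mk r' hr' hrz' h' hh' ar' v e'⟩
    · exact ⟨v, hv, mk r hr hrz h hh ar v e⟩
  -- its conjugates
  have step : ∀ v w : W, rhoG ∘ rV v ∘ rhoG ∘ rhoG = rV w →
      (∃ r2 ∈ side Q g, r2 * z = z * r2 ∧ Acts Q χ r2 oneK (rV v)) →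
      ∃ r2 ∈ side Q g, r2 * z = z * r2 ∧ Acts Q χ r2 oneK (rV w) := by
    rintro v w e ⟨r, hr, hrz, ar⟩
    obtain ⟨a, b, c⟩ := conjR r hr hrz _ (symp_rV v) ar
    exact ⟨_, a, b, e ▸ c⟩
  have s1 := step vc vd (funext fun y => (rho_cycle y).1)
  have s2 := step vd (vc + vd) (funext fun y => (rho_cycle y).2.1)
  have s3 := step (vc + vd) vc (funext fun y => (rho_cycle y).2.2.1)
  intro w hw
  simp only [Finset.mem_insert, Finset.mem_singleton] at hv hw
  have h0 : ∃ r2 ∈ side Q g, r2 * z = z * r2 ∧ Acts Q χ r2 oneK (rV v) := ⟨r2, hr2, hrz2, ar2⟩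
  rcases hv with rfl | rfl | rfl <;> rcases hw with rfl | rfl | rfl
  exacts [h0, s1 h0, s2 (s1 h0), s3 (s2 h0), h0, s2 h0, s3 h0, s1 (s3 h0), h0]

/-- The low vectors lie in the intersection. -/
theorem low_mem (F : Frame z Q χ) (hP : IsPair z Q g x) (hx : χ x = (vb, 0)) {a : G} (ha : a ∈ Q)
    (hlow : Low (χ a)) : a ∈ Q ⊓ side Q g := by
  set D := Q ⊓ side Q g with hD
  set P : V → Prop := fun v => ∃ d ∈ D, χ d = v with hPdef
  have hadd : ∀ u v, P u → P v → P (u + v) := by
    rintro u v ⟨d, hd, rfl⟩ ⟨e, he, rfl⟩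
    exact ⟨d * e, mul_mem hd he, F.map_mul d hd.1 e he.1⟩
  have h0 : P 0 := ⟨1, one_mem _, F.map_one⟩
  have hb : P (vb, 0) := ⟨x, Subgroup.mem_inf.2 ⟨hP.mem, hP.x_mem_side F⟩, hx⟩
  have img : ∀ w ∈ ({vc, vd, vc + vd} : Finset W), ∀ v : V, BV v (χ x) = 0 →
      P (rV w v.1 + v.1, rV w v.2 + v.2) := by
    intro w hw v hv
    obtain ⟨r, hr, hrz, ar⟩ := hP.exists_side F hx w hw
    obtain ⟨c, hc, rfl⟩ := F.map_surj v
    refine ⟨_, hP.comm_inter F hc ((F.cm c hc x hP.mem).2 hv) hr hrz, ?_⟩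
    rw [IsPair.comm_value F hc hrz ar, act_one]; rfl
  obtain ⟨l1, l2, l3, l4, l5⟩ := low_spec
  have hc : P (vc, 0) := by
    have := hadd _ _ (img vc (by simp) (vf, 0) (by rw [hx]; decide)) hb
    simpa [l1, l5, add_assoc, Frame.v_add_self, show vb + vb = (0 : W) by decide] using this
  have hd : P (vd, 0) := by
    have := hadd _ _ (img vd (by simp) (vf, 0) (by rw [hx]; decide)) hb
    simpa [l2, l4, add_assoc, show vb + vb = (0 : W) by decide] using this
  have hb2 : P (0, vb) := by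
    have := img vc (by simp) (0, vd) (by rw [hx]; decide)
    simpa [l3, l5] using this
  have sm : ∀ (t : ZMod 2) (v : V), P v → P (t • v) := by
    intro t v hv
    rcases z2cases t with rfl | rfl
    · rwa [zero_smul] at *
    · rwa [one_smul]
  have hall : P (χ a) := by
    obtain ⟨t1, t2, t3, e⟩ := vX _ hlow.1
    have hX : P ((χ a).1, 0) := by
      have := hadd _ _ (hadd _ _ (sm t1 _ hb) (sm t2 _ hc)) (sm t3 _ hd)
      simpa [e, Prod.smul_mk] using this
    rcases hlow.2 with e2 | e2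
    · rwa [show χ a = ((χ a).1, 0) from Prod.ext rfl e2]
    · have := hadd _ _ hX hb2
      rwa [show χ a = ((χ a).1, 0) + (0, vb) from Prod.ext (by simp) (by simp [e2])]
  obtain ⟨d, hd', hda⟩ := hall
  rcases F.eq_or_mul hd'.1 ha hda with rfl | rfl
  · exact hd'
  · exact mul_mem hd' (Subgroup.mem_inf.2 ⟨F.setting.ci.mem, hP.z_mem F⟩)

/-- An element with the action of `rV vc` fixing `x` lies in one of the two side groups. -/
theorem mem_side_or (F : Frame z Q χ) (hP : IsPair z Q g x) (hx : χ x = (vb, 0)) {m : G}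
    (hm : m * z = z * m) (hmx : m * x = x * m) (am : Acts Q χ m oneK (rV vc))
    (hm2 : m * m = 1 ∨ m * m = z) {q : G} (hq : q ∈ Q) (hqx : q * x * q⁻¹ = x * z) :
    m ∈ side Q g ∨ m ∈ side Q (q * g) := by
  have F' := hP.frame F
  obtain ⟨r, hr, hrz, ar⟩ := hP.exists_side F hx vc (by simp)
  have hrx : r * x = x * r := F'.setting.ci.comm r hr
  have hrzi : r⁻¹ * z = z * r⁻¹ := (Commute.inv_left hrz : _)
  have hrr : r * r ∈ Q := by
    rcases F'.setting.ci.sq_mem hr with e | e <;> rw [e]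
    · exact one_mem _
    · exact hP.mem
  have hinv : rV vc ∘ rV vc = id := funext (rV_invol vc (by simp))
  have ari : Acts Q χ r⁻¹ oneK (rV vc) := by
    rw [show r⁻¹ = (r * r)⁻¹ * r by group]
    have := F.acts_mul (m := (r * r)⁻¹) hrz Symp.id (F.acts_of_mem (inv_mem hrr)) ar
    rwa [oneK_mul] at this
  set c := r⁻¹ * m with hcdef
  have hcz : c * z = z * c := (Commute.mul_left hrzi hm : _)
  have hc : c ∈ Q := by
    refine F.mem_of_acts c hcz ?_
    have := F.acts_mul hm (symp_rV vc) ari am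
    rwa [oneK_mul, hinv] at this
  have hcx : c * x = x * c := (Commute.mul_left (Commute.inv_left hrx) hmx : _)
  set v := χ c with hv
  have hvx : om vb v.2 = 0 := by
    have := (F.cm c hc x hP.mem).1 hcx
    rw [hx] at this
    have key : ∀ w : V, BV w (vb, 0) = om vb w.2 := fun w => by
      simp only [BV, om_comm w.2 vb, show ∀ y : W, om y 0 = 0 from fun y => by simp [om], zero_add]
    rwa [key] at this
  have hrc : r⁻¹ * c * r ∈ Q := by simpa using F.setting.norm r⁻¹ hrzi c hc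
  have hval : χ (r * r) + ((rV vc v.1, rV vc v.2) + v) = 0 := by
    have e : m * m = (r * r) * ((r⁻¹ * c * r) * c) := by rw [hcdef]; group
    have h0 : χ (m * m) = 0 := by
      rcases hm2 with e | e <;> rw [e]
      · exact F.map_one
      · exact F.map_z
    rw [e, F.map_mul _ hrr _ (mul_mem hrc hc), F.map_mul _ hrc _ hc] at h0
    have e2 := ari c hc
    rw [inv_inv, act_one] at e2
    rw [e2] at h0
    exact h0
  have hrrx : χ (r * r) = 0 ∨ χ (r * r) = (vb, 0) := by
    rcases F'.setting.ci.sq_mem hr with e | e <;> rw [e]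
    · exact Or.inl F.map_one
    · exact Or.inr hx
  have h12 : (rV vc v.1 + v.1 = 0 ∨ rV vc v.1 + v.1 = vb) ∧ rV vc v.2 + v.2 = 0 := by
    rcases hrrx with e | e <;> rw [e] at hval <;> have h1 := congrArg Prod.fst hval <;>
      have h2 := congrArg Prod.snd hval <;> simp only [Prod.fst_add, Prod.snd_add, Prod.fst_zero,
        Prod.snd_zero, zero_add] at h1 h2
    · exact ⟨Or.inl h1, h2⟩
    · refine ⟨Or.inr ?_, h2⟩
      have key : ∀ u : W, vb + u = 0 → u = vb := by decide +kernel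
      exact key _ h1
  have hD : Q ⊓ side Q g ≤ side Q g := inf_le_right
  -- the comparison element
  have hqzc : q * z = z * q := F.setting.ci.comm q hq
  have hU : om vb (χ q).2 = 1 := by
    rcases z2cases (om vb (χ q).2) with e | e
    · exfalso
      have hB : BV (χ q) (χ x) = 0 := by
        rw [hx]
        simp only [BV, om_comm (χ q).2 vb, show ∀ y : W, om y 0 = 0 from fun y => by simp [om],
          zero_add, e]
      rw [(F.cm q hq x hP.mem).2 hB, mul_inv_cancel_right] at hqx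
      exact F.setting.ci.ne_one (mul_eq_left.1 hqx.symm)
    · exact e
  set c3 := r⁻¹ * (q * r * q⁻¹) with hc3def
  have hrq : r⁻¹ * q * r ∈ Q := by simpa using F.setting.norm r⁻¹ hrzi q hq
  have hc3 : c3 ∈ Q := by
    rw [hc3def, show r⁻¹ * (q * r * q⁻¹) = (r⁻¹ * q * r) * q⁻¹ by group]
    exact mul_mem hrq (inv_mem hq)
  have hc3v : χ c3 = (rV vc (χ q).1 + (χ q).1, rV vc (χ q).2 + (χ q).2) := by
    rw [hc3def, show r⁻¹ * (q * r * q⁻¹) = (r⁻¹ * q * r) * q⁻¹ by group,
      F.map_mul _ hrq _ (inv_mem hq), F.map_inv hq]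
    have e2 := ari q hq
    rw [inv_inv, act_one] at e2
    rw [e2]; rfl
  have hX := low_X _ h12.1
  rcases low_Y _ _ h12.2 hvx hU with e | e
  · left
    have := hD (hP.low_mem F hx hc ⟨hX, e⟩)
    simpa [hcdef] using mul_mem hr this
  · right
    have hd : c3⁻¹ * c ∈ Q ⊓ side Q g := by
      refine hP.low_mem F hx (mul_mem (inv_mem hc3) hc) ?_
      rw [F.map_mul _ (inv_mem hc3) _ hc, F.map_inv hc3, hc3v]
      refine ⟨?_, e⟩
      show om vb (rV vc (χ q).1 + (χ q).1 + v.1) = 0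
      rw [om_add_right, low_U, hX, add_zero]
    set d := c3⁻¹ * c with hddef
    have hmd : m = (q * r * q⁻¹) * d := by rw [hddef, hc3def, hcdef]; group
    rw [hmd]
    refine ⟨g⁻¹ * (r * (q⁻¹ * d * q)) * g, ?_, ?_⟩
    · have hdq : q⁻¹ * d * q ∈ side Q g := by
        have hd' := Subgroup.mem_inf.1 hd
        rcases F.setting.ci.conj_cases (inv_mem hq) hd'.1 with e' | e'
        · rw [inv_inv] at e'; rw [e']; exact hd'.2
        · rw [inv_inv] at e'; rw [e']; exact mul_mem hd'.2 (hP.z_mem F)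
      obtain ⟨a, ha, e⟩ := mul_mem hr hdq
      have : g⁻¹ * (r * (q⁻¹ * d * q)) * g = a := by
        rw [← e]; show g⁻¹ * (g * a * g⁻¹) * g = a; group
      rw [this]; exact ha
    · show (q * g) * _ * (q * g)⁻¹ = _
      group

end IsPair

end Cfsg.Agent.H49
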