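import Cfsg.Agent.H49.Frame

/-!
Normal forms of the pure and of the rank two elements of `Q` under the centraliser of `z`, and the
resulting symmetry of pure conjugates of `z`.
-/

set_option autoImplicit false

namespace Cfsg.Agent.H49

open Cfsg.Agent.LargeExtra

/-- One step by a product of two non-orthogonal transvections. -/
def Step (X Y : W) : Prop := ∃ u v, om u v = 1 ∧ tv u (tv v X) = Y

/-- One such step fixing `vb`. -/
def StepFix (X Y : W) : Prop := ∃ u v, om u v = 1 ∧ tv u (tv v vb) = vb ∧ tv u (tv v X) = Y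

instance (X Y : W) : Decidable (Step X Y) :=
  inferInstanceAs (Decidable (∃ u v, om u v = 1 ∧ tv u (tv v X) = Y))

instance (X Y : W) : Decidable (StepFix X Y) :=
  inferInstanceAs (Decidable (∃ u v, om u v = 1 ∧ tv u (tv v vb) = vb ∧ tv u (tv v X) = Y))

set_option synthInstance.maxSize 2048 in
set_option synthInstance.maxHeartbeats 400000 in
theorem step_point : ∀ X : W, X ≠ 0 → ∃ Y, Step Y vb ∧ Step X Y := by decide +kernel

set_option synthInstance.maxSize 2048 in
set_option synthInstance.maxHeartbeats 400000 in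
theorem step_line : ∀ Y : W, Y ≠ 0 → Y ≠ vb → om vb Y = 0 → ∃ Z, StepFix Z vc ∧ StepFix Y Z := by
  decide +kernel

set_option synthInstance.maxSize 2048 in
set_option synthInstance.maxHeartbeats 400000 in
theorem act_kD : ∀ X : W,
    act kD id (X, 0) = (0, X) ∧ act kD id (0, X) = (X, X) ∧ act kD id (X, X) = (X, 0) := by
  decide +kernel

theorem act_oneK (g : W → W) (v : V) : act oneK g v = (g v.1, g v.2) := appK_one _

set_option synthInstance.maxSize 2048 in
set_option synthInstance.maxHeartbeats 400000 in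
theorem pure_appK : ∀ k : K, ∀ X : W, detK k = 1 → X ≠ 0 →
    Pure (appK k (X, 0)) ∧ Pure (appK k (0, X)) ∧ Pure (appK k (X, X)) := by
  decide +kernel

theorem pure_act {k : K} {g : W → W} (hk : detK k = 1) (hg : Symp g) {v : V} (hv : Pure v) :
    Pure (act k g v) := by
  obtain ⟨X, Y⟩ := v
  obtain ⟨hne, h⟩ := hv
  have hz : ∀ {x : W}, x ≠ 0 → g x ≠ 0 := fun hx e => hx (hg.injective (e.trans hg.zero.symm))
  rcases h with h | h | h
  · obtain rfl : X = 0 := h
    have hY : Y ≠ 0 := fun e => hne (by rw [e]; rfl)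
    have := (pure_appK k (g Y) hk (hz hY)).2.1
    simpa [act, hg.zero] using this
  · obtain rfl : Y = 0 := h
    have hX : X ≠ 0 := fun e => hne (by rw [e]; rfl)
    have := (pure_appK k (g X) hk (hz hX)).1
    simpa [act, hg.zero] using this
  · obtain rfl : X = Y := h
    have hX : X ≠ 0 := fun e => hne (by rw [e]; rfl)
    exact (pure_appK k (g X) hk (hz hX)).2.2

theorem card_pure : (Finset.univ.filter fun v : V => Pure v).card = 45 := by decide +kernel

theorem card_rank2 : (Finset.univ.filter fun v : V => Rank2 v).card = 90 := by decide +kernel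

namespace Frame

variable {G : Type*} [Group G] {z : G} {Q : Subgroup G} {χ : G → V}

/-- A conjugate of `a` under the centraliser of `z` has coordinates `v`. -/
def Reach (z : G) (χ : G → V) (a : G) (v : V) : Prop :=
  ∃ m : G, m * z = z * m ∧ χ (m * a * m⁻¹) = v

theorem reach_self (a : G) : Reach z χ a (χ a) := ⟨1, by simp, by simp⟩

theorem reach_act (F : Frame z Q χ) {a : G} (ha : a ∈ Q) {v : V} (h : Reach z χ a v) {k : K}
    {g : W → W} (hr : Real z Q χ k g) : Reach z χ a (act k g v) := by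
  obtain ⟨m, hm, e⟩ := h
  obtain ⟨n, hn, an⟩ := hr
  refine ⟨n * m, by rw [mul_assoc, hm, ← mul_assoc, hn, mul_assoc], ?_⟩
  rw [show n * m * a * (n * m)⁻¹ = n * (m * a * m⁻¹) * n⁻¹ by group,
    an _ (F.setting.norm m hm a ha), e]

theorem reach_step (F : Frame z Q χ) {a : G} (ha : a ∈ Q) {v : V} (h : Reach z χ a v) {u w : W}
    (hu : om u w = 1) : Reach z χ a (tv u (tv w v.1), tv u (tv w v.2)) := by
  have := F.reach_act ha h (F.realP u w hu)
  rwa [act_oneK] at this

theorem reach_left (F : Frame z Q χ) {a : G} (ha : a ∈ Q) {X : W} (hX : X ≠ 0)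
    (h : Reach z χ a (X, 0)) : Reach z χ a (vb, 0) := by
  obtain ⟨Y, ⟨u', w', hu', e'⟩, ⟨u, w, hu, e⟩⟩ := step_point X hX
  have t0 : ∀ x y : W, tv x (tv y 0) = 0 := fun x y => by
    rw [(symp_tv y).zero, (symp_tv x).zero]
  have h1 := F.reach_step ha h hu
  simp only [e, t0] at h1
  have h2 := F.reach_step ha h1 hu'
  simpa only [e', t0] using h2

/-- (N1) -/
theorem norm_pure (F : Frame z Q χ) {a : G} (ha : a ∈ Q) (h : Pure (χ a)) :
    ∃ m, m * z = z * m ∧ χ (m * a * m⁻¹) = (vb, 0) := by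
  obtain ⟨hne, hc⟩ := h
  have h0 : Reach z χ a (χ a) := reach_self a
  rcases hv : χ a with ⟨X, Y⟩
  rw [hv] at hne hc h0
  obtain ⟨d1, d2, d3⟩ := act_kD Y
  rcases hc with hc | hc | hc
  · obtain rfl : X = 0 := hc
    have h1 := F.reach_act ha h0 F.realD
    rw [d2] at h1
    have h2 := F.reach_act ha h1 F.realD
    rw [d3] at h2
    exact F.reach_left ha (fun e => hne (by rw [e]; rfl)) h2
  · obtain rfl : Y = 0 := hc
    exact F.reach_left ha (fun e => hne (by rw [e]; rfl)) h0
  · obtain rfl : X = Y := hc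
    have h1 := F.reach_act ha h0 F.realD
    rw [d3] at h1
    exact F.reach_left ha (fun e => hne (by rw [e]; rfl)) h1

/-- (N2) -/
theorem norm_rank2 (F : Frame z Q χ) {a : G} (ha : a ∈ Q) (h : Rank2 (χ a)) :
    ∃ m, m * z = z * m ∧ χ (m * a * m⁻¹) = (vb, vc) := by
  obtain ⟨hX, hY, hne, hom⟩ := h
  have h0 : Reach z χ a (χ a) := reach_self a
  rcases hv : χ a with ⟨X, Y⟩
  rw [hv] at hX hY hne hom h0
  obtain ⟨X', ⟨u', w', hu', e'⟩, ⟨u, w, hu, e⟩⟩ := step_point X hX
  have h1 := F.reach_step ha h0 hu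
  have h2 := F.reach_step ha h1 hu'
  dsimp only at h2
  rw [e, e'] at h2
  -- the composite map and the image of `Y`
  let f : W → W := fun x => tv u' (tv w' (tv u (tv w x)))
  have hf : Symp f :=
    ((symp_tv u').comp (symp_tv w')).comp ((symp_tv u).comp (symp_tv w))
  have hfX : f X = vb := by show tv u' (tv w' (tv u (tv w X))) = vb; rw [e, e']
  have hY0 : f Y ≠ 0 := fun c => hY (hf.injective (c.trans hf.zero.symm))
  have hYb : f Y ≠ vb := fun c => hne (hf.injective (hfX.trans c.symm))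
  have hYo : om vb (f Y) = 0 := by rw [← hfX, hf.form]; exact hom
  obtain ⟨Z, ⟨p', q', hp', fb', fe'⟩, ⟨p, q, hp, fb, fe⟩⟩ := step_line (f Y) hY0 hYb hYo
  have h3 := F.reach_step ha h2 hp
  dsimp only at h3
  rw [fb, show tv p (tv q (tv u' (tv w' (tv u (tv w Y))))) = Z from fe] at h3
  have h4 := F.reach_step ha h3 hp'
  dsimp only at h4
  rw [fb', fe'] at h4
  exact h4

/-- (N3) -/
theorem isConj_of_eq (F : Frame z Q χ) {a b : G} (ha : a ∈ Q) (hb : b ∈ Q) (h : χ a = χ b)
    (h0 : χ a ≠ 0) : ∃ m, m * z = z * m ∧ m * a * m⁻¹ = b := by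
  rcases F.eq_or_mul ha hb h with r | r
  · exact ⟨1, by simp, by simp [r]⟩
  · obtain ⟨q, hq, e⟩ := F.setting.ci.exists_swap ha
      (fun c => h0 (c ▸ F.map_one)) (fun c => h0 (c ▸ F.map_z))
    exact ⟨q, F.setting.ci.comm q hq, e.trans r.symm⟩

theorem conj_of_reach (F : Frame z Q χ) {a b : G} (ha : a ∈ Q) (hb : b ∈ Q) {v : V} (hv : v ≠ 0)
    (h1 : Reach z χ a v) (h2 : Reach z χ b v) : ∃ m, m * z = z * m ∧ m * a * m⁻¹ = b := by
  obtain ⟨m, hm, e⟩ := h1
  obtain ⟨n, hn, e'⟩ := h2
  obtain ⟨q, hq, eq⟩ := F.isConj_of_eq (F.setting.norm m hm a ha) (F.setting.norm n hn b hb)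
    (e.trans e'.symm) (e.symm ▸ hv)
  refine ⟨n⁻¹ * q * m, ?_, ?_⟩
  · have hni : Commute n⁻¹ z := Commute.inv_left hn
    have hqz : Commute q z := hq
    have hmz : Commute m z := hm
    exact ((hni.mul_left hqz).mul_left hmz).eq
  · calc n⁻¹ * q * m * a * (n⁻¹ * q * m)⁻¹ = n⁻¹ * (q * (m * a * m⁻¹) * q⁻¹) * n := by group
      _ = b := by rw [eq]; group

/-- (N4) for pure elements. -/
theorem conj_of_pure (F : Frame z Q χ) {a b : G} (ha : a ∈ Q) (hb : b ∈ Q) (hpa : Pure (χ a))
    (hpb : Pure (χ b)) : ∃ m, m * z = z * m ∧ m * a * m⁻¹ = b :=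
  F.conj_of_reach ha hb (by decide) (F.norm_pure ha hpa) (F.norm_pure hb hpb)

/-- (N4) for rank two elements. -/
theorem conj_of_rank2 (F : Frame z Q χ) {a b : G} (ha : a ∈ Q) (hb : b ∈ Q) (hpa : Rank2 (χ a))
    (hpb : Rank2 (χ b)) : ∃ m, m * z = z * m ∧ m * a * m⁻¹ = b :=
  F.conj_of_reach ha hb (by decide) (F.norm_rank2 ha hpa) (F.norm_rank2 hb hpb)

/-- The number of elements of `Q` over a set of coordinates. -/
theorem card_over (F : Frame z Q χ) (P : V → Prop) [DecidablePred P] :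
    Nat.card {a : G // a ∈ Q ∧ P (χ a)} = 2 * (Finset.univ.filter P).card := by
  choose s hsQ hs using F.map_surj
  have hz := F.setting.ci.mem
  have hsz : ∀ v, χ (s v * z) = v := fun v => by
    rw [F.map_mul _ (hsQ v) _ hz, hs, F.map_z, add_zero]
  let f : Bool × {v : V // P v} → {a : G // a ∈ Q ∧ P (χ a)} := fun p =>
    bif p.1 then ⟨s p.2 * z, mul_mem (hsQ _) hz, by rw [hsz]; exact p.2.2⟩
    else ⟨s p.2, hsQ _, by rw [hs]; exact p.2.2⟩
  have hf : Function.Bijective f := by
    constructor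
    · rintro ⟨i, v, hv⟩ ⟨j, w, hw⟩ e
      have e' := congrArg Subtype.val e
      have hvw : v = w := by
        cases i <;> cases j <;> simpa [f, hs, hsz] using congrArg χ e'
      subst hvw
      cases i <;> cases j
      · rfl
      · exact absurd (left_eq_mul.1 e') F.setting.ci.ne_one
      · exact absurd (left_eq_mul.1 e'.symm) F.setting.ci.ne_one
      · rfl
    · rintro ⟨a, ha, hP⟩
      rcases F.eq_or_mul (hsQ (χ a)) ha (hs _) with r | r
      · exact ⟨(false, ⟨χ a, hP⟩), Subtype.ext r.symm⟩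
      · exact ⟨(true, ⟨χ a, hP⟩), Subtype.ext r.symm⟩
  rw [← Nat.card_congr (Equiv.ofBijective f hf), Nat.card_prod, Nat.card_eq_fintype_card,
    Fintype.card_bool, Nat.card_eq_fintype_card, Fintype.card_subtype]

/-- The centraliser orbit of an element, and its stabiliser. -/
theorem card_orbit_mul (z a : G) :
    Nat.card {b : G // ∃ m, m * z = z * m ∧ m * a * m⁻¹ = b} *
      Nat.card {m : G // m * z = z * m ∧ m * a = a * m} = Nat.card {m : G // m * z = z * m} := by
  let _ : MulAction ↥(Subgroup.centralizer ({z} : Set G)) G :=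
    MulAction.compHom G
      (ConjAct.toConjAct.toMonoidHom.comp (Subgroup.centralizer ({z} : Set G)).subtype)
  have hsm : ∀ (m : ↥(Subgroup.centralizer ({z} : Set G))) (b : G),
      m • b = (m : G) * b * (m : G)⁻¹ := fun m b => rfl
  have hmem : ∀ m : G, m ∈ Subgroup.centralizer ({z} : Set G) ↔ m * z = z * m := fun m =>
    Subgroup.mem_centralizer_singleton_iff
  have key := MulAction.index_stabilizer (G := ↥(Subgroup.centralizer ({z} : Set G))) (x := a)
  have hcard := Subgroup.card_mul_index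
    (MulAction.stabilizer ↥(Subgroup.centralizer ({z} : Set G)) a)
  rw [key] at hcard
  have eO : Nat.card {b : G // ∃ m, m * z = z * m ∧ m * a * m⁻¹ = b} =
      (MulAction.orbit ↥(Subgroup.centralizer ({z} : Set G)) a).ncard := by
    rw [← Nat.card_coe_set_eq]
    refine Nat.card_congr (Equiv.subtypeEquivRight fun b => ?_)
    constructor
    · rintro ⟨m, hm, e⟩; exact ⟨⟨m, (hmem m).2 hm⟩, e⟩
    · rintro ⟨⟨m, hm⟩, e⟩; exact ⟨m, (hmem m).1 hm, e⟩
  have eS : Nat.card {m : G // m * z = z * m ∧ m * a = a * m} =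
      Nat.card ↥(MulAction.stabilizer ↥(Subgroup.centralizer ({z} : Set G)) a) := by
    refine Nat.card_congr
      { toFun := fun m => ⟨⟨m.1, (hmem m.1).2 m.2.1⟩, ?_⟩
        invFun := fun m => ⟨m.1.1, (hmem m.1.1).1 m.1.2, ?_⟩
        left_inv := fun m => rfl
        right_inv := fun m => rfl }
    · show _ • a = a
      rw [hsm]; exact mul_inv_eq_iff_eq_mul.2 m.2.2
    · have := m.2
      rw [MulAction.mem_stabilizer_iff, hsm] at this
      exact mul_inv_eq_iff_eq_mul.1 this
  have eC : Nat.card {m : G // m * z = z * m} = Nat.card ↥(Subgroup.centralizer ({z} : Set G)) :=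
    Nat.card_congr (Equiv.subtypeEquivRight fun m => (hmem m).symm)
  rw [eO, eS, eC, ← hcard, mul_comm]

/-- (N5) -/
theorem pure_symm [Finite G] (F : Frame z Q χ) {g x : G} (hx : g * z * g⁻¹ = x) (hxQ : x ∈ Q)
    (hp : Pure (χ x)) (hzQ' : g⁻¹ * z * g ∈ Q) : Pure (χ (g⁻¹ * z * g)) := by
  set u := g⁻¹ * z * g with hu
  have hz2 := F.setting.ci.sq
  have hu1 : χ u ≠ 0 := by
    intro h0
    rcases (F.ker u hzQ').1 h0 with r | r
    · exact F.setting.ci.ne_one (by
        calc z = g * u * g⁻¹ := by rw [hu]; group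
          _ = 1 := by rw [r]; group)
    · apply hp.1
      have : x = z := by
        calc x = g * z * g⁻¹ := hx.symm
          _ = g * u * g⁻¹ := by rw [r]
          _ = z := by rw [hu]; group
      rw [this, F.map_z]
  have hq : qV (χ u) = 0 := (F.sq u hzQ').1 (by
    calc u * u = g⁻¹ * (z * z) * g := by rw [hu]; group
      _ = 1 := by rw [hz2]; group)
  by_contra hnp
  have hr : Rank2 (χ u) := by
    refine ⟨fun e => hnp ⟨hu1, Or.inl e⟩, fun e => hnp ⟨hu1, Or.inr (Or.inl e)⟩,
      fun e => hnp ⟨hu1, Or.inr (Or.inr e)⟩, hq⟩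
  have hS : Nat.card {m : G // m * z = z * m ∧ m * x = x * m} =
      Nat.card {m : G // m * z = z * m ∧ m * u = u * m} := by
    symm
    have hgu : g * u * g⁻¹ = z := by rw [hu]; group
    refine Nat.card_congr ((MulAut.conj g).toEquiv.subtypeEquiv fun m => ?_)
    show _ ↔ (g * m * g⁻¹) * z = z * (g * m * g⁻¹) ∧ (g * m * g⁻¹) * x = x * (g * m * g⁻¹)
    constructor
    · rintro ⟨h1, h2⟩
      constructor
      · rw [← hgu, show g * m * g⁻¹ * (g * u * g⁻¹) = g * (m * u) * g⁻¹ by group, h2]; group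
      · rw [← hx, show g * m * g⁻¹ * (g * z * g⁻¹) = g * (m * z) * g⁻¹ by group, h1]; group
    · rintro ⟨h1, h2⟩
      rw [← hgu, show g * m * g⁻¹ * (g * u * g⁻¹) = g * (m * u) * g⁻¹ by group,
        show g * u * g⁻¹ * (g * m * g⁻¹) = g * (u * m) * g⁻¹ by group] at h1
      rw [← hx, show g * m * g⁻¹ * (g * z * g⁻¹) = g * (m * z) * g⁻¹ by group,
        show g * z * g⁻¹ * (g * m * g⁻¹) = g * (z * m) * g⁻¹ by group] at h2
      exact ⟨mul_left_cancel (mul_right_cancel h2), mul_left_cancel (mul_right_cancel h1)⟩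
  have hO : Nat.card {b : G // ∃ m, m * z = z * m ∧ m * x * m⁻¹ = b} =
      Nat.card {b : G // ∃ m, m * z = z * m ∧ m * u * m⁻¹ = b} := by
    have hpos : 0 < Nat.card {m : G // m * z = z * m ∧ m * u = u * m} := by
      haveI : Nonempty {m : G // m * z = z * m ∧ m * u = u * m} := ⟨⟨1, by simp⟩⟩
      exact Nat.card_pos
    apply Nat.eq_of_mul_eq_mul_right hpos
    rw [card_orbit_mul z u, ← hS, card_orbit_mul z x]
  have hle : Nat.card {b : G // ∃ m, m * z = z * m ∧ m * x * m⁻¹ = b} ≤ 90 := by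
    have h := Nat.card_le_card_of_injective
      (fun b : {b : G // ∃ m, m * z = z * m ∧ m * x * m⁻¹ = b} =>
        (⟨b.1, by
          obtain ⟨m, hm, e⟩ := b.2
          obtain ⟨k, h', hk, hh, am⟩ := F.acts m hm
          rw [← e]
          exact ⟨F.setting.norm m hm x hxQ, by rw [am x hxQ]; exact pure_act hk hh hp⟩⟩ :
            {a : G // a ∈ Q ∧ Pure (χ a)}))
      (fun b c e => Subtype.ext (congrArg Subtype.val e :))
    rw [F.card_over, card_pure] at h
    exact h
  have hge : 180 ≤ Nat.card {b : G // ∃ m, m * z = z * m ∧ m * u * m⁻¹ = b} := by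
    have h := Nat.card_le_card_of_injective
      (fun a : {a : G // a ∈ Q ∧ Rank2 (χ a)} =>
        (⟨a.1, F.conj_of_rank2 hzQ' a.2.1 hr a.2.2⟩ :
          {b : G // ∃ m, m * z = z * m ∧ m * u * m⁻¹ = b}))
      (fun b c e => Subtype.ext (congrArg Subtype.val e :))
    rw [F.card_over, card_rank2] at h
    exact h
  omega

end Frame

end Cfsg.Agent.H49
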