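import Cfsg.Agent.H49.Pair

/-!
Some conjugate of the central involution in `Q` lies over a pure vector.
-/

set_option autoImplicit false
set_option linter.unusedSectionVars false
set_option maxRecDepth 100000

namespace Cfsg.Agent.H49

open Cfsg.Agent.LargeExtra

/-- The three pure vectors next to `(b, c)`. -/
def IsTarget (w : V) : Prop := w = (vc, 0) ∨ w = (0, vb) ∨ w = (vb + vc, vb + vc)

instance (w : V) : Decidable (IsTarget w) := inferInstanceAs (Decidable (_ ∨ _ ∨ _))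

theorem target_facts : ∀ w : V, IsTarget w → Pure w ∧ Rank2 (w + (vb, vc)) := by
  rintro w (rfl | rfl | rfl) <;> decide

/-- A map fixing `b` and `c`, by three parameters. -/
def fixMap (α β γ : ZMod 2) : W → W :=
  lin vb vc (vf + α • vb + β • vc) (vd + β • vb + γ • vc)

theorem fix_param : ∀ a b : W, om vb a = 1 → om vc a = 0 → om vb b = 0 → om vc b = 1 →
    om a b = 0 → ∃ α β γ : ZMod 2, a = vf + α • vb + β • vc ∧ b = vd + β • vb + γ • vc := by
  decide +kernel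

theorem exists_fixMap {h : W → W} (hh : Symp h) (hb : h vb = vb) (hc : h vc = vc) :
    ∃ α β γ, h = fixMap α β γ := by
  have e1 := hh.form vb vf; rw [hb] at e1
  have e2 := hh.form vc vf; rw [hc] at e2
  have e3 := hh.form vb vd; rw [hb] at e3
  have e4 := hh.form vc vd; rw [hc] at e4
  have e5 := hh.form vf vd
  obtain ⟨α, β, γ, ea, eb⟩ := fix_param (h vf) (h vd) (e1.trans (by decide)) (e2.trans (by decide))
    (e3.trans (by decide)) (e4.trans (by decide)) (e5.trans (by decide))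
  refine ⟨α, β, γ, hh.eq_lin.trans ?_⟩
  rw [fixMap, hb, hc, ea, eb]

theorem fixMap_zero : fixMap 0 0 0 = id := by
  funext x; revert x; decide +kernel

theorem fixMap_comp : ∀ α β γ α' β' γ' : ZMod 2, ∀ x : W,
    fixMap α β γ (fixMap α' β' γ' x) = fixMap (α + α') (β + β') (γ + γ') x := by
  decide +kernel

/-- The value of a commutator. -/
def shift (α β γ : ZMod 2) (v : V) : V := (fixMap α β γ v.1, fixMap α β γ v.2) + v

set_option synthInstance.maxSize 2048 in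
set_option synthInstance.maxHeartbeats 400000 in
theorem exists_target : ∀ α β γ α' β' γ' : ZMod 2,
    ¬(α = 0 ∧ β = 0 ∧ γ = 0) → ¬(α' = 0 ∧ β' = 0 ∧ γ' = 0) → ¬(α = α' ∧ β = β' ∧ γ = γ') →
    ∃ v : V, BV v (vb, vc) = 0 ∧
      (IsTarget (shift α β γ v) ∨ IsTarget (shift α' β' γ' v) ∨
        IsTarget (shift (α + α') (β + β') (γ + γ') v)) := by
  decide +kernel

namespace Frame

variable {G : Type*} [Group G] [Finite G] {z : G} {Q : Subgroup G} {χ : G → V}

theorem pure_or_rank2 {v : V} (h : Sing v) : Pure v ∨ Rank2 v := by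
  obtain ⟨h0, hq⟩ := h
  by_cases h1 : v.1 = 0
  · exact Or.inl ⟨h0, Or.inl h1⟩
  by_cases h2 : v.2 = 0
  · exact Or.inl ⟨h0, Or.inr (Or.inl h2)⟩
  by_cases h3 : v.1 = v.2
  · exact Or.inl ⟨h0, Or.inr (Or.inr h3)⟩
  exact Or.inr ⟨h1, h2, h3, hq⟩

theorem pair_conj (F : Frame z Q χ) {g x m : G} (hP : IsPair z Q g x) (hm : m * z = z * m) :
    IsPair z Q (m * g) (m * x * m⁻¹) := by
  refine ⟨?_, F.setting.norm m hm x hP.mem, fun e => hP.ne ?_⟩
  · rw [← hP.eq]; group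
  · have h' : m * x = z * m := mul_inv_eq_iff_eq_mul.1 e
    rw [← hm] at h'
    exact mul_left_cancel h'

/-- From a conjugate in `Q` to one over a pure vector, given the normalisation lemmas. -/
theorem exists_pure_pair_of (F : Frame z Q χ)
    (hN1 : ∀ a ∈ Q, Pure (χ a) → ∃ m, m * z = z * m ∧ χ (m * a * m⁻¹) = (vb, 0))
    (hN2 : ∀ a ∈ Q, Rank2 (χ a) → ∃ m, m * z = z * m ∧ χ (m * a * m⁻¹) = (vb, vc))
    (hN4 : ∀ a ∈ Q, ∀ b ∈ Q, Rank2 (χ a) → Rank2 (χ b) → ∃ m, m * z = z * m ∧ m * a * m⁻¹ = b)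
    (hfus : ∃ g : G, g * z * g⁻¹ ∈ Q ∧ g * z * g⁻¹ ≠ z) :
    ∃ g x, IsPair z Q g x ∧ χ x = (vb, 0) := by
  have done : ∀ g x, IsPair z Q g x → Pure (χ x) → ∃ g x, IsPair z Q g x ∧ χ x = (vb, 0) := by
    intro g x hP hp
    obtain ⟨m, hm, e⟩ := hN1 x hP.mem hp
    exact ⟨m * g, m * x * m⁻¹, pair_conj F hP hm, e⟩
  obtain ⟨g0, hg0, hne⟩ := hfus
  have hP0 : IsPair z Q g0 (g0 * z * g0⁻¹) := ⟨rfl, hg0, hne⟩
  rcases pure_or_rank2 (hP0.x_sing F) with hp | hr
  · exact done _ _ hP0 hp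
  obtain ⟨m0, hm0, hx⟩ := hN2 _ hg0 hr
  have hP := pair_conj F hP0 hm0
  set g := m0 * g0
  set x := m0 * (g0 * z * g0⁻¹) * m0⁻¹
  have hxR : Rank2 (χ x) := by rw [hx]; decide
  have F' := hP.frame F
  obtain ⟨r, r', h, h', hr', hrz, hs, hsz, hh, hh', ar, as', hid, hid', hne'⟩ := hP.exists_two F
  have fix : ∀ {t : G} {f : W → W}, t ∈ side Q g → Acts Q χ t oneK f → f vb = vb ∧ f vc = vc := by
    intro t f ht at'
    have e := at' x hP.mem
    have hc : t * x * t⁻¹ = x := mul_inv_eq_iff_eq_mul.2 (F'.setting.ci.comm t ht)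
    rw [hc, hx, act_one] at e
    exact ⟨(congrArg Prod.fst e).symm, (congrArg Prod.snd e).symm⟩
  obtain ⟨α, β, γ, eh⟩ := exists_fixMap hh (fix hr' ar).1 (fix hr' ar).2
  obtain ⟨α', β', γ', eh'⟩ := exists_fixMap hh' (fix hs as').1 (fix hs as').2
  subst eh eh'
  obtain ⟨v, hv, ht⟩ := exists_target α β γ α' β' γ'
    (fun ⟨a, b, c⟩ => hid (by rw [a, b, c, fixMap_zero]))
    (fun ⟨a, b, c⟩ => hid' (by rw [a, b, c, fixMap_zero]))
    (fun ⟨a, b, c⟩ => hne' (by rw [a, b, c]))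
  obtain ⟨c, hc, hcv⟩ := F.map_surj v
  have hcx : c * x = x * c := (F.cm c hc x hP.mem).2 (by rw [hcv, hx]; exact hv)
  -- an element of the intersection over a target
  obtain ⟨t, a, b, d, hts, htz, hta, hT⟩ : ∃ t a b d, t ∈ side Q g ∧ t * z = z * t ∧
      Acts Q χ t oneK (fixMap a b d) ∧ IsTarget (shift a b d v) := by
    rcases ht with hT | hT | hT
    · exact ⟨r, _, _, _, hr', hrz, ar, hT⟩
    · exact ⟨r', _, _, _, hs, hsz, as', hT⟩
    · refine ⟨r * r', _, _, _, mul_mem hr' hs, (Commute.mul_left hrz hsz : _), ?_, hT⟩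
      have := F.acts_mul hsz hh ar as'
      rwa [oneK_mul, show fixMap α β γ ∘ fixMap α' β' γ' = fixMap (α + α') (β + β') (γ + γ') from
        funext fun y => fixMap_comp α β γ α' β' γ' y] at this
  set P := t * c * t⁻¹ * c⁻¹ with hPdef
  have hPD := hP.comm_inter F hc hcx hts htz
  obtain ⟨hPQ, hPs⟩ := Subgroup.mem_inf.1 hPD
  have hPval : χ P = shift a b d v := by
    rw [hPdef, IsPair.comm_value F hc htz hta, hcv, act_one]
    rfl
  obtain ⟨hpure, hrank⟩ := target_facts _ hT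
  rw [← hPval] at hpure hrank
  have hP0' : χ P ≠ 0 := hpure.1
  have hP1 : P ≠ 1 := fun e => hP0' (by rw [e, F.map_one])
  have hPz : P ≠ z := fun e => hP0' (by rw [e, F.map_z])
  have hPx : P ≠ x := fun e => by
    rw [e, hx, Frame.v_add_self] at hrank
    exact hrank.1 rfl
  obtain ⟨q, hq, hqe⟩ := F'.setting.ci.exists_swap hPs hP1 hPx
  have hPxQ : P * x ∈ Q := mul_mem hPQ hP.mem
  have hPxR : Rank2 (χ (P * x)) := by rw [F.map_mul P hPQ x hP.mem, hx]; exact hrank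
  obtain ⟨m, hm, hme⟩ := hN4 _ hPxQ _ hP.mem hPxR hxR
  have hP' : IsPair z Q (q⁻¹ * m⁻¹ * g) P := by
    refine ⟨?_, hPQ, hPz⟩
    calc q⁻¹ * m⁻¹ * g * z * (q⁻¹ * m⁻¹ * g)⁻¹ = q⁻¹ * (m⁻¹ * (g * z * g⁻¹) * m) * q := by group
      _ = q⁻¹ * (m⁻¹ * (m * (P * x) * m⁻¹) * m) * q := by rw [hP.eq, hme]
      _ = q⁻¹ * (q * P * q⁻¹) * q := by rw [show q * P * q⁻¹ = P * x from hqe]; group
      _ = P := by group
  exact done _ _ hP' hpure

end Frame

end Cfsg.Agent.H49
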