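import Cfsg.Agent.H49.MakeLifts
import Cfsg.Agent.H49.Norm
import Cfsg.Agent.H49.ToPure

/-!
The exchange of the central involution with an element of the lifted fours group contradicts the
shape of the commutators in the centraliser of the element of order three.
-/

set_option autoImplicit false
set_option linter.unusedSectionVars false
set_option synthInstance.maxSize 4096
set_option synthInstance.maxHeartbeats 400000

namespace Cfsg.Agent.H49

open Cfsg.Agent.LargeExtra
open Cfsg.Agent.H49.Frame (side)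

theorem rank2_shape : ∀ X Y : W, om vb X = 0 → om vb Y = 0 → Y ≠ 0 → Y ≠ vb →
    Rank2 (X, Y) → X = vb ∨ X = Y + vb := by decide +kernel

theorem rank2_triple : ∀ Y0 Y1 : W, Y0 ≠ 0 → Y0 ≠ vb → Y1 ≠ 0 → Y1 ≠ vb → Y0 + Y1 ≠ 0 →
    Y0 + Y1 ≠ vb → ∀ X0 ∈ ({vb, Y0 + vb} : Finset W), ∀ X1 ∈ ({vb, Y1 + vb} : Finset W),
    X0 + X1 ≠ vb ∧ X0 + X1 ≠ Y0 + Y1 + vb := by decide +kernel

theorem swap_vec : ∀ Y : W, om vb Y = 0 → Y ≠ 0 → Y ≠ vb →
    ∃ u w, (∃ v, om u v = 1 ∧ om v w = 1) ∧ tv u (tv w vb) = Y ∧ tv u (tv w Y) = vb := by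
  decide +kernel

theorem path_b : ∀ w : W, w ≠ 0 → w ≠ vb → ∃ v, om w v = 1 ∧ om v vb = 1 := by decide +kernel

theorem tv_twice (w x : W) : tv w (tv w x) = x := by
  revert w x; decide +kernel

theorem cent_rV : ∀ f d : W, ∀ hb hc : W, hb = rV vc d + d → hc = rV vc f + f + hb →
    om hb f = 1 → om hc d = 1 → om hb d = 0 → om hc f = 0 → om hb hc = 0 → om f d = 0 →
    (∀ x ∈ ({vb, vc, vf, vd} : Finset W),
      lin hb hc f d (lin hb hc f d (lin hb hc f d x)) = x) →
    (hb = vb ∧ hc = vc ∧ f = vf ∧ d = vd) := by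
  have key : ∀ f d : W,
    om (rV vc d + d) f = 1 → om (rV vc f + f + (rV vc d + d)) d = 1 → om (rV vc d + d) d = 0 →
    om (rV vc f + f + (rV vc d + d)) f = 0 →
    om (rV vc d + d) (rV vc f + f + (rV vc d + d)) = 0 → om f d = 0 →
    (∀ x ∈ ({vb, vc, vf, vd} : Finset W),
      lin (rV vc d + d) (rV vc f + f + (rV vc d + d)) f d
        (lin (rV vc d + d) (rV vc f + f + (rV vc d + d)) f d
          (lin (rV vc d + d) (rV vc f + f + (rV vc d + d)) f d x)) = x) →
    (rV vc d + d = vb ∧ rV vc f + f + (rV vc d + d) = vc ∧ f = vf ∧ d = vd) := by decide +kernel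
  intro f d hb hc e1 e2
  subst e1; subst e2
  exact key f d

theorem k_cube : ∀ k : K, detK k = 1 → mulK (mulK k k) k = oneK →
    k = oneK ∨ k = kD ∨ k = mulK kD kD := by decide +kernel

theorem kD_sum : ∀ v : V, v + act kD id v + act kD id (act kD id v) = 0 := by decide +kernel

namespace Frame

variable {G : Type*} [Group G] [Finite G] {z : G} {Q : Subgroup G} {χ : G → V}

theorem realT_norm (F : Frame z Q χ) : Real z Q χ kT id ∨ Real z Q χ kT (tv vb) := by
  rcases F.realT with h | ⟨w, hw, h⟩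
  · exact Or.inl h
  · refine Or.inr ?_
    by_cases e : w = vb
    · exact e ▸ h
    · obtain ⟨v, h1, h2⟩ := path_b w hw e
      have := F.real_mul (symp_tv w) h (F.real_pair h1 h2)
      rwa [show mulK kT oneK = kT by decide,
        show tv w ∘ ((tv w ∘ tv v) ∘ (tv v ∘ tv vb)) = tv vb from
          funext fun y => by simp [Function.comp, tv_twice]] at this

/-- A realised pair exchanging the normal forms. -/
theorem exists_swap_pair (F : Frame z Q χ) {Y : W} (h0 : om vb Y = 0) (h1 : Y ≠ 0) (h2 : Y ≠ vb)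
    {v : V} (hv : v = (0, Y) ∨ v = (Y, Y)) :
    ∃ k h, Symp h ∧ Real z Q χ k h ∧ act k h (vb, 0) = v ∧ act k h v = (vb, 0) := by
  obtain ⟨u, w, ⟨v0, hv1, hv2⟩, e1, e2⟩ := swap_vec Y h0 h1 h2
  have huw : Real z Q χ oneK (tv u ∘ tv w) := by
    have := F.real_pair hv1 hv2
    rwa [show (tv u ∘ tv v0) ∘ (tv v0 ∘ tv w) = tv u ∘ tv w from
      funext fun y => by simp [Function.comp, tv_twice]] at this
  obtain ⟨h, hh, hr, hhb, hhY⟩ : ∃ h, Symp h ∧ Real z Q χ kT h ∧ h vb = Y ∧ h Y = vb := by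
    rcases F.realT_norm with e | e
    · refine ⟨id ∘ (tv u ∘ tv w), Symp.id.comp ((symp_tv u).comp (symp_tv w)), ?_, e1, e2⟩
      have := F.real_mul Symp.id e huw
      rwa [show mulK kT oneK = kT by decide] at this
    · refine ⟨tv vb ∘ (tv u ∘ tv w), (symp_tv vb).comp ((symp_tv u).comp (symp_tv w)), ?_, ?_, ?_⟩
      · have := F.real_mul (symp_tv vb) e huw
        rwa [show mulK kT oneK = kT by decide] at this
      · simp only [Function.comp, e1]
        simp [tv, om_comm Y vb, h0]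
      · simp only [Function.comp, e2]
        decide
  have hswap := F.real_mul Symp.id F.realD hr
  rw [show (mulK kD kT : K) = (0, 1, 1, 0) by decide] at hswap
  change Real z Q χ (0, 1, 1, 0) h at hswap
  rcases hv with rfl | rfl
  · refine ⟨_, h, hh, hswap, ?_, ?_⟩ <;> simp [act, appK, hhb, hhY, hh.zero]
  · have h3 := F.real_mul Symp.id F.realD hswap
    rw [show (mulK kD (0, 1, 1, 0) : K) = (1, 0, 1, 1) by decide] at h3
    change Real z Q χ (1, 0, 1, 1) h at h3
    refine ⟨_, h, hh, h3, ?_, ?_⟩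
    · simp [act, appK, hhb, hh.zero]
    · simp only [act, appK, hhY, one_smul, zero_smul, add_zero, Prod.mk.injEq, true_and]
      decide

/-- No frame admits fusion into `Q`. -/
theorem no_fusion_of (F : Frame z Q χ)
    (hcomm : ∀ {d s r l0 l1 a b : G}, Lifts z Q χ d s r l0 l1 → a * z = z * a → a * d = d * a →
      a * l0 = l0 * a → b * z = z * b → b * d = d * b → b * l0 = l0 * b →
      a * b * a⁻¹ * b⁻¹ = 1 ∨ a * b * a⁻¹ * b⁻¹ = l0)
    (hfus : ∃ g : G, g * z * g⁻¹ ∈ Q ∧ g * z * g⁻¹ ≠ z) : False := by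
  classical
  obtain ⟨g0, x0, hP0, hx0⟩ := F.exists_pure_pair_of (fun a ha => F.norm_pure ha)
    (fun a ha => F.norm_rank2 ha) (fun a ha b hb => F.conj_of_rank2 ha hb) hfus
  obtain ⟨g, x, d, s, r, l0, l1, hP, hx, L, hl0, hl1, hrx, hr1⟩ := hP0.exists_lifts F hx0
  have hz := hP.z_mem F
  -- normalise the other end
  have back : ∀ a, a ∈ side Q g → g⁻¹ * a * g ∈ Q := by
    rintro _ ⟨b, hb, rfl⟩
    show g⁻¹ * (g * b * g⁻¹) * g ∈ Q
    rwa [show g⁻¹ * (g * b * g⁻¹) * g = b by group]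
  obtain ⟨n, hn, hnv⟩ := F.norm_pure (back z hz)
    (F.pure_symm hP.eq hP.mem (by rw [hx]; decide) (back z hz))
  set A : G → G := fun a => n * (g⁻¹ * a * g) * n⁻¹ with hA
  have hAmul : ∀ a b, A (a * b) = A a * A b := fun a b => by simp only [hA]; group
  have hAinv : ∀ a, A a⁻¹ = (A a)⁻¹ := fun a => by simp only [hA]; group
  have hAx : A x = z := by
    simp only [hA, ← hP.eq]
    rw [show g⁻¹ * (g * z * g⁻¹) * g = z by group, hn, mul_inv_cancel_right]
  have hAinj : ∀ a b, A a = A b → a = b := fun a b e => by simpa [hA] using e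
  have hAQ : ∀ a, a ∈ side Q g → A a ∈ Q := fun a ha => F.setting.norm n hn _ (back a ha)
  set u := A z with hu
  have huQ : u ∈ Q := hAQ z hz
  have huz : u ≠ z := fun e => hP.ne (hAinj x z (hAx.trans e.symm))
  have huv : χ u = (vb, 0) := hnv
  have hP2 : IsPair z Q (n * g⁻¹) u := ⟨by simp only [hu, hA]; group, huQ, huz⟩
  -- the three elements
  have m2 : l0 * l1 ∈ side Q g := mul_mem hl0 hl1
  have notlow : ∀ l, l ∈ side Q g → ∀ v, v ≠ 0 → v ≠ vb → Acts Q χ l oneK (rV v) →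
      om vb (χ (A l)).1 = 0 → (χ (A l)).2 ≠ 0 ∧ (χ (A l)).2 ≠ vb := by
    intro l hl v hv0 hvb al hX
    have hnon : rV v ≠ id := by
      have key : ∀ w : W, w ≠ 0 → w ≠ vb → ∃ y, rV w y ≠ y := by decide +kernel
      obtain ⟨y, hy⟩ := key v hv0 hvb
      exact fun e => hy (congrFun e y)
    by_contra hcon
    have hlow : Low (χ (A l)) := ⟨hX, by tauto⟩
    have hm := (Subgroup.mem_inf.1 (hP2.low_mem F huv (hAQ l hl) hlow)).2
    obtain ⟨b, hb, e⟩ := hm
    have hlQ : l ∈ Q := by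
      have e' : n * g⁻¹ * b * (n * g⁻¹)⁻¹ = A l := e
      have e'' : b = l := by
        simp only [hA] at e'
        calc b = (n * g⁻¹)⁻¹ * (n * g⁻¹ * b * (n * g⁻¹)⁻¹) * (n * g⁻¹) := by group
          _ = l := by rw [e']; group
      exact e'' ▸ hb
    refine hnon (act_inj (symp_rV v) Symp.id detK_one detK_one fun y => ?_).2
    obtain ⟨a, ha, rfl⟩ := F.map_surj y
    exact (al a ha).symm.trans (F.acts_of_mem hlQ a ha)
  -- the action of the element of order three on the other end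
  have hrA : A r * z = z * A r := by rw [← hAx, ← hAmul, ← hAmul, hrx]
  obtain ⟨kr, hr', hkr, hhr', har⟩ := F.acts (A r) hrA
  have hru : A r * u * (A r)⁻¹ = u := by
    rw [hu, ← hAmul, L.rz, hAmul, mul_inv_cancel_right]
  obtain ⟨hk1, hk3, hrb⟩ := fix_pair hhr' hkr (by
    have := har u huQ
    rw [hru, huv] at this
    exact this.symm)
  have perp : ∀ l, l ∈ side Q g → l * z = z * l → om vb (χ (A l)).2 = 0 := by
    intro l hl hlz
    have := (F.cm _ (hAQ l hl) u huQ).1 (by rw [hu, ← hAmul, hlz, hAmul])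
    rw [huv] at this
    have key : ∀ w : V, BV w (vb, 0) = om vb w.2 := fun w => by
      simp only [BV, om_comm w.2 vb, show ∀ y : W, om y 0 = 0 from fun y => by simp [om], zero_add]
    rwa [key] at this
  have conjA : ∀ l, l ∈ side Q g → χ (A (r * l * r⁻¹)) = act kr hr' (χ (A l)) := by
    intro l hl
    rw [hAmul, hAmul, hAinv]
    exact har _ (hAQ l hl)
  have phi : ∀ l, l ∈ side Q g → l * z = z * l →
      om vb (χ (A (r * l * r⁻¹))).1 = om vb (χ (A l)).1 := by
    intro l hl hlz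
    rw [conjA l hl]
    simp only [act, appK, hk1, one_smul]
    rw [om_add_right]
    have e1 : ∀ y, om vb (hr' y) = om vb y := fun y => by
      conv_lhs => rw [← hrb]
      exact hhr'.form vb y
    rcases z2cases kr.2.1 with e | e
    · rw [e, zero_smul, e1, show om vb 0 = 0 by decide, add_zero]
    · rw [e, one_smul, e1, e1, perp l hl hlz, add_zero]
  have l01z : (l0 * l1) * z = z * (l0 * l1) := (Commute.mul_left L.l0z L.l1z : _)
  have hval : χ (A (l0 * l1)) = χ (A l0) + χ (A l1) := by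
    rw [hAmul, F.map_mul _ (hAQ _ hl0) _ (hAQ _ hl1)]
  have p1 : om vb (χ (A l1)).1 = om vb (χ (A l0)).1 := by
    rw [← phi l0 hl0 L.l0z, L.r_conj]
  have p2 : om vb (χ (A (l0 * l1))).1 = om vb (χ (A l1)).1 := by
    rw [← phi l1 hl1 L.l1z, hr1]
  have p2' := p2
  rw [hval, Prod.fst_add, om_add_right, p1, CharTwo.add_self_eq_zero] at p2'
  have x0' : om vb (χ (A l0)).1 = 0 := p2'.symm
  have x1' : om vb (χ (A l1)).1 = 0 := p1.trans x0'
  have x2' : om vb (χ (A (l0 * l1))).1 = 0 := p2.trans x1'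
  have a01 : Acts Q χ (l0 * l1) oneK (rV (vc + vd)) := by
    have := F.acts_mul L.l1z (symp_rV vc) L.l0_act L.l1_act
    rwa [oneK_mul, show rV vc ∘ rV vd = rV (vc + vd) from funext fun y => (rho_cycle y).2.2.2.2.1]
      at this
  obtain ⟨n00, n01⟩ := notlow l0 hl0 vc (by decide) (by decide) L.l0_act x0'
  obtain ⟨n10, n11⟩ := notlow l1 hl1 vd (by decide) (by decide) L.l1_act x1'
  obtain ⟨n20, n21⟩ := notlow _ m2 (vc + vd) (by decide) (by decide) a01 x2'
  have sing : ∀ l, l ∈ side Q g → l * l = 1 → qV (χ (A l)) = 0 := fun l hl h2 =>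
    (F.sq _ (hAQ l hl)).1 (by rw [← hAmul, h2]; simp [hA])
  have l2sq : (l0 * l1) * (l0 * l1) = 1 := by
    rw [← hr1, show r * l1 * r⁻¹ * (r * l1 * r⁻¹) = r * (l1 * l1) * r⁻¹ by group, L.l1_sq]
    simp
  have dich : ∀ l, l ∈ side Q g → l * l = 1 → (χ (A l)).2 ≠ 0 →
      Pure (χ (A l)) ∨ Rank2 (χ (A l)) := fun l hl h2 hne =>
    pure_or_rank2 ⟨fun e => hne (by rw [e]; rfl), sing l hl h2⟩
  have hpure : Pure (χ (A l0)) := by
    rcases dich l0 hl0 L.l0_sq n00 with h | h
    · exact h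
    · exfalso
      have up : ∀ l, l ∈ side Q g → Pure (χ (A (r * l * r⁻¹))) → Pure (χ (A l)) := by
        intro l hl hp
        have e : A l = (A r)⁻¹ * A (r * l * r⁻¹) * (A r)⁻¹⁻¹ := by
          rw [hAmul, hAmul, hAinv]; group
        obtain ⟨ki, hi, hki, hhi, ai⟩ := F.acts (A r)⁻¹ (Commute.inv_left hrA : _)
        have := ai (A (r * l * r⁻¹)) (by
          rw [hAmul, hAmul, hAinv]; exact F.setting.norm _ hrA _ (hAQ l hl))
        rw [← e] at this
        rw [this]
        exact pure_act hki hhi hp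
      have r1 : Rank2 (χ (A l1)) := (dich l1 hl1 L.l1_sq n10).resolve_left fun hp => by
        have := up l0 hl0 (L.r_conj.symm ▸ hp)
        exact h.1 (by
          rcases this.2 with e | e | e
          · exact e
          · exact absurd e h.2.1
          · exact absurd e h.2.2.1)
      have r2 : Rank2 (χ (A (l0 * l1))) := (dich _ m2 l2sq n20).resolve_left fun hp => by
        have := up l1 hl1 (hr1.symm ▸ hp)
        exact r1.1 (by
          rcases this.2 with e | e | e
          · exact e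
          · exact absurd e r1.2.1
          · exact absurd e r1.2.2.1)
      have s0 := rank2_shape _ _ x0' (perp _ hl0 L.l0z) n00 n01 h
      have s1 := rank2_shape _ _ x1' (perp _ hl1 L.l1z) n10 n11 r1
      have s2 := rank2_shape _ _ x2' (perp _ m2 l01z) n20 n21 r2
      rw [hval, Prod.fst_add, Prod.snd_add] at s2
      rw [hval, Prod.snd_add] at n20 n21
      obtain ⟨t1, t2⟩ := rank2_triple _ _ n00 n01 n10 n11 n20 n21 _ (by simpa using s0) _
        (by simpa using s1)
      exact s2.elim t1 t2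
  -- the exchange
  set w := A l0 with hw
  have hwQ : w ∈ Q := hAQ l0 hl0
  set Y := (χ w).2 with hY
  have hform : χ w = (0, Y) ∨ χ w = (Y, Y) := by
    rcases hpure.2 with e | e | e
    · exact Or.inl (Prod.ext e rfl)
    · exact absurd e n00
    · exact Or.inr (Prod.ext e rfl)
  obtain ⟨k, hh, hhh, ⟨m, hm, am⟩, e1, e2⟩ :=
    F.exists_swap_pair (perp l0 hl0 L.l0z) n00 n01 hform
  have hu1 : u ≠ 1 := hP2.x_ne_one F
  have hw' : ∀ a, a ∈ ({1, z, u, z * u} : Set G) → w ≠ a := by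
    rintro a ha rfl
    have : (χ w).2 = 0 := by
      simp only [Set.mem_insert_iff, Set.mem_singleton_iff] at ha
      rcases ha with e | e | e | e <;> rw [e]
      · rw [F.map_one]; rfl
      · rw [F.map_z]; rfl
      · rw [huv]
      · rw [F.map_mul _ F.setting.ci.mem _ huQ, F.map_z, huv]; simp
    exact n00 this
  have mover : ∀ a b : G, a ∈ Q → b ∈ Q → a ≠ 1 → a ≠ z → b ≠ 1 → b ≠ z → b ≠ a → b ≠ z * a →
      ∃ q ∈ Q, q * a = a * q ∧ q * b * q⁻¹ = b * z := by
    intro a b ha hb a1 a2 b1 b2 b3 b4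
    by_contra hcon
    push Not at hcon
    rcases F.setting.ci.of_commute_centralizer ha a1 a2 hb fun p hp hpa =>
      mul_inv_eq_iff_eq_mul.1 ((F.setting.ci.conj_cases hp hb).resolve_right (hcon p hp hpa))
      with e | e | e | e
    exacts [b1 e, b2 e, b3 e, b4 e]
  obtain ⟨m, hm, hmu, am⟩ : ∃ m', m' * z = z * m' ∧ m' * u * m'⁻¹ = w ∧ Acts Q χ m' k hh := by
    have hval : χ (m * u * m⁻¹) = χ w := by rw [am u huQ, huv, e1]
    rcases F.eq_or_mul hwQ (F.setting.norm m hm u huQ) hval.symm with e | e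
    · exact ⟨m, hm, e, am⟩
    · obtain ⟨q, hq, hqw⟩ := F.setting.ci.exists_swap hwQ (hw' 1 (by simp)) (hw' z (by simp))
      refine ⟨q * m, (Commute.mul_left (F.setting.ci.comm q hq) hm : _), ?_, ?_⟩
      · calc q * m * u * (q * m)⁻¹ = q * (m * u * m⁻¹) * q⁻¹ := by group
          _ = (q * w * q⁻¹) * (q * z * q⁻¹) := by rw [e]; group
          _ = w := by rw [hqw, F.setting.ci.comm q hq, mul_inv_cancel_right, mul_assoc,
                F.setting.ci.sq, mul_one]
      · have := F.acts_mul hm Symp.id (F.acts_of_mem hq) am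
        rwa [oneK_mul] at this
  obtain ⟨m, hm, hmu, hmw⟩ : ∃ m', m' * z = z * m' ∧ m' * u * m'⁻¹ = w ∧ m' * w * m'⁻¹ = u := by
    have hval : χ (m * w * m⁻¹) = χ u := by rw [am w hwQ, e2, huv]
    rcases F.eq_or_mul huQ (F.setting.norm m hm w hwQ) hval.symm with e | e
    · exact ⟨m, hm, hmu, e⟩
    · obtain ⟨q, hq, hqw, hqu⟩ := mover w u hwQ huQ (hw' 1 (by simp)) (hw' z (by simp)) hu1 huz
        (fun e => hw' u (by simp) e.symm) (fun e => hw' (z * u) (by simp)
          (by rw [e, ← mul_assoc, F.setting.ci.sq, one_mul]))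
      refine ⟨q * m, (Commute.mul_left (F.setting.ci.comm q hq) hm : _), ?_, ?_⟩
      · calc q * m * u * (q * m)⁻¹ = q * (m * u * m⁻¹) * q⁻¹ := by group
          _ = w := by rw [hmu, hqw, mul_inv_cancel_right]
      · calc q * m * w * (q * m)⁻¹ = q * (m * w * m⁻¹) * q⁻¹ := by group
          _ = (q * u * q⁻¹) * (q * z * q⁻¹) := by rw [e]; group
          _ = u := by rw [hqu, F.setting.ci.comm q hq, mul_inv_cancel_right, mul_assoc,
                F.setting.ci.sq, mul_one]
  set h0 := g * n⁻¹ * m * n * g⁻¹ with hh0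
  have hA0 : ∀ a, A (h0 * a * h0⁻¹) = m * A a * m⁻¹ := fun a => by simp only [hA, hh0]; group
  have hz0 : h0 * z * h0⁻¹ = l0 := hAinj _ _ (by rw [hA0]; exact hmu)
  have hl00 : h0 * l0 * h0⁻¹ = z := hAinj _ _ (by rw [hA0]; exact hmw)
  -- an element of order three in the common centraliser
  obtain ⟨e, he, hez, hel, heC, ad'⟩ : ∃ e, (e = d ∨ e = d * d) ∧
      (h0 * e * h0⁻¹) * z = z * (h0 * e * h0⁻¹) ∧ (h0 * e * h0⁻¹) * l0 = l0 * (h0 * e * h0⁻¹) ∧
      (h0 * e * h0⁻¹) ^ 3 = 1 ∧ Acts Q χ (h0 * e * h0⁻¹) kD id := by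
    have cz : ∀ e : G, e * l0 = l0 * e → (h0 * e * h0⁻¹) * z = z * (h0 * e * h0⁻¹) := by
      intro e he
      rw [← hl00, show h0 * e * h0⁻¹ * (h0 * l0 * h0⁻¹) = h0 * (e * l0) * h0⁻¹ by group, he]
      group
    have cl : ∀ e : G, e * z = z * e → (h0 * e * h0⁻¹) * l0 = l0 * (h0 * e * h0⁻¹) := by
      intro e he
      rw [← hz0, show h0 * e * h0⁻¹ * (h0 * z * h0⁻¹) = h0 * (e * z) * h0⁻¹ by group, he]
      group
    have hd3' : d ^ 3 = 1 := L.d_ord ▸ pow_orderOf_eq_one d
    set d' := h0 * d * h0⁻¹ with hd'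
    have hd'z := cz d L.l0d.symm
    have hd'l := cl d L.dz
    have hd'3 : d' ^ 3 = 1 := by rw [hd', conj_pow, hd3', mul_one, mul_inv_cancel]
    obtain ⟨k', h', hk', hh', ad⟩ := F.acts d' hd'z
    have a3 := F.acts_mul (Commute.mul_left hd'z hd'z) hh' ad (F.acts_mul hd'z hh' ad ad)
    have e3 : d' * (d' * d') = 1 := by rw [← hd'3]; simp [pow_succ, mul_assoc]
    rw [e3] at a3
    have hdd : detK (mulK k' (mulK k' k')) = 1 := by simp [detK_mul, hk']
    obtain ⟨ek, eh⟩ := act_inj (hh'.comp (hh'.comp hh')) Symp.id hdd detK_one fun v => by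
      obtain ⟨a, ha, rfl⟩ := F.map_surj v
      exact (a3 a ha).symm.trans (F.acts_of_mem (one_mem Q) a ha)
    have hcomm' : ∀ y, h' (rV vc y) = rV vc (h' y) := by
      have l := F.acts_mul L.l0z hh' ad L.l0_act
      have r' := F.acts_mul hd'z (symp_rV vc) L.l0_act ad
      rw [hd'l] at l
      rw [oneK_mul] at r'
      intro y
      have hd1 : detK (mulK k' oneK) = 1 := by simp [detK_mul, hk', detK_one]
      exact congrFun (act_inj (hh'.comp (symp_rV vc)) ((symp_rV vc).comp hh') hd1 hk' fun v => by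
        obtain ⟨a, ha, rfl⟩ := F.map_surj v
        exact (l a ha).symm.trans (r' a ha)).2 y
    obtain ⟨q1, q2, q3, -⟩ := low_spec
    have hbd : h' vb = rV vc (h' vd) + h' vd := by rw [← hcomm', ← hh'.add, q3]
    have hcf : h' vc = rV vc (h' vf) + h' vf + h' vb := by
      rw [← hcomm', ← hh'.add, ← hh'.add, q1, show vc + vb + vb = vc by decide]
    have hid : h' = id := by
      obtain ⟨f1, f2, f3, f4⟩ := cent_rV (h' vf) (h' vd) (h' vb) (h' vc) hbd hcf
        (by rw [hh'.form]; decide) (by rw [hh'.form]; decide) (by rw [hh'.form]; decide)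
        (by rw [hh'.form]; decide) (by rw [hh'.form]; decide) (by rw [hh'.form]; decide)
        (fun y _ => by rw [← hh'.eq_lin]; exact congrFun eh y)
      rw [hh'.eq_lin, f1, f2, f3, f4]
      funext y; revert y; decide +kernel
    subst hid
    have hk3 : mulK (mulK k' k') k' = oneK := by
      have key : ∀ k : K, mulK k (mulK k k) = mulK (mulK k k) k := by decide +kernel
      rw [← key]; exact ek
    rcases k_cube k' hk' hk3 with rfl | rfl | rfl
    · exfalso
      have hQd : d' ∈ Q := F.mem_of_acts d' hd'z ad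
      have h1 : d' = 1 := by
        rcases F.setting.ci.sq_mem hQd with q | q
        · calc d' = d' * (d' * d') * (d' * d')⁻¹ := by group
            _ = 1 := by rw [e3, q]; simp
        · exfalso
          apply F.setting.ci.ne_one
          have e4 : d' = z := by
            calc d' = d' * (z * z) := by rw [F.setting.ci.sq, mul_one]
              _ = d' * (d' * d') * z := by rw [q, mul_assoc d' z z]
              _ = z := by rw [e3, one_mul]
          rw [e4, F.setting.ci.sq] at q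
          exact q.symm
      have : d = 1 := conj_eq_one_iff.1 (hd' ▸ h1)
      have := L.d_ord
      rw [‹d = 1›, orderOf_one] at this
      omega
    · exact ⟨d, Or.inl rfl, hd'z, hd'l, hd'3, ad⟩
    · refine ⟨d * d, Or.inr rfl, cz _ (Commute.mul_left L.l0d.symm L.l0d.symm),
        cl _ (Commute.mul_left L.dz L.dz), ?_, ?_⟩
      · rw [conj_pow, ← pow_two, ← pow_mul, mul_comm, pow_mul, hd3', one_pow, mul_one, mul_inv_cancel]
      · have a2 := F.acts_mul hd'z hh' ad ad
        rw [show h0 * (d * d) * h0⁻¹ = d' * d' by rw [hd']; group]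
        rwa [show mulK (mulK kD kD) (mulK kD kD) = kD by decide, Function.comp_id] at a2
  set d1 := h0 * e * h0⁻¹ with hd1def
  -- conjugate it to `d` inside the centraliser of `l0`
  have hd3' : d ^ 3 = 1 := L.d_ord ▸ pow_orderOf_eq_one d
  set c := d1 * d⁻¹ with hc
  have hcz : c * z = z * c := (Commute.mul_left hez (Commute.inv_left L.dz) : _)
  have hcQ : c ∈ Q := by
    refine F.mem_of_acts c hcz ?_
    intro a ha
    have hb : d⁻¹ * a * d ∈ Q := by simpa using F.setting.norm d⁻¹ (Commute.inv_left L.dz : _) a ha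
    rw [show c * a * c⁻¹ = d1 * (d⁻¹ * a * d) * d1⁻¹ by rw [hc]; group, ad' _ hb, ← L.d_act _ hb,
      show d * (d⁻¹ * a * d) * d⁻¹ = a by group, act_one]
    rfl
  obtain ⟨v, hv⟩ := kD_surj (χ c)
  obtain ⟨q, hq, rfl⟩ := F.map_surj v
  have hdq : d * q⁻¹ * d⁻¹ ∈ Q := F.setting.norm d L.dz _ (inv_mem hq)
  have key : q * d * q⁻¹ = d1 := by
    have hq' : q * d * q⁻¹ * d⁻¹ ∈ Q := by
      rw [show q * d * q⁻¹ * d⁻¹ = q * (d * q⁻¹ * d⁻¹) by group]; exact mul_mem hq hdq
    have hval : χ (q * d * q⁻¹ * d⁻¹) = χ c := by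
      rw [show q * d * q⁻¹ * d⁻¹ = q * (d * q⁻¹ * d⁻¹) by group, F.map_mul _ hq _ hdq,
        L.d_act _ (inv_mem hq), F.map_inv hq, hv]
    have hcd : c * d = d1 := by rw [hc, inv_mul_cancel_right]
    rcases F.eq_or_mul hcQ hq' hval.symm with e | e
    · rw [mul_inv_eq_iff_eq_mul.1 e, hcd]
    · exfalso
      have e' : q * d * q⁻¹ = z * d1 := by
        rw [mul_inv_eq_iff_eq_mul.1 e, hcz, mul_assoc, hcd]
      have h3 : (q * d * q⁻¹) ^ 3 = 1 := by rw [conj_pow, hd3', mul_one, mul_inv_cancel]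
      rw [e', (show Commute z d1 from hez.symm).mul_pow, heC, mul_one] at h3
      refine F.setting.ci.ne_one ?_
      rwa [show z ^ 3 = z * (z * z) by simp [pow_succ, mul_assoc], F.setting.ci.sq, mul_one] at h3
  have hql : q⁻¹ * l0 * q = l0 := by
    have ht : (q⁻¹ * l0 * q) * d = d * (q⁻¹ * l0 * q) := by
      have := hel
      rw [← key] at this
      calc q⁻¹ * l0 * q * d = q⁻¹ * (l0 * (q * d * q⁻¹)) * q := by group
        _ = q⁻¹ * ((q * d * q⁻¹) * l0) * q := by rw [this]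
        _ = _ := by group
    have hlQ : l0⁻¹ * q⁻¹ * l0 * q ∈ Q := by
      refine mul_mem ?_ hq
      simpa using F.setting.norm l0⁻¹ (Commute.inv_left L.l0z : _) q⁻¹ (inv_mem hq)
    have hcd : (l0⁻¹ * q⁻¹ * l0 * q) * d = d * (l0⁻¹ * q⁻¹ * l0 * q) := by
      have e1 : Commute (l0⁻¹) d := Commute.inv_left L.l0d
      rw [show l0⁻¹ * q⁻¹ * l0 * q = l0⁻¹ * (q⁻¹ * l0 * q) by group]
      exact (Commute.mul_left e1 ht : _)
    rcases F.fix_d L.d_act hlQ hcd with e | e
    · calc q⁻¹ * l0 * q = l0 * (l0⁻¹ * q⁻¹ * l0 * q) := by group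
        _ = l0 := by rw [e, mul_one]
    · exfalso
      have hqc : l0 * q * l0⁻¹ = q * z := by
        calc l0 * q * l0⁻¹ = q * l0 * (l0⁻¹ * q⁻¹ * l0 * q) * l0⁻¹ := by group
          _ = q * (l0 * z) * l0⁻¹ := by rw [e]; group
          _ = q * z := by rw [L.l0z]; group
      have step : ∀ p, l0 * p * l0⁻¹ = p * z → l0 * (d * p * d⁻¹) * l0⁻¹ = (d * p * d⁻¹) * z := by
        intro p hp
        have hdl : Commute l0 d := L.l0d
        calc l0 * (d * p * d⁻¹) * l0⁻¹ = (l0 * d) * p * (l0 * d)⁻¹ := by group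
          _ = (d * l0) * p * (d * l0)⁻¹ := by rw [hdl.eq]
          _ = d * (l0 * p * l0⁻¹) * d⁻¹ := by group
          _ = (d * p * d⁻¹) * (d * z * d⁻¹) := by rw [hp]; group
          _ = _ := by rw [L.dz, mul_inv_cancel_right]
      have q1 := F.setting.norm d L.dz q hq
      have q2 := F.setting.norm d L.dz _ q1
      have s1 := step q hqc
      have s2 := step _ s1
      set p1 := d * q * d⁻¹ with hp1
      set p2 := d * p1 * d⁻¹ with hp2
      have hmemP : q * p1 * p2 ∈ Q := mul_mem (mul_mem hq q1) q2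
      have h0' : χ (q * p1 * p2) = 0 := by
        rw [F.map_mul _ (mul_mem hq q1) _ q2, F.map_mul _ hq _ q1, L.d_act _ q1, L.d_act _ hq]
        exact kD_sum _
      have hcp : l0 * (q * p1 * p2) * l0⁻¹ = q * p1 * p2 * z := by
        have c1 := F.setting.ci.comm p1 q1
        have c2 := F.setting.ci.comm p2 q2
        calc l0 * (q * p1 * p2) * l0⁻¹ = (l0 * q * l0⁻¹) * (l0 * p1 * l0⁻¹) * (l0 * p2 * l0⁻¹) := by
              group
          _ = q * (z * p1) * z * p2 * z := by rw [hqc, s1, s2]; group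
          _ = q * p1 * (z * z) * p2 * z := by rw [← c1]; group
          _ = _ := by rw [F.setting.ci.sq, mul_one]
      apply F.setting.ci.ne_one
      rcases (F.ker _ hmemP).1 h0' with e' | e' <;> rw [e'] at hcp
      · simpa using hcp.symm
      · rw [L.l0z, mul_inv_cancel_right, F.setting.ci.sq] at hcp; exact hcp
  -- the contradiction
  set h1 := q⁻¹ * h0 with hh1
  have hl0z' : h1 * z * h1⁻¹ = l0 := by
    calc h1 * z * h1⁻¹ = q⁻¹ * (h0 * z * h0⁻¹) * q := by rw [hh1]; group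
      _ = l0 := by rw [hz0, hql]
  have hz1 : h1 * l0 * h1⁻¹ = z := by
    calc h1 * l0 * h1⁻¹ = q⁻¹ * (h0 * l0 * h0⁻¹) * q := by rw [hh1]; group
      _ = q⁻¹ * (z * q) := by rw [hl00, mul_assoc]
      _ = z := by rw [← F.setting.ci.comm q hq, inv_mul_cancel_left]
  have he1 : h1 * e * h1⁻¹ = d := by
    calc h1 * e * h1⁻¹ = q⁻¹ * d1 * q := by rw [hh1, hd1def]; group
      _ = d := by rw [← key]; group
  have hss : s * s = 1 ∨ s * s = z := by
    refine F.small L.d_act (Commute.mul_left L.sz L.sz) (Commute.mul_left L.sd L.sd) ?_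
    have := F.acts_mul L.sz symp_sG L.s_act L.s_act
    rwa [oneK_mul, show sG ∘ sG = id from funext fun y => (sG_facts y).2.2.1] at this
  have hsl0 : s * l0 * s⁻¹ = l0 := by
    have e2 : (s * s) * l1 * (s * s)⁻¹ = l1 := by
      rcases hss with e | e <;> rw [e]
      · simp
      · rw [← L.l1z, mul_inv_cancel_right]
    have e3 : (s * l0 * s⁻¹) * (l0 * l1) = l1 := by
      calc (s * l0 * s⁻¹) * (l0 * l1) = (s * l0 * s⁻¹) * (s * l1 * s⁻¹) := by rw [L.s_conj]
        _ = s * (l0 * l1) * s⁻¹ := by group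
        _ = s * (s * l1 * s⁻¹) * s⁻¹ := by rw [L.s_conj]
        _ = (s * s) * l1 * (s * s)⁻¹ := by group
        _ = l1 := e2
    calc s * l0 * s⁻¹ = (s * l0 * s⁻¹) * (l0 * l1) * (l1⁻¹ * l0⁻¹) := by group
      _ = l0 := by rw [e3, inv_eq_of_mul_eq_one_right L.l0_sq]; group
  have pr : ∀ a : G, a * d = d * a → a * z = z * a → a * l0 = l0 * a →
      (h1 * a * h1⁻¹) * z = z * (h1 * a * h1⁻¹) ∧ (h1 * a * h1⁻¹) * d = d * (h1 * a * h1⁻¹) ∧
      (h1 * a * h1⁻¹) * l0 = l0 * (h1 * a * h1⁻¹) := by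
    intro a had haz hal
    have hae : a * e = e * a := by
      rcases he with rfl | rfl
      · exact had
      · exact (Commute.mul_right had had : _)
    have tr : ∀ b b' : G, a * b = b * a → h1 * b * h1⁻¹ = b' →
        (h1 * a * h1⁻¹) * b' = b' * (h1 * a * h1⁻¹) := by
      intro b b' hab hb
      rw [← hb, show h1 * a * h1⁻¹ * (h1 * b * h1⁻¹) = h1 * (a * b) * h1⁻¹ by group, hab]
      group
    exact ⟨tr l0 z hal hz1, tr e d hae he1, tr z l0 haz hl0z'⟩
  obtain ⟨a1, a2, a3⟩ := pr s L.sd L.sz (mul_inv_eq_iff_eq_mul.1 hsl0)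
  obtain ⟨b1, b2, b3⟩ := pr l1 L.l1d L.l1z L.l01.symm
  have hcval : s * l1 * s⁻¹ * l1⁻¹ = l0 := by rw [L.s_conj, mul_inv_cancel_right]
  have hfinal : h1 * s * h1⁻¹ * (h1 * l1 * h1⁻¹) * (h1 * s * h1⁻¹)⁻¹ * (h1 * l1 * h1⁻¹)⁻¹ = z := by
    rw [← hz1, ← hcval]; group
  rcases hcomm L a1 a2 a3 b1 b2 b3 with e | e <;> rw [hfinal] at e
  · exact F.setting.ci.ne_one e
  · exact hw' u (by simp) (by rw [hw, ← e, ← hu])

end Frame

end Cfsg.Agent.H49
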