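import Cfsg.Agent.H49.Model
import Cfsg.Agent.LargeExtra.Pair
import Cfsg.Agent.LargeExtra.Centralizer

/-!
Coordinates on an extraspecial subgroup of order `2^9`, identifying it modulo its centre with the
tensor model, and the realised pairs.
-/

set_option autoImplicit false

namespace Cfsg.Agent.H49

open Cfsg.Agent.LargeExtra

variable {G : Type*} [Group G]

/-- The element `m` acts on `Q` as the pair `(k, g)`. -/
def Acts (Q : Subgroup G) (χ : G → V) (m : G) (k : K) (g : W → W) : Prop :=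
  ∀ a ∈ Q, χ (m * a * m⁻¹) = act k g (χ a)

/-- The pair `(k, g)` is realised in the centraliser of `z`. -/
def Real (z : G) (Q : Subgroup G) (χ : G → V) (k : K) (g : W → W) : Prop :=
  ∃ m : G, m * z = z * m ∧ Acts Q χ m k g

/-- The coordinates. -/
structure Frame (z : G) (Q : Subgroup G) (χ : G → V) : Prop where
  setting : Setting z Q 4
  map_mul : ∀ a ∈ Q, ∀ b ∈ Q, χ (a * b) = χ a + χ b
  map_surj : ∀ v, ∃ a ∈ Q, χ a = v
  ker : ∀ a ∈ Q, χ a = 0 ↔ a = 1 ∨ a = z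
  sq : ∀ a ∈ Q, a * a = 1 ↔ qV (χ a) = 0
  cm : ∀ a ∈ Q, ∀ b ∈ Q, a * b = b * a ↔ BV (χ a) (χ b) = 0
  acts : ∀ m : G, m * z = z * m → ∃ k g, detK k = 1 ∧ Symp g ∧ Acts Q χ m k g
  mem_of_acts : ∀ m : G, m * z = z * m → Acts Q χ m oneK id → m ∈ Q
  realD : Real z Q χ kD id
  realP : ∀ u v, om u v = 1 → Real z Q χ oneK (tv u ∘ tv v)
  realT : Real z Q χ kT id ∨ ∃ w, w ≠ 0 ∧ Real z Q χ kT (tv w)

namespace Frame

variable {z : G} {Q : Subgroup G} {χ : G → V}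

theorem map_one (F : Frame z Q χ) : χ 1 = 0 := (F.ker 1 (one_mem _)).2 (Or.inl rfl)

theorem map_z (F : Frame z Q χ) : χ z = 0 := (F.ker z F.setting.ci.mem).2 (Or.inr rfl)

theorem v_add_self (v : V) : v + v = 0 := by
  rw [← two_smul (ZMod 2) v, show (2 : ZMod 2) = 0 by decide, zero_smul]

theorem map_inv (F : Frame z Q χ) {a : G} (ha : a ∈ Q) : χ a⁻¹ = χ a := by
  have e := F.map_mul a ha a⁻¹ (inv_mem ha)
  rw [mul_inv_cancel, F.map_one] at e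
  calc χ a⁻¹ = χ a + χ a + χ a⁻¹ := by rw [v_add_self, zero_add]
    _ = χ a + (χ a + χ a⁻¹) := add_assoc _ _ _
    _ = χ a := by rw [← e, add_zero]

theorem eq_or_mul (F : Frame z Q χ) {a b : G} (ha : a ∈ Q) (hb : b ∈ Q) (h : χ a = χ b) :
    b = a ∨ b = a * z := by
  have e : χ (a⁻¹ * b) = 0 := by
    rw [F.map_mul _ (inv_mem ha) _ hb, F.map_inv ha, h, v_add_self]
  rcases (F.ker _ (mul_mem (inv_mem ha) hb)).1 e with r | r
  · exact Or.inl (inv_mul_eq_one.1 r).symm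
  · exact Or.inr (by rw [← r, mul_inv_cancel_left])

theorem acts_mul (F : Frame z Q χ) {m n : G} {k l : K} {g h : W → W} (hn : n * z = z * n)
    (hg : Symp g) (hm : Acts Q χ m k g) (hn' : Acts Q χ n l h) :
    Acts Q χ (m * n) (mulK k l) (g ∘ h) := by
  intro a ha
  have e : m * n * a * (m * n)⁻¹ = m * (n * a * n⁻¹) * m⁻¹ := by group
  rw [e, hm _ (F.setting.norm n hn a ha), hn' a ha]
  simp only [act, appK, mulK, hg.add, hg.smul, Function.comp, smul_add, smul_smul, add_smul, Prod.mk.injEq]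
  constructor <;> abel

theorem real_mul (F : Frame z Q χ) {k l : K} {g h : W → W} (hg : Symp g) (h1 : Real z Q χ k g)
    (h2 : Real z Q χ l h) : Real z Q χ (mulK k l) (g ∘ h) := by
  obtain ⟨m, hm, am⟩ := h1
  obtain ⟨n, hn, an⟩ := h2
  exact ⟨m * n, by rw [mul_assoc, hn, ← mul_assoc, hm, mul_assoc], F.acts_mul hn hg am an⟩

/-- Elements of `Q` act trivially. -/
theorem acts_of_mem (F : Frame z Q χ) {q : G} (hq : q ∈ Q) : Acts Q χ q oneK id := by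
  intro a ha
  simp only [act, appK_one, id]
  rw [F.map_mul _ (mul_mem hq ha) _ (inv_mem hq), F.map_mul _ hq _ ha, F.map_inv hq,
    add_comm (χ q), add_assoc, v_add_self, add_zero]

/-- Transport to a conjugate. -/
theorem conj [Finite G] (F : Frame z Q χ) (g : G) :
    Frame (g * z * g⁻¹) (Q.map (MulAut.conj g).toMonoidHom) (fun a => χ (g⁻¹ * a * g)) := by
  have hS := F.setting
  have back : ∀ m : G, m * (g * z * g⁻¹) = (g * z * g⁻¹) * m →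
      (g⁻¹ * m * g) * z = z * (g⁻¹ * m * g) := by
    intro m hm
    calc g⁻¹ * m * g * z = g⁻¹ * (m * (g * z * g⁻¹)) * g := by group
      _ = _ := by rw [hm]; group
  have cl : ∀ a, g⁻¹ * (g * a * g⁻¹) * g = a := fun a => by group
  have tr : ∀ k h, Real z Q χ k h → Real (g * z * g⁻¹) (Q.map (MulAut.conj g).toMonoidHom)
      (fun a => χ (g⁻¹ * a * g)) k h := by
    rintro k h ⟨m, hm, am⟩
    refine ⟨g * m * g⁻¹, ?_, ?_⟩
    · calc g * m * g⁻¹ * (g * z * g⁻¹) = g * (m * z) * g⁻¹ := by group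
        _ = _ := by rw [hm]; group
    · rintro _ ⟨a, ha, rfl⟩
      show χ (g⁻¹ * (g * m * g⁻¹ * (g * a * g⁻¹) * (g * m * g⁻¹)⁻¹) * g) = act k h (χ (g⁻¹ * (g * a * g⁻¹) * g))
      rw [cl, show g⁻¹ * (g * m * g⁻¹ * (g * a * g⁻¹) * (g * m * g⁻¹)⁻¹) * g = m * a * m⁻¹ by group]
      exact am a ha
  refine ⟨⟨hS.ci.conj g, ?_, ?_, ?_⟩, ?_, ?_, ?_, ?_, ?_, ?_, ?_, tr _ _ F.realD,
    fun u v h => tr _ _ (F.realP u v h), ?_⟩
  · rintro m hm _ ⟨a, ha, rfl⟩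
    refine ⟨g⁻¹ * m * g * a * (g⁻¹ * m * g)⁻¹, hS.norm _ (back m hm) a ha, ?_⟩
    show g * _ * g⁻¹ = m * (g * a * g⁻¹) * m⁻¹
    group
  · intro c hc
    refine ⟨g⁻¹ * c * g, hS.self ?_, by show g * _ * g⁻¹ = c; group⟩
    intro a ha
    have := hc (g * a * g⁻¹) ⟨a, ha, rfl⟩
    calc a * (g⁻¹ * c * g) = g⁻¹ * ((g * a * g⁻¹) * c) * g := by group
      _ = _ := by rw [this]; group
  · rw [← hS.card]
    exact (Nat.card_congr (Q.equivMapOfInjective _ (MulAut.conj g).injective).toEquiv).symm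
  · rintro _ ⟨a, ha, rfl⟩ _ ⟨b, hb, rfl⟩
    show χ (g⁻¹ * (g * a * g⁻¹ * (g * b * g⁻¹)) * g) = χ (g⁻¹ * (g * a * g⁻¹) * g) + χ (g⁻¹ * (g * b * g⁻¹) * g)
    rw [cl, cl, ← F.map_mul a ha b hb]
    congr 1; group
  · intro v
    obtain ⟨a, ha, rfl⟩ := F.map_surj v
    exact ⟨g * a * g⁻¹, ⟨a, ha, rfl⟩, by show χ (g⁻¹ * (g * a * g⁻¹) * g) = χ a; rw [cl]⟩
  · rintro _ ⟨a, ha, rfl⟩
    show χ (g⁻¹ * (g * a * g⁻¹) * g) = 0 ↔ g * a * g⁻¹ = 1 ∨ g * a * g⁻¹ = g * z * g⁻¹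
    rw [cl, F.ker a ha]; simp
  · rintro _ ⟨a, ha, rfl⟩
    show g * a * g⁻¹ * (g * a * g⁻¹) = 1 ↔ qV (χ (g⁻¹ * (g * a * g⁻¹) * g)) = 0
    rw [cl, ← F.sq a ha, show g * a * g⁻¹ * (g * a * g⁻¹) = g * (a * a) * g⁻¹ by group]
    simp [conj_eq_one_iff]
  · rintro _ ⟨a, ha, rfl⟩ _ ⟨b, hb, rfl⟩
    show g * a * g⁻¹ * (g * b * g⁻¹) = g * b * g⁻¹ * (g * a * g⁻¹) ↔
      BV (χ (g⁻¹ * (g * a * g⁻¹) * g)) (χ (g⁻¹ * (g * b * g⁻¹) * g)) = 0
    rw [cl, cl, ← F.cm a ha b hb, show g * a * g⁻¹ * (g * b * g⁻¹) = g * (a * b) * g⁻¹ by group,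
      show g * b * g⁻¹ * (g * a * g⁻¹) = g * (b * a) * g⁻¹ by group]
    simp
  · intro m hm
    obtain ⟨k, h, hk, hh, am⟩ := F.acts _ (back m hm)
    refine ⟨k, h, hk, hh, ?_⟩
    rintro _ ⟨a, ha, rfl⟩
    show χ (g⁻¹ * (m * (g * a * g⁻¹) * m⁻¹) * g) = act k h (χ (g⁻¹ * (g * a * g⁻¹) * g))
    rw [cl, show g⁻¹ * (m * (g * a * g⁻¹) * m⁻¹) * g = (g⁻¹ * m * g) * a * (g⁻¹ * m * g)⁻¹ by group]
    exact am a ha
  · intro m hm am
    refine ⟨g⁻¹ * m * g, F.mem_of_acts _ (back m hm) ?_, by show g * _ * g⁻¹ = m; group⟩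
    intro a ha
    have := am (g * a * g⁻¹) ⟨a, ha, rfl⟩
    show χ _ = _
    rw [show (g⁻¹ * m * g) * a * (g⁻¹ * m * g)⁻¹ = g⁻¹ * (m * (g * a * g⁻¹) * m⁻¹) * g by group]
    exact this.trans (congrArg (fun x => act oneK id (χ x)) (cl a))
  · rcases F.realT with h | ⟨w, hw, h⟩
    · exact Or.inl (tr _ _ h)
    · exact Or.inr ⟨w, hw, tr _ _ h⟩

end Frame

end Cfsg.Agent.H49
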