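import Cfsg.Agent.H49.Pair

/-!
Lifts centralising an element of order three that is fixed-point-free on the tensor model.
-/

set_option autoImplicit false

namespace Cfsg.Agent.H49

/-- The elements of the fours group fixing `b`. -/
def rV (v : W) : W → W := tv v ∘ tv (v + vb)

/-- The outer element of the dihedral group. -/
def sG : W → W := tv vb ∘ tv vc

/-- The element of order three fixing `b`. -/
def rhoG : W → W := tv vc ∘ tv vd

/-- The lifts. -/
structure Lifts {G : Type*} [Group G] (z : G) (Q : Subgroup G) (χ : G → V) (d s r l0 l1 : G) : Prop where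
  dz : d * z = z * d
  d_ord : orderOf d = 3
  d_act : Acts Q χ d kD id
  sz : s * z = z * s
  sd : s * d = d * s
  s_act : Acts Q χ s oneK sG
  rz : r * z = z * r
  rd : r * d = d * r
  r_act : Acts Q χ r oneK rhoG
  l0z : l0 * z = z * l0
  l0d : l0 * d = d * l0
  l0_act : Acts Q χ l0 oneK (rV vc)
  l1z : l1 * z = z * l1
  l1d : l1 * d = d * l1
  l1_act : Acts Q χ l1 oneK (rV vd)
  l0_sq : l0 * l0 = 1
  l1_sq : l1 * l1 = 1
  l01 : l0 * l1 = l1 * l0
  r_conj : r * l0 * r⁻¹ = l1
  s_conj : s * l1 * s⁻¹ = l0 * l1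

namespace Frame

variable {G : Type*} [Group G] {z : G} {Q : Subgroup G} {χ : G → V}

theorem kD_fix : ∀ v : V, act kD id v = v → v = 0 := by decide +kernel

/-- An element acting as `kD` centralises only the centre of `Q`. -/
theorem fix_d (F : Frame z Q χ) {d : G} (hd : Acts Q χ d kD id) {a : G} (ha : a ∈ Q)
    (hc : a * d = d * a) : a = 1 ∨ a = z := by
  refine (F.ker a ha).1 (kD_fix _ ?_)
  rw [← hd a ha, show d * a * d⁻¹ = a by rw [← hc, mul_inv_cancel_right]]

end Frame

end Cfsg.Agent.H49
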