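import Cfsg.Agent.LargeExtra.Pair
import Cfsg.Agent.LargeExtra.Centralizer

/-!
An element of order three centralised by the alternating group of degree six acts without fixed
points on an extraspecial group of order `2^9` with fused centre.
-/

set_option autoImplicit false
set_option linter.unusedSectionVars false

namespace Cfsg.Agent.H49.NoFix

open Cfsg Cfsg.Agent.LargeExtra

/-! ### Quadratic forms on elementary abelian groups -/

theorem z2_eq_zero {a : ZMod 2} (h : a = a + a) : a = 0 := by revert a; decide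

structure Quad (V : Type*) [CommGroup V] where
  q : V → ZMod 2
  B : V → V → ZMod 2
  hq : ∀ u v, q (u * v) = q u + q v + B u v
  mul_left : ∀ u v w, B (u * v) w = B u w + B v w
  symm : ∀ u v, B u v = B v u
  nd : ∀ v, (∀ w, B v w = 0) → v = 1
  sq : ∀ v : V, v * v = 1

section Lin

variable {V : Type*} [CommGroup V]

namespace Quad

variable (F : Quad V)

def Iso (φ : MulAut V) : Prop := ∀ v, F.q (φ v) = F.q v

/-- A subgroup on which the form is non-degenerate. -/
def Nondeg (E : Subgroup V) : Prop := ∀ e ∈ E, (∀ w ∈ E, F.B e w = 0) → e = 1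

theorem B_one_left (w : V) : F.B 1 w = 0 := z2_eq_zero (by simpa using F.mul_left 1 1 w)

theorem q_one : F.q 1 = 0 := by
  have h := F.hq 1 1
  rw [mul_one, F.B_one_left, add_zero] at h
  exact z2_eq_zero h

theorem mul_right (u v w : V) : F.B u (v * w) = F.B u v + F.B u w := by
  rw [F.symm, F.mul_left, F.symm v, F.symm w]

theorem B_zero_of_sing {E : Subgroup V} (h : ∀ e ∈ E, F.q e = 0) {e w : V} (he : e ∈ E) (hw : w ∈ E) :
    F.B e w = 0 := by
  have := F.hq e w
  rw [h _ (mul_mem he hw), h e he, h w hw, add_zero, zero_add] at this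
  exact this.symm

theorem Iso.B_eq {F : Quad V} {φ : MulAut V} (hφ : F.Iso φ) (u v : V) : F.B (φ u) (φ v) = F.B u v := by
  have h1 := F.hq (φ u) (φ v)
  rw [← map_mul, hφ, hφ, hφ, F.hq u v] at h1
  exact (add_left_cancel h1).symm

/-- The displacement of an automorphism. -/
def disp (φ : MulAut V) : V →* V where
  toFun v := φ v * v
  map_one' := by simp
  map_mul' u v := by rw [map_mul, mul_mul_mul_comm]

theorem disp_apply (φ : MulAut V) (v : V) : disp φ v = φ v * v := rfl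

theorem fix_of_sq {φ : MulAut V} {k : ℕ} (hk : φ ^ (2 * k + 1) = 1) {v : V} (h : φ (φ v) = v) : φ v = v := by
  have h2 : ∀ j : ℕ, (φ ^ (2 * j)) v = v := by
    intro j
    induction j with
    | zero => simp
    | succ j ih => rw [mul_add, pow_add, MulAut.mul_apply, mul_one, pow_two, MulAut.mul_apply, h, ih]
  have := DFunLike.congr_fun hk v
  rw [pow_succ', MulAut.mul_apply, h2, MulAut.one_apply] at this
  exact this

include F

theorem inv_eq (v : V) : v⁻¹ = v := inv_eq_of_mul_eq_one_left (F.sq v)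

theorem disp_eq_one (φ : MulAut V) (v : V) : disp φ v = 1 ↔ φ v = v := by
  rw [disp_apply, mul_eq_one_iff_eq_inv, F.inv_eq]

theorem orth {φ : MulAut V} (hφ : F.Iso φ) {v : V} (hv : φ v = v) (u : V) : F.B v (disp φ u) = 0 := by
  rw [disp_apply, F.mul_right]
  have h := hφ.B_eq v u
  rw [hv] at h
  rw [h]
  exact ZModModule.add_self _

theorem eq_one_of_fixed_range {φ : MulAut V} {k : ℕ} (hk : φ ^ (2 * k + 1) = 1) {u : V}
    (hu : u ∈ (disp φ).range) (hfix : φ u = u) : u = 1 := by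
  obtain ⟨v, rfl⟩ := hu
  rw [disp_apply, map_mul, mul_comm (φ v) v] at hfix
  exact (F.disp_eq_one φ v).2 (fix_of_sq hk (mul_right_cancel hfix))

theorem decomp [Finite V] {φ : MulAut V} {k : ℕ} (hk : φ ^ (2 * k + 1) = 1) (v : V) :
    ∃ u ∈ (disp φ).range, φ (v * u) = v * u := by
  let f : ↥(disp φ).range → ↥(disp φ).range := fun u => ⟨disp φ u.1, ⟨u.1, rfl⟩⟩
  have hf : Function.Injective f := by
    rintro ⟨a, ha⟩ ⟨b, hb⟩ h
    have h' : disp φ a = disp φ b := congrArg Subtype.val h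
    have h1 : disp φ (a * b) = 1 := by rw [map_mul, h', F.sq]
    have := F.eq_one_of_fixed_range hk (mul_mem ha hb) ((F.disp_eq_one φ _).1 h1)
    exact Subtype.ext ((mul_eq_one_iff_eq_inv.1 this).trans (F.inv_eq b))
  obtain ⟨⟨u, hu⟩, e⟩ := (Finite.injective_iff_surjective.1 hf) ⟨disp φ v, ⟨v, rfl⟩⟩
  refine ⟨u, hu, (F.disp_eq_one φ _).1 ?_⟩
  rw [map_mul, show disp φ u = disp φ v from congrArg Subtype.val e, F.sq]

theorem nondeg_range [Finite V] {φ : MulAut V} (hφ : F.Iso φ) {k : ℕ} (hk : φ ^ (2 * k + 1) = 1) :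
    F.Nondeg (disp φ).range := by
  intro e he h
  refine F.nd e fun w => ?_
  obtain ⟨u, hu, hfix⟩ := F.decomp hk w
  obtain ⟨y, rfl⟩ := he
  have h1 := F.orth hφ hfix y
  rw [F.symm, F.mul_right, h u hu, add_zero] at h1
  exact h1

theorem nondeg_fixed [Finite V] {φ : MulAut V} (hφ : F.Iso φ) {k : ℕ} (hk : φ ^ (2 * k + 1) = 1) :
    F.Nondeg (disp φ).ker := by
  intro e he h
  refine F.nd e fun w => ?_
  obtain ⟨u, hu, hfix⟩ := F.decomp hk w
  obtain ⟨y, rfl⟩ := hu
  have h1 := h _ (MonoidHom.mem_ker.2 ((F.disp_eq_one φ _).2 hfix))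
  rwa [F.mul_right, F.orth hφ ((F.disp_eq_one φ e).1 he), add_zero] at h1

end Quad

theorem congr_fix [Finite V] {p : ℕ} [hp : Fact p.Prime] {φ : MulAut V} (hφ : φ ^ p = 1) (S : Set V)
    (hS : ∀ v ∈ S, φ v ∈ S) : S.ncard ≡ {v ∈ S | φ v = v}.ncard [MOD p] := by
  haveI : Finite (MulAut V) := DFunLike.finite _
  have hX : IsPGroup p ↥(Subgroup.zpowers φ) := by
    rintro ⟨x, j, rfl⟩
    refine ⟨1, Subtype.ext ?_⟩
    show (φ ^ j) ^ p ^ 1 = 1
    rw [pow_one, ← zpow_natCast, ← zpow_mul, mul_comm, zpow_mul, zpow_natCast, hφ, one_zpow]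
  have hpow : ∀ (n : ℕ), ∀ v ∈ S, (φ ^ n) v ∈ S := by
    intro n
    induction n with
    | zero => simp
    | succ n ih => intro v hv; rw [pow_succ, MulAut.mul_apply]; exact ih _ (hS v hv)
  have hinv : ∀ x ∈ Subgroup.zpowers φ, ∀ v ∈ S, x v ∈ S := by
    intro x hx v hv
    obtain ⟨n, rfl⟩ := Submonoid.mem_powers_iff x φ |>.1 (mem_powers_iff_mem_zpowers.2 hx)
    exact hpow n v hv
  letI : MulAction ↥(Subgroup.zpowers φ) ↥S :=
    { smul := fun x v => ⟨(x : MulAut V) v.1, hinv x x.2 v v.2⟩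
      one_smul := fun v => Subtype.ext rfl
      mul_smul := fun x y v => Subtype.ext rfl }
  have h := hX.card_modEq_card_fixedPoints ↥S
  let e : ↥(MulAction.fixedPoints ↥(Subgroup.zpowers φ) ↥S) ≃ ↥{v ∈ S | φ v = v} :=
    { toFun := fun v => ⟨v.1.1, v.1.2, congrArg Subtype.val (v.2 ⟨φ, Subgroup.mem_zpowers φ⟩)⟩
      invFun := fun v => ⟨⟨v.1, v.2.1⟩, fun x => Subtype.ext (by
        obtain ⟨n, hn⟩ := Submonoid.mem_powers_iff _ φ |>.1 (mem_powers_iff_mem_zpowers.2 x.2)
        show (x : MulAut V) v.1 = v.1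
        rw [← hn]
        clear hn
        induction n with
        | zero => simp
        | succ n ih => rw [pow_succ, MulAut.mul_apply, v.2.2, ih])⟩
      left_inv := fun v => rfl
      right_inv := fun v => rfl }
  rwa [Nat.card_congr e, Nat.card_coe_set_eq, Nat.card_coe_set_eq] at h

theorem card_cases [Finite V] (hV : Nat.card V = 256) (E : Subgroup V) :
    Nat.card E = 1 ∨ Nat.card E = 2 ∨ Nat.card E = 4 ∨ Nat.card E = 8 ∨ Nat.card E = 16 ∨
      Nat.card E = 32 ∨ Nat.card E = 64 ∨ Nat.card E = 128 ∨ Nat.card E = 256 := by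
  have h : Nat.card E ∣ 2 ^ 8 := by
    rw [show 2 ^ 8 = 256 from rfl, ← hV]; exact Subgroup.card_subgroup_dvd_card E
  obtain ⟨k, hk, e⟩ := (Nat.dvd_prime_pow Nat.prime_two).1 h
  rw [e]
  interval_cases k <;> norm_num

theorem ncard_diff_one [Finite V] (E : Subgroup V) :
    ((E : Set V) \ {1}).ncard = Nat.card E - 1 := by
  rw [Set.ncard_sdiff_singleton_of_mem (one_mem E)]
  rfl

namespace Quad

variable [Finite V] (F : Quad V)
include F

theorem not_const {E : Subgroup V} (hnd : F.Nondeg E) (h3 : 8 ≤ Nat.card E) (c : ZMod 2)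
    (h : ∀ e ∈ E, e ≠ 1 → F.q e = c) : False := by
  classical
  have hc : c = 0 ∨ c = 1 := by clear h; revert c; decide
  rcases hc with rfl | rfl
  · have h0 : ∀ e ∈ E, F.q e = 0 := fun e he => by
      by_cases e1 : e = 1
      · rw [e1, F.q_one]
      · exact h e he e1
    have hE : E = ⊥ := E.eq_bot_iff_forall.2 fun e he => hnd e he fun w hw => F.B_zero_of_sing h0 he hw
    rw [hE, Subgroup.card_bot] at h3
    omega
  · have hB : ∀ a ∈ E, ∀ b ∈ E, a ≠ 1 → b ≠ 1 → a ≠ b → F.B a b = 1 := by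
      intro a ha b hb ha1 hb1 hab
      have hne : a * b ≠ 1 := fun e => hab (by rw [mul_eq_one_iff_eq_inv.1 e, F.inv_eq])
      have := F.hq a b
      rw [h a ha ha1, h b hb hb1, h _ (mul_mem ha hb) hne] at this
      revert this
      generalize F.B a b = t
      revert t; decide
    have hex : ∀ S : Finset V, S.card ≤ 4 → ∃ c ∈ E, c ∉ S := by
      intro S hS
      by_contra hh
      push Not at hh
      have hsub : (E : Set V) ⊆ (S : Set V) := hh
      have := Set.ncard_le_ncard hsub (Finset.finite_toSet S)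
      rw [Set.ncard_coe_finset] at this
      have e : (E : Set V).ncard = Nat.card E := rfl
      omega
    obtain ⟨a, ha, ha1⟩ := hex {1} (by simp)
    obtain ⟨b, hb, hb1⟩ := hex {1, a} ((Finset.card_insert_le _ _).trans (by simp))
    obtain ⟨d, hd, hd1⟩ := hex {1, a, b, a * b} (Finset.card_le_four)
    simp only [Finset.mem_insert, Finset.mem_singleton, not_or] at ha1 hb1 hd1
    obtain ⟨d1, da, db, dab⟩ := hd1
    have hbd : b * d ≠ 1 := fun e => db (by rw [eq_inv_of_mul_eq_one_right e, F.inv_eq])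
    have habd : a ≠ b * d := fun e => dab (by rw [e, mul_comm b d, mul_assoc, F.sq, mul_one])
    have := hB a ha _ (mul_mem hb hd) ha1 hbd habd
    rw [F.mul_right, hB a ha b hb ha1 hb1.1 (Ne.symm hb1.2), hB a ha d hd ha1 d1 (Ne.symm da)] at this
    exact absurd this (by decide)

/-- The fibres of the form on a nondegenerate subgroup. -/
def fib (E : Subgroup V) (c : ZMod 2) : Set V := {e | e ∈ E ∧ e ≠ 1 ∧ F.q e = c}

theorem fib_add (E : Subgroup V) : (F.fib E 0).ncard + (F.fib E 1).ncard = Nat.card E - 1 := by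
  rw [← ncard_diff_one, ← Set.ncard_union_eq ?_ (Set.toFinite _) (Set.toFinite _)]
  · congr 1
    ext e
    have : F.q e = 0 ∨ F.q e = 1 := by generalize F.q e = t; revert t; decide
    simp only [fib, Set.mem_union, Set.mem_setOf_eq, Set.mem_sdiff, SetLike.mem_coe, Set.mem_singleton_iff]
    tauto
  · rw [Set.disjoint_left]
    rintro e ⟨-, -, h0⟩ ⟨-, -, h1⟩
    rw [h0] at h1
    exact absurd h1 (by decide)

theorem fib_dvd {E : Subgroup V} {p : ℕ} [Fact p.Prime] {φ : MulAut V} (hφ : F.Iso φ) (hp : φ ^ p = 1)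
    (hE : ∀ e ∈ E, φ e ∈ E) (hfpf : ∀ e ∈ E, φ e = e → e = 1) (c : ZMod 2) : p ∣ (F.fib E c).ncard := by
  have h := congr_fix (p := p) hp (F.fib E c) fun v hv =>
    ⟨hE v hv.1, fun e => hv.2.1 (φ.injective (e.trans (map_one φ).symm)), (hφ v).trans hv.2.2⟩
  rw [show {v ∈ F.fib E c | φ v = v} = ∅ from Set.eq_empty_iff_forall_notMem.2
    fun v hv => hv.1.2.1 (hfpf v hv.1.1 hv.2), Set.ncard_empty] at h
  exact Nat.modEq_zero_iff_dvd.1 h

theorem fib_ne_zero {E : Subgroup V} (hnd : F.Nondeg E) (h3 : 8 ≤ Nat.card E) (c : ZMod 2) :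
    (F.fib E c).ncard ≠ 0 := by
  intro h
  rw [Set.ncard_eq_zero (Set.toFinite _)] at h
  refine F.not_const hnd h3 (c + 1) fun e he e1 => ?_
  by_contra hq
  have : F.q e = c := by
    revert hq; generalize F.q e = t; clear h; revert t c; decide
  exact (Set.eq_empty_iff_forall_notMem.1 h) e ⟨he, e1, this⟩

theorem fix16 {E : Subgroup V} (hnd : F.Nondeg E) (h16 : Nat.card E = 16) {g δ : MulAut V}
    (hg : F.Iso g) (hδ : F.Iso δ) (hg5 : g ^ 5 = 1) (hδ3 : δ ^ 3 = 1) (hgE : ∀ e ∈ E, g e ∈ E)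
    (hδE : ∀ e ∈ E, δ e ∈ E) (hfpf : ∀ e ∈ E, g e = e → e = 1) (hcomm : ∀ v, g (δ v) = δ (g v)) :
    ∀ e ∈ E, δ e = e := by
  haveI : Fact (Nat.Prime 5) := ⟨by norm_num⟩
  haveI : Fact (Nat.Prime 3) := ⟨by norm_num⟩
  set W := E ⊓ (disp δ).ker with hW
  have hWm : ∀ w, w ∈ W ↔ w ∈ E ∧ δ w = w := fun w => and_congr_right fun _ => F.disp_eq_one δ w
  have h := congr_fix (p := 5) hg5 (W : Set V) fun v hv => (hWm _).2
    ⟨hgE v ((hWm v).1 hv).1, by rw [← hcomm, ((hWm v).1 hv).2]⟩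
  rw [show {v ∈ (W : Set V) | g v = v} = {1} from Set.ext fun v =>
    ⟨fun hv => hfpf v ((hWm v).1 hv.1).1 hv.2, fun hv => by
      rw [Set.mem_singleton_iff] at hv; subst hv; exact ⟨one_mem W, map_one g⟩⟩, Set.ncard_singleton] at h
  have hd : Nat.card W ∣ 2 ^ 4 := by
    rw [show 2 ^ 4 = 16 from rfl, ← h16]; exact Subgroup.card_dvd_of_le inf_le_left
  obtain ⟨k, hk, e⟩ := (Nat.dvd_prime_pow Nat.prime_two).1 hd
  have hh : Nat.card W % 5 = 1 := h
  rw [e] at hh
  interval_cases k <;> norm_num at hh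
  · exfalso
    have hδfpf : ∀ v ∈ E, δ v = v → v = 1 := fun v hv hv' => by
      have hbot : W = ⊥ := Subgroup.card_eq_one.1 (by rw [e]; norm_num)
      exact Subgroup.mem_bot.1 (hbot ▸ (hWm v).2 ⟨hv, hv'⟩)
    have k0 := F.fib_dvd hg hg5 hgE hfpf 0
    have k1 := F.fib_dvd hg hg5 hgE hfpf 1
    have l0 := F.fib_dvd hδ hδ3 hδE hδfpf 0
    have l1 := F.fib_dvd hδ hδ3 hδE hδfpf 1
    have n0 := F.fib_ne_zero hnd (by omega) 0
    have n1 := F.fib_ne_zero hnd (by omega) 1
    have hadd := F.fib_add E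
    omega
  · intro v hv
    have hWE : W = E := Subgroup.eq_of_le_of_card_ge inf_le_left (by rw [h16, e]; norm_num)
    exact ((hWm v).1 (hWE.symm ▸ hv)).2

end Quad

end Lin

/-! ### The alternating group -/

abbrev A6 : Subgroup (Equiv.Perm (Fin 6)) := alternatingGroup (Fin 6)

def g0 : ↥A6 := ⟨Equiv.swap 0 1 * Equiv.swap 1 2 * Equiv.swap 2 3 * Equiv.swap 3 4,
  Equiv.Perm.mem_alternatingGroup.2 (by decide +kernel)⟩

def b0 : ↥A6 := ⟨Equiv.swap 1 4 * Equiv.swap 2 3,
  Equiv.Perm.mem_alternatingGroup.2 (by decide +kernel)⟩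

theorem g0_pow : g0 ^ 5 = 1 := by decide +kernel

theorem g0_ne : g0 ≠ 1 := by decide +kernel

theorem a6_kernel {H : Type*} [Group H] (f : ↥A6 →* H) {a : ↥A6} (ha : a ≠ 1) (hf : f a = 1) :
    ∀ b, f b = 1 := by
  haveI : IsSimpleGroup ↥A6 := alternatingGroup.isSimpleGroup (by simp)
  rcases (f.normal_ker).eq_bot_or_eq_top with h | h
  · exact absurd (Subgroup.mem_bot.1 (h ▸ MonoidHom.mem_ker.2 hf)) ha
  · exact fun b => MonoidHom.mem_ker.1 (h ▸ Subgroup.mem_top b)

theorem exists_inverted {t : ↥A6} (ht : t * t = 1) (ht1 : t ≠ 1) :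
    ∃ a : ↥A6, a ^ 5 = 1 ∧ a ≠ 1 ∧ t * a * t = a⁻¹ := by
  haveI : Fact (Nat.Prime 2) := ⟨Nat.prime_two⟩
  have ht' : orderOf (t : Equiv.Perm (Fin 6)) = 2 := orderOf_eq_prime
    (by rw [pow_two]; exact congrArg Subtype.val ht) fun e => ht1 (Subtype.ext e)
  obtain ⟨n, hn⟩ := Equiv.Perm.cycleType_prime_order (by rw [ht']; norm_num)
  rw [ht'] at hn
  have hs := Equiv.Perm.sign_of_cycleType (t : Equiv.Perm (Fin 6))
  rw [Equiv.Perm.mem_alternatingGroup.1 t.2, hn] at hs
  have hsum : (Equiv.Perm.cycleType (t : Equiv.Perm (Fin 6))).sum ≤ 6 := by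
    rw [Equiv.Perm.sum_cycleType]
    exact (Finset.card_le_univ _).trans (by simp)
  rw [hn, Multiset.sum_replicate, smul_eq_mul] at hsum
  have hn1 : n = 1 := by
    have : n ≤ 2 := by omega
    interval_cases n
    · exact absurd hs (by decide)
    · rfl
    · exact absurd hs (by decide)
  subst hn1
  have hb : Equiv.Perm.cycleType (b0 : Equiv.Perm (Fin 6)) = Multiset.replicate (1 + 1) 2 := by
    decide +kernel
  obtain ⟨c, hc⟩ := isConj_iff.1 (Equiv.Perm.isConj_iff_cycleType_eq.2 (hb.trans hn.symm))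
  let a : ↥A6 := ⟨c * (g0 : Equiv.Perm (Fin 6)) * c⁻¹,
    Subgroup.Normal.conj_mem inferInstance _ g0.2 c⟩
  refine ⟨a, Subtype.ext ?_, fun e => g0_ne (Subtype.ext ?_), Subtype.ext ?_⟩
  · show (c * (g0 : Equiv.Perm (Fin 6)) * c⁻¹) ^ 5 = 1
    rw [conj_pow, show (g0 : Equiv.Perm (Fin 6)) ^ 5 = 1 by rw [← SubgroupClass.coe_pow, g0_pow, Subgroup.coe_one]]
    simp
  · exact conj_eq_one_iff.1 (congrArg Subtype.val e)
  · show (t : Equiv.Perm (Fin 6)) * (c * (g0 : Equiv.Perm (Fin 6)) * c⁻¹) * t =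
      (c * (g0 : Equiv.Perm (Fin 6)) * c⁻¹)⁻¹
    have e : (b0 : Equiv.Perm (Fin 6)) * g0 * b0 = (g0 : Equiv.Perm (Fin 6))⁻¹ := by decide +kernel
    rw [← hc, conj_inv, ← e]
    group

/-! ### The linear statements -/

section Main

variable {V : Type*} [CommGroup V] [Finite V] (F : Quad V)

theorem a6_fpf {E : Subgroup V} (hnd : F.Nondeg E) (h16 : Nat.card E = 16) (ψ : ↥A6 →* MulAut V)
    (hiso : ∀ a, F.Iso (ψ a)) (hE : ∀ a, ∀ e ∈ E, ψ a e ∈ E)
    (hfpf : ∀ e ∈ E, ψ g0 e = e → e = 1) : False := by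
  haveI : Fact (Nat.Prime 5) := ⟨by norm_num⟩
  have h5 : ψ g0 ^ 5 = 1 := by rw [← map_pow, g0_pow, map_one]
  obtain ⟨c, hc⟩ : ∃ c, (F.fib E c).ncard = 5 := by
    have := F.fib_dvd (hiso g0) h5 (hE g0) hfpf 0
    have := F.fib_dvd (hiso g0) h5 (hE g0) hfpf 1
    have := F.fib_ne_zero hnd (by omega) 0
    have := F.fib_ne_zero hnd (by omega) 1
    have := F.fib_add E
    rcases Nat.lt_or_ge (F.fib E 0).ncard 6 with h | h
    · exact ⟨0, by omega⟩
    · exact ⟨1, by omega⟩
  set S := F.fib E c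
  have hS : ∀ a, ∀ v ∈ S, ψ a v ∈ S := fun a v hv =>
    ⟨hE a v hv.1, fun e => hv.2.1 ((ψ a).injective (e.trans (map_one _).symm)), (hiso a v).trans hv.2.2⟩
  have hl : ∀ (a : ↥A6) (v : V), (ψ a⁻¹) (ψ a v) = v := fun a v => by
    rw [← MulAut.mul_apply, ← map_mul, inv_mul_cancel, map_one, MulAut.one_apply]
  let f : ↥A6 →* Equiv.Perm ↥S :=
    { toFun := fun a => ⟨fun v => ⟨ψ a v.1, hS a v.1 v.2⟩, fun v => ⟨ψ a⁻¹ v.1, hS a⁻¹ v.1 v.2⟩,
        fun v => Subtype.ext (hl a v.1),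
        fun v => Subtype.ext (by simpa using hl a⁻¹ v.1)⟩
      map_one' := by ext v; simp
      map_mul' := fun a b => by ext v; simp }
  by_cases hinj : Function.Injective f
  · have := Nat.card_le_card_of_injective f hinj
    rw [Nat.card_perm, Nat.card_coe_set_eq, hc] at this
    have hA : Nat.card ↥A6 = 360 := by
      rw [nat_card_alternatingGroup, Nat.card_fin]; rfl
    rw [hA] at this
    exact absurd this (by decide)
  · obtain ⟨a, ha, ha1⟩ : ∃ a, f a = 1 ∧ a ≠ 1 := by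
      rw [injective_iff_map_eq_one] at hinj; push Not at hinj; exact hinj
    obtain ⟨v, hv⟩ := Set.nonempty_of_ncard_ne_zero (s := S) (by omega)
    refine hv.2.1 (hfpf v hv.1 ?_)
    exact congrArg Subtype.val (Equiv.congr_fun (a6_kernel f ha1 ha g0) ⟨v, hv⟩)

/-- The structure forced by a fixed vector. -/
theorem structure_of_fixed (hV : Nat.card V = 256) (ψ : ↥A6 →* MulAut V) {δ : MulAut V}
    (hψ : ∀ a, F.Iso (ψ a)) (hδ : F.Iso δ) (hδ3 : δ ^ 3 = 1) (hδ1 : δ ≠ 1)
    (hcomm : ∀ a v, ψ a (δ v) = δ (ψ a v)) (hfaith : ψ g0 ≠ 1) {v₀ : V} (h0 : v₀ ≠ 1) (hv₀ : δ v₀ = v₀) :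
    (∀ a, ∀ u ∈ (Quad.disp δ).range, ψ a u = u) ∧
      ∀ u ∈ (Quad.disp δ).range, u ≠ 1 → F.q u = 1 := by
  haveI : Fact (Nat.Prime 5) := ⟨by norm_num⟩
  haveI : Fact (Nat.Prime 3) := ⟨by norm_num⟩
  set C := (Quad.disp δ).ker with hC
  set U := (Quad.disp δ).range with hU
  set g := ψ g0 with hg
  set E := (Quad.disp g).range with hE
  have h5 : g ^ (2 * 2 + 1) = 1 := by rw [hg, ← map_pow, g0_pow, map_one]
  have h3 : δ ^ (2 * 1 + 1) = 1 := hδ3
  have hfpf : ∀ e ∈ E, g e = e → e = 1 := fun e he h => F.eq_one_of_fixed_range h5 he h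
  have hgE : ∀ e ∈ E, g e ∈ E := by
    rintro _ ⟨v, rfl⟩
    exact ⟨g v, by simp [Quad.disp_apply]⟩
  have hδE : ∀ e ∈ E, δ e ∈ E := by
    rintro _ ⟨v, rfl⟩
    exact ⟨δ v, by simp [Quad.disp_apply, hg, hcomm]⟩
  have hψC : ∀ a, ∀ c ∈ C, ψ a c ∈ C := fun a c hc => by
    rw [hC, MonoidHom.mem_ker, F.disp_eq_one, ← hcomm]
    rw [hC, MonoidHom.mem_ker, F.disp_eq_one] at hc
    rw [hc]
  have hψU : ∀ a, ∀ u ∈ U, ψ a u ∈ U := by
    rintro a _ ⟨v, rfl⟩
    exact ⟨ψ a v, by simp [Quad.disp_apply, hcomm]⟩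
  -- the size of the fixed space
  have hCne : Nat.card C ≠ 1 := fun h => h0 (Subgroup.mem_bot.1 ((Subgroup.card_eq_one.1 h) ▸
    MonoidHom.mem_ker.2 ((F.disp_eq_one δ v₀).2 hv₀)))
  have hC256 : Nat.card C ≠ 256 := fun h => hδ1 (MulEquiv.ext fun v => by
    have : C = ⊤ := Subgroup.eq_top_of_card_eq C (h.trans hV.symm)
    exact (F.disp_eq_one δ v).1 (MonoidHom.mem_ker.1 (show v ∈ C by rw [this]; exact Subgroup.mem_top v)))
  have cmod : ∀ (φ : MulAut V) (p : ℕ) [Fact p.Prime], φ ^ p = 1 →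
      Nat.card ↥(Quad.disp φ).ker % p = 256 % p := by
    intro φ p _ hφ
    have h := congr_fix (p := p) hφ Set.univ fun _ _ => trivial
    rw [Set.ncard_univ, hV, show {v ∈ (Set.univ : Set V) | φ v = v} = ((Quad.disp φ).ker : Set V) from
      Set.ext fun v => ⟨fun h => MonoidHom.mem_ker.2 ((F.disp_eq_one φ v).2 h.2),
        fun h => ⟨trivial, (F.disp_eq_one φ v).1 (MonoidHom.mem_ker.1 h)⟩⟩] at h
    exact h.symm
  have cprod : ∀ φ : MulAut V, Nat.card ↥(Quad.disp φ).ker * Nat.card ↥(Quad.disp φ).range = 256 := by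
    intro φ
    rw [← Subgroup.index_ker, Subgroup.card_mul_index, hV]
  have gmod := cmod g 5 h5
  have gprod := cprod g
  rw [← hE] at gprod
  have dmod := cmod δ 3 hδ3
  rw [← hC] at dmod
  have Cnd := F.nondeg_fixed hδ h3
  -- the fixed space is not of order sixteen with a fixed-point-free element
  have no16 : Nat.card C = 16 → (∀ c ∈ C, g c = c → c = 1) → False := fun h hf =>
    a6_fpf F Cnd h ψ hψ hψC hf
  have hEne : Nat.card E ≠ 1 := fun h => hfaith (MulEquiv.ext fun v =>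
    (F.disp_eq_one g v).1 (Subgroup.mem_bot.1 ((Subgroup.card_eq_one.1 h) ▸ (⟨v, rfl⟩ : _ ∈ E))))
  have hE16 : Nat.card E = 16 := by
    rcases card_cases hV (Quad.disp g).ker with h | h | h | h | h | h | h | h | h <;>
      rw [h] at gmod gprod <;> norm_num at gmod
    · exfalso
      have hall : ∀ v : V, g v = v → v = 1 := fun v hv => Subgroup.mem_bot.1
        ((Subgroup.card_eq_one.1 h) ▸ MonoidHom.mem_ker.2 ((F.disp_eq_one g v).2 hv))
      have hc5 := congr_fix (p := 5) h5 (C : Set V) (hψC g0)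
      rw [show {v ∈ (C : Set V) | g v = v} = {1} from Set.ext fun v =>
        ⟨fun hv => hall v hv.2, fun hv => by
          rw [Set.mem_singleton_iff] at hv; subst hv; exact ⟨one_mem C, map_one g⟩⟩,
        Set.ncard_singleton] at hc5
      have hc5' : Nat.card C % 5 = 1 := hc5
      refine no16 ?_ fun c _ => hall c
      rcases card_cases hV C with k | k | k | k | k | k | k | k | k <;> rw [k] at hc5' hCne hC256 ⊢ <;>
        omega
    · omega
    · omega
  have hEC : ∀ e ∈ E, δ e = e := F.fix16 (F.nondeg_range (hψ g0) h5) hE16 (hψ g0) hδ h5 hδ3 hgE hδE hfpf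
    (hcomm g0)
  have hgU : ∀ u ∈ U, g u = u := fun u hu => by
    refine (F.disp_eq_one g u).1 (F.eq_one_of_fixed_range h3 ?_ (hEC _ ⟨u, rfl⟩))
    exact mul_mem (hψU g0 u hu) hu
  have hfix : ∀ a, ∀ u ∈ U, ψ a u = u := by
    have hl : ∀ (a : ↥A6) (v : V), (ψ a⁻¹) (ψ a v) = v := fun a v => by
      rw [← MulAut.mul_apply, ← map_mul, inv_mul_cancel, map_one, MulAut.one_apply]
    let f : ↥A6 →* Equiv.Perm ↥U :=
      { toFun := fun a => ⟨fun v => ⟨ψ a v.1, hψU a v.1 v.2⟩, fun v => ⟨ψ a⁻¹ v.1, hψU a⁻¹ v.1 v.2⟩,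
          fun v => Subtype.ext (hl a v.1),
          fun v => Subtype.ext (by simpa using hl a⁻¹ v.1)⟩
        map_one' := by ext v; simp
        map_mul' := fun a b => by ext v; simp }
    have hf : f g0 = 1 := by ext v; exact hgU v.1 v.2
    exact fun a u hu => congrArg Subtype.val (Equiv.congr_fun (a6_kernel f g0_ne hf a) ⟨u, hu⟩)
  refine ⟨hfix, ?_⟩
  have hU4 : Nat.card U = 4 := by
    have hprod := cprod δ
    rw [← hC, ← hU] at hprod
    have hEle : E ≤ C := fun e he => MonoidHom.mem_ker.2 ((F.disp_eq_one δ e).2 (hEC e he))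
    have hge := Subgroup.card_le_of_le hEle
    have h16 : Nat.card C ≠ 16 := fun h => no16 h fun c hc => hfpf c
      ((Subgroup.eq_of_le_of_card_ge hEle (by rw [h, hE16])).symm ▸ hc)
    rcases card_cases hV C with k | k | k | k | k | k | k | k | k <;>
      rw [k] at hprod dmod hC256 hge h16 <;> omega
  have hUfpf : ∀ u ∈ U, δ u = u → u = 1 := fun u hu h => F.eq_one_of_fixed_range h3 hu h
  have hδU : ∀ u ∈ U, δ u ∈ U := by
    rintro _ ⟨v, rfl⟩
    exact ⟨δ v, by simp [Quad.disp_apply]⟩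
  have h0' : (F.fib U 0).ncard = 0 := by
    have k0 := F.fib_dvd hδ hδ3 hδU hUfpf 0
    have hadd := F.fib_add U
    by_contra hne
    have h1 : (F.fib U 1).ncard = 0 := by omega
    rw [Set.ncard_eq_zero (Set.toFinite _)] at h1
    have hall : ∀ u ∈ U, F.q u = 0 := fun u hu => by
      by_cases hu1 : u = 1
      · rw [hu1, F.q_one]
      by_contra hq
      refine (Set.eq_empty_iff_forall_notMem.1 h1) u ⟨hu, hu1, ?_⟩
      revert hq; generalize F.q u = t; revert t; decide
    have : U = ⊥ := U.eq_bot_iff_forall.2 fun u hu =>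
      F.nondeg_range hδ h3 u hu fun w hw => F.B_zero_of_sing hall hu hw
    rw [this, Subgroup.card_bot] at hU4
    omega
  intro u hu hu1
  rw [Set.ncard_eq_zero (Set.toFinite _)] at h0'
  by_contra hq
  refine (Set.eq_empty_iff_forall_notMem.1 h0') u ⟨hu, hu1, ?_⟩
  revert hq; generalize F.q u = t; revert t; decide

/-- An involution whose displacement on the fixed space is totally singular is impossible. -/
theorem no_singular_involution (hV : Nat.card V = 256) (ψ : ↥A6 →* MulAut V) {δ : MulAut V}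
    (hψ : ∀ a, F.Iso (ψ a)) (hδ : F.Iso δ) (hδ3 : δ ^ 3 = 1)
    (hδ1 : δ ≠ 1) (hcomm : ∀ a v, ψ a (δ v) = δ (ψ a v)) (hinj : ∀ a, ψ a = 1 → a = 1)
    (hfix : ∀ a, ∀ u ∈ (Quad.disp δ).range, ψ a u = u)
    {t : ↥A6} (ht : t * t = 1) (ht1 : t ≠ 1) {D : Subgroup V} (hD : ∀ e ∈ D, F.q e = 0)
    (him : ∀ c, δ c = c → Quad.disp (ψ t) c ∈ D) : False := by
  classical
  haveI : Fact (Nat.Prime 5) := ⟨by norm_num⟩
  obtain ⟨a, ha5, ha1, hta⟩ := exists_inverted ht ht1
  set g := ψ a with hg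
  set β := ψ t with hβ
  have h5 : g ^ (2 * 2 + 1) = 1 := by rw [hg, ← map_pow, ha5, map_one]
  have hbg : ∀ v, β (g (β v)) = g⁻¹ v := fun v => by
    have := DFunLike.congr_fun (congrArg ψ hta) v
    simpa [map_mul, map_inv, MulAut.mul_apply, ← hg, ← hβ] using this
  have hb2 : ∀ v, β (β v) = v := fun v => by
    rw [hβ, ← MulAut.mul_apply, ← map_mul, ht, map_one, MulAut.one_apply]
  set E := (Quad.disp g).range with hE
  have hfpf : ∀ e ∈ E, g e = e → e = 1 := fun e he h => F.eq_one_of_fixed_range h5 he h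
  have hEC : ∀ e ∈ E, δ e = e := by
    rintro _ ⟨v, rfl⟩
    obtain ⟨u, hu, hc⟩ := F.decomp (k := 1) hδ3 v
    have e1 : Quad.disp g u = 1 := (F.disp_eq_one g u).2 (hfix a u hu)
    have e2 : Quad.disp g v = Quad.disp g (v * u) := by rw [map_mul, e1, mul_one]
    rw [e2, Quad.disp_apply, map_mul, ← hcomm, hc]
  have hgE : ∀ e ∈ E, g e ∈ E := by
    rintro _ ⟨v, rfl⟩
    exact ⟨g v, by simp [Quad.disp_apply]⟩
  have hgiE : ∀ e ∈ E, g⁻¹ e ∈ E := by
    rintro _ ⟨v, rfl⟩
    exact ⟨g⁻¹ v, by simp [Quad.disp_apply, map_mul]⟩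
  have hβE : ∀ e ∈ E, β e ∈ E := by
    rintro _ ⟨v, rfl⟩
    refine ⟨g⁻¹ (β v), ?_⟩
    have e1 : β (g v) = g⁻¹ (β v) := by
      have := hbg (β v)
      rwa [hb2] at this
    rw [Quad.disp_apply, Quad.disp_apply, map_mul, e1, ← MulAut.mul_apply, mul_inv_cancel,
      MulAut.one_apply, mul_comm]
  have cprod : Nat.card ↥(Quad.disp g).ker * Nat.card ↥(Quad.disp g).range = 256 := by
    rw [← Subgroup.index_ker, Subgroup.card_mul_index, hV]
  set K := E.map (Quad.disp β) with hK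
  set W := E ⊓ (Quad.disp β).ker with hW
  have hKW : K ≤ W := by
    rintro _ ⟨v, hv, rfl⟩
    refine ⟨mul_mem (hβE v hv) hv, MonoidHom.mem_ker.2 ((F.disp_eq_one β _).2 ?_)⟩
    rw [Quad.disp_apply, map_mul, hb2, mul_comm]
  have hKD : ∀ e ∈ K, F.q e = 0 := by
    rintro _ ⟨v, hv, rfl⟩
    exact hD _ (him v (hEC v hv))
  have hprod : Nat.card E = Nat.card W * Nat.card K := by
    let f := (Quad.disp β).comp E.subtype
    have h1 : f.range = K := by rw [MonoidHom.range_comp, Subgroup.range_subtype]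
    have h2 : f.ker = W.subgroupOf E := by
      ext ⟨x, hx⟩
      simp [f, W, Subgroup.mem_subgroupOf, hx]
    rw [← Subgroup.card_mul_index f.ker, Subgroup.index_ker, h1, h2,
      Nat.card_congr (Subgroup.subgroupOfEquivOfLe (inf_le_left : W ≤ E)).toEquiv]
  have hWfix : ∀ x, x ∈ W ↔ x ∈ E ∧ β x = x := fun x => and_congr_right fun _ => F.disp_eq_one β x
  have meet : ∀ (i : ℕ) (x : V), x ∈ W → (g ^ i) x ∈ W → 5 ∣ 2 * i ∨ x = 1 := by
    intro i x hx hy
    have e1 : β ((g ^ i) x) = (g⁻¹ ^ i) (β x) := by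
      clear hy
      induction i with
      | zero => simp
      | succ i ih =>
        rw [pow_succ', MulAut.mul_apply, pow_succ', MulAut.mul_apply]
        have := hbg (β ((g ^ i) x))
        rw [hb2] at this
        rw [this, ih]
    rw [((hWfix _).1 hy).2, ((hWfix x).1 hx).2] at e1
    have e2 : (g ^ (2 * i)) x = x := by
      rw [two_mul, pow_add, MulAut.mul_apply, e1, ← MulAut.mul_apply, inv_pow, mul_inv_cancel, MulAut.one_apply]
    by_cases h : 5 ∣ 2 * i
    · exact Or.inl h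
    · right
      refine hfpf x ((hWfix x).1 hx).1 ?_
      have hcop : Nat.Coprime (2 * i) 5 := Nat.Coprime.symm ((Nat.Prime.coprime_iff_not_dvd (by norm_num)).2 h)
      have hmem : g ∈ MulAction.stabilizer (MulAut V) x := by
        obtain ⟨j, hj⟩ := exists_pow_eq_self_of_coprime (x := g) (n := 2 * i) (hcop.coprime_dvd_right
          (orderOf_dvd_of_pow_eq_one (show g ^ 5 = 1 from h5)))
        rw [← hj]
        exact pow_mem (show g ^ (2 * i) ∈ MulAction.stabilizer (MulAut V) x from e2) j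
      exact hmem
  have gmem : ∀ (i : ℕ) (x : V), x ∈ E → (g ^ i) x ∈ E := fun i => by
    induction i with
    | zero => simp
    | succ i ih => intro x hx; rw [pow_succ, MulAut.mul_apply]; exact ih _ (hgE x hx)
  have hsq : Nat.card W * Nat.card W ≤ Nat.card E := by
    let f : ↥W × ↥W → ↥E := fun p => ⟨p.1.1 * g p.2.1,
      mul_mem ((hWfix _).1 p.1.2).1 (hgE _ ((hWfix _).1 p.2.2).1)⟩
    have hf : Function.Injective f := by
      rintro ⟨p, q⟩ ⟨p', q'⟩ h
      have h' : p.1 * g q.1 = p'.1 * g q'.1 := congrArg Subtype.val h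
      have e : g (q.1 * q'.1) = p.1 * p'.1 := by
        rw [map_mul]
        calc g q.1 * g q'.1 = p.1 * (p.1 * g q.1) * g q'.1 := by rw [← mul_assoc, F.sq, one_mul]
          _ = p.1 * p'.1 * (g q'.1 * g q'.1) := by rw [h']; simp only [mul_assoc]
          _ = p.1 * p'.1 := by rw [F.sq, mul_one]
      have hm : (g ^ 1) (q.1 * q'.1) ∈ W := by rw [pow_one, e]; exact mul_mem p.2 p'.2
      have hq : q.1 * q'.1 = 1 := (meet 1 _ (mul_mem q.2 q'.2) hm).resolve_left (by norm_num)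
      have hqq : q.1 = q'.1 := by rw [mul_eq_one_iff_eq_inv.1 hq, F.inv_eq]
      rw [hqq] at h'
      exact Prod.ext (Subtype.ext (mul_right_cancel h')) (Subtype.ext hqq)
    have := Nat.card_le_card_of_injective f hf
    rwa [Nat.card_prod] at this
  have hEne : Nat.card E ≠ 1 := fun h => ha1 (hinj a (MulEquiv.ext fun v =>
    (F.disp_eq_one g v).1 (Subgroup.mem_bot.1 ((Subgroup.card_eq_one.1 h) ▸ (⟨v, rfl⟩ : _ ∈ E)))))
  have hKle := Subgroup.card_le_of_le hKW
  have hWK : W = K := by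
    refine (Subgroup.eq_of_le_of_card_ge hKW ?_).symm
    have hWpos : 0 < Nat.card W := Nat.card_pos
    nlinarith
  rw [hWK] at hprod
  have hWq : ∀ x ∈ W, F.q x = 0 := fun x hx => hKD x (hWK ▸ hx)
  -- all of the space is singular
  have hnd : F.Nondeg E := F.nondeg_range (hψ a) h5
  have hcardE : Nat.card E % 5 = 1 := by
    have h := congr_fix (p := 5) (show g ^ 5 = 1 from h5) (E : Set V) hgE
    rw [show {v ∈ (E : Set V) | g v = v} = {1} from Set.ext fun v =>
      ⟨fun hv => hfpf v hv.1 hv.2, fun hv => by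
        rw [Set.mem_singleton_iff] at hv; subst hv; exact ⟨one_mem E, map_one g⟩⟩, Set.ncard_singleton] at h
    exact h
  let f : Fin 5 × ↥((W : Set V) \ {1}) → ↥((E : Set V) \ {1}) := fun p =>
    ⟨(g ^ p.1.val) p.2.1, gmem _ _ ((hWfix _).1 p.2.2.1).1, fun e =>
      p.2.2.2 ((g ^ p.1.val).injective (Eq.trans e (map_one (g ^ p.1.val)).symm))⟩
  have hf : Function.Injective f := by
    intro p q h
    have h' : (g ^ p.1.val) p.2.1 = (g ^ q.1.val) q.2.1 := congrArg Subtype.val h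
    have key : ∀ (i j : ℕ) (x y : V), x ∈ W → x ≠ 1 → y ∈ W → i ≤ j → j < 5 →
        (g ^ i) x = (g ^ j) y → i = j := by
      intro i j x y hx hx1 hy hij hj e
      have e' : x = (g ^ (j - i)) y := by
        apply (g ^ i).injective
        rw [e, ← MulAut.mul_apply, ← pow_add, Nat.add_sub_cancel' hij]
      rcases meet (j - i) y hy (e' ▸ hx) with h | h
      · omega
      · exact absurd (by rw [e', h, map_one]) hx1
    have hpq : p.1.val = q.1.val := by
      rcases le_total p.1.val q.1.val with l | l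
      · exact key _ _ _ _ p.2.2.1 p.2.2.2 q.2.2.1 l q.1.2 h'
      · exact (key _ _ _ _ q.2.2.1 q.2.2.2 p.2.2.1 l p.1.2 h'.symm).symm
    exact Prod.ext (Fin.ext hpq) (Subtype.ext ((g ^ p.1.val).injective (hpq ▸ h')))
  have hcnt := Nat.card_le_card_of_injective f hf
  rw [Nat.card_prod, Nat.card_fin, Nat.card_coe_set_eq, Nat.card_coe_set_eq, ncard_diff_one,
    ncard_diff_one, hWK] at hcnt
  have hKd := card_cases hV K
  have hEc := card_cases hV E
  have hE256 : Nat.card E ≠ 256 := fun h => hδ1 (MulEquiv.ext fun v => hEC v (by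
    rw [Subgroup.eq_top_of_card_eq E (h.trans hV.symm)]; exact Subgroup.mem_top v))
  have hK16 : Nat.card K = 4 := by
    rcases hKd with k | k | k | k | k | k | k | k | k <;>
      simp only [hWK, k] at hprod hcnt hcardE <;> omega
  have hsurj : Function.Surjective f := by
    refine ((Nat.bijective_iff_injective_and_card f).2 ⟨hf, ?_⟩).2
    rw [Nat.card_prod, Nat.card_fin, Nat.card_coe_set_eq, Nat.card_coe_set_eq, ncard_diff_one,
      ncard_diff_one, hWK, hprod, hK16]
  refine F.not_const hnd (by rw [hprod, hK16]; norm_num) 0 fun e he e1 => ?_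
  obtain ⟨p, hp⟩ := hsurj ⟨e, he, e1⟩
  have hp' : (g ^ p.1.val) p.2.1 = e := congrArg Subtype.val hp
  have hiso : ∀ (i : ℕ) (x : V), F.q ((g ^ i) x) = F.q x := fun i => by
    induction i with
    | zero => simp
    | succ i ih => intro x; rw [pow_succ, MulAut.mul_apply, ih, hψ a]
  rw [← hp', hiso, hWq _ p.2.2.1]

end Main

/-! ### Two-subgroups of the product of two symmetric groups -/

theorem commute_of_sq_one {H : Type*} [Group H] {a b : H} (ha : a * a = 1) (hb : b * b = 1)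
    (hab : a * b * (a * b) = 1) : a * b = b * a := by
  calc a * b = (a * b)⁻¹ := (inv_eq_of_mul_eq_one_right hab).symm
    _ = b * a := by rw [mul_inv_rev, inv_eq_of_mul_eq_one_right ha, inv_eq_of_mul_eq_one_right hb]

theorem s3_step : ∀ s : Equiv.Perm (Fin 3), s * s = 1 →
    finRotate 3 * s * (finRotate 3)⁻¹ * s * (finRotate 3 * s * (finRotate 3)⁻¹ * s) = 1 → s = 1 := by
  decide +kernel

theorem elementary_le_eight {A : Subgroup (Equiv.Perm (Fin 6))} (hA : ∀ x ∈ A, x * x = 1) :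
    Nat.card A ≤ 8 := by
  haveI : Fact (Nat.Prime 2) := ⟨Nat.prime_two⟩
  have hp : IsPGroup 2 ↥A := fun x => ⟨1, Subtype.ext (by
    rw [pow_one, SubgroupClass.coe_pow, pow_two]; exact hA x x.2)⟩
  have hcard : Nat.card (Equiv.Perm (Fin 6)) = 720 := by rw [Nat.card_perm, Nat.card_fin]; rfl
  obtain ⟨k, hk⟩ := IsPGroup.iff_card.1 hp
  by_contra hgt
  have hd : Nat.card A ∣ 720 := hcard ▸ Subgroup.card_subgroup_dvd_card A
  rw [hk] at hd hgt
  have hk4 : 4 ≤ k := by
    by_contra h; exact hgt ((Nat.pow_le_pow_right (by norm_num) (show k ≤ 3 by omega)).trans (le_of_eq rfl))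
  have hk4' : k ≤ 4 := by
    by_contra h
    have := (Nat.pow_dvd_pow 2 (show 5 ≤ k by omega)).trans hd
    norm_num at this
  obtain rfl : k = 4 := by omega
  obtain ⟨P, hP⟩ := hp.exists_le_sylow
  obtain ⟨j, hj⟩ := IsPGroup.iff_card.1 P.isPGroup'
  have hPA : (P : Subgroup (Equiv.Perm (Fin 6))) = A := by
    refine (Subgroup.eq_of_le_of_card_ge hP ?_).symm
    have hd' : Nat.card (P : Subgroup (Equiv.Perm (Fin 6))) ∣ 720 := hcard ▸ Subgroup.card_subgroup_dvd_card _
    rw [hj] at hd' ⊢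
    rw [hk]
    refine Nat.pow_le_pow_right (by norm_num) ?_
    by_contra h
    have := (Nat.pow_dvd_pow 2 (show 5 ≤ j by omega)).trans hd'
    norm_num at this
  set x : Equiv.Perm (Fin 6) := Equiv.swap 0 1 * Equiv.swap 1 2 * Equiv.swap 2 3 with hx
  have hx4 : x ^ 4 = 1 := by rw [hx]; decide +kernel
  have hx2 : x * x ≠ 1 := by rw [hx]; decide +kernel
  have hpz : IsPGroup 2 ↥(Subgroup.zpowers x) := by
    rintro ⟨y, j, rfl⟩
    refine ⟨2, Subtype.ext ?_⟩
    show (x ^ j) ^ 2 ^ 2 = 1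
    rw [← zpow_natCast, ← zpow_mul, mul_comm, zpow_mul, zpow_natCast]
    norm_num [hx4]
  obtain ⟨R, hR⟩ := hpz.exists_le_sylow
  obtain ⟨c, hc⟩ := MulAction.exists_smul_eq (Equiv.Perm (Fin 6)) R P
  have hm : c * x * c⁻¹ ∈ A := by
    have h : c * x * c⁻¹ ∈ ((c • R : Sylow 2 (Equiv.Perm (Fin 6))) : Subgroup (Equiv.Perm (Fin 6))) := by
      rw [Sylow.coe_subgroup_smul]
      exact Subgroup.smul_mem_pointwise_smul x (MulAut.conj c) _ (hR (Subgroup.mem_zpowers x))
    rw [hc, hPA] at h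
    exact h
  refine hx2 (conj_eq_one_iff.1 (show c * (x * x) * c⁻¹ = 1 from ?_))
  rw [← hA _ hm]
  group

theorem exists_even_part {A : Subgroup (Equiv.Perm (Fin 3) × Equiv.Perm (Fin 6))}
    (hA : ∀ p ∈ A, p * p = 1) (h8 : 8 ≤ Nat.card A) :
    ∃ t : ↥A6, t ≠ 1 ∧ ((1, (t : Equiv.Perm (Fin 6))) : Equiv.Perm (Fin 3) × Equiv.Perm (Fin 6)) ∈ A := by
  haveI : Fact (Nat.Prime 2) := ⟨Nat.prime_two⟩
  let χ : Equiv.Perm (Fin 3) × Equiv.Perm (Fin 6) →* Equiv.Perm (Fin 3) × ℤˣ :=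
    (MonoidHom.id _).prodMap Equiv.Perm.sign
  let f := χ.comp A.subtype
  by_cases hinj : Function.Injective f
  · exfalso
    have hp : IsPGroup 2 ↥f.range := by
      rintro ⟨_, p, rfl⟩
      refine ⟨1, Subtype.ext ?_⟩
      show f p ^ 2 ^ 1 = 1
      rw [← map_pow, show p ^ 2 ^ 1 = 1 from Subtype.ext (by
        rw [pow_one, SubgroupClass.coe_pow, pow_two]; exact hA p p.2), map_one]
    obtain ⟨k, hk⟩ := IsPGroup.iff_card.1 hp
    have h12 : Nat.card ↥f.range ∣ 12 := by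
      have := Subgroup.card_subgroup_dvd_card f.range
      rwa [Nat.card_prod, Nat.card_perm, Nat.card_fin, show Nat.card ℤˣ = 2 by simp] at this
    rw [← Nat.card_congr (MonoidHom.ofInjective hinj).toEquiv.symm] at h8
    rw [hk] at h12 h8
    have : 8 ∣ 2 ^ k := by
      rw [show (8 : ℕ) = 2 ^ 3 from rfl]
      refine Nat.pow_dvd_pow 2 ?_
      by_contra h
      have := Nat.pow_le_pow_right (show 0 < 2 by norm_num) (show k ≤ 2 by omega)
      omega
    have := this.trans h12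
    norm_num at this
  · obtain ⟨p, hp, hp1⟩ : ∃ p, f p = 1 ∧ p ≠ 1 := by
      rw [injective_iff_map_eq_one] at hinj; push Not at hinj; exact hinj
    have h1 : p.1.1 = 1 := congrArg Prod.fst hp
    have h2 : Equiv.Perm.sign p.1.2 = 1 := congrArg Prod.snd hp
    refine ⟨⟨p.1.2, Equiv.Perm.mem_alternatingGroup.2 h2⟩,
      fun e => hp1 (Subtype.ext (Prod.ext h1 (congrArg Subtype.val e))), ?_⟩
    have := p.2
    rwa [← Prod.eta p.1, h1] at this

end Cfsg.Agent.H49.NoFix

namespace Cfsg.Agent.H49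

open Cfsg Cfsg.Agent.LargeExtra NoFix
open scoped Classical

/-- The parity of a statement. -/
noncomputable def NoFix.bit (p : Prop) : ZMod 2 := if p then 0 else 1

theorem NoFix.bit_zero {p : Prop} : bit p = 0 ↔ p := by
  unfold bit; split_ifs with h <;> simp [h]

theorem NoFix.z2_cases (k : ZMod 2) : k = 0 ∨ k = 1 := by revert k; decide

theorem NoFix.z2_one_one : (1 + 1 : ZMod 2) = 0 := by decide

theorem NoFix.z2_zero_ne : (0 : ZMod 2) ≠ 1 := by decide

/-- The power of the central involution. -/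
def NoFix.pw {G : Type*} [Group G] (z : G) (k : ZMod 2) : G := if k = 0 then 1 else z

set_option maxHeartbeats 1600000 in
/-- An element acting as a three-cycle on the first factor fixes no non-central element of `Q`
modulo the centre. -/
theorem fix_of_fusion {G : Type*} [Group G] [Finite G] {z : G} {Q : Subgroup G} (S : Cfsg.Agent.LargeExtra.Setting z Q 4)
    (π : ↥(Subgroup.centralizer ({z} : Set G)) →* Equiv.Perm (Fin 3) × Equiv.Perm (Fin 6))
    (hker : ∀ m, π m = 1 ↔ (m : G) ∈ Q)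
    (hA : ∀ s : Equiv.Perm (Fin 3), Equiv.Perm.sign s = 1 → ∀ a ∈ alternatingGroup (Fin 6), (s, a) ∈ π.range)
    (hT : ∃ p ∈ π.range, Equiv.Perm.sign p.1 = -1)
    (hfus : ∃ g : G, g * z * g⁻¹ ∈ Q ∧ g * z * g⁻¹ ≠ z) :
    ∀ d, π d = (finRotate 3, 1) → ∀ a ∈ Q, ((d : G) * a * (d : G)⁻¹ = a ∨ (d : G) * a * (d : G)⁻¹ = a * z) → a = 1 ∨ a = z := by
  intro d hd a₀ ha₀ hfix₀
  by_contra hne
  haveI : Fact (Nat.Prime 2) := ⟨Nat.prime_two⟩
  have hz := S.ci
  have hMc : ∀ m : ↥(Subgroup.centralizer ({z} : Set G)), (m : G) * z = z * m := fun m => Subgroup.mem_centralizer_singleton_iff.1 m.2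
  -- the quotient
  set Z := Subgroup.center ↥Q with hZ
  have hZmem : ∀ e : ↥Q, e ∈ Z ↔ (e : G) = 1 ∨ (e : G) = z := fun e =>
    ⟨fun h => hz.eq_of_mem h, fun h => Subgroup.mem_center_iff.2 fun w => Subtype.ext (by
      show (w : G) * (e : G) = (e : G) * (w : G)
      rcases h with h | h <;> rw [h]
      · rw [mul_one, one_mul]
      · exact hz.comm w w.2)⟩
  have hmk : ∀ a b : ↥Q, (a : ↥Q ⧸ Z) = (b : ↥Q ⧸ Z) ↔ (b : G) = a ∨ (b : G) = a * z := fun a b => by
    rw [QuotientGroup.eq, hZmem, Subgroup.coe_mul, Subgroup.coe_inv, inv_mul_eq_iff_eq_mul,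
      inv_mul_eq_iff_eq_mul, mul_one]
  have hcomm : ∀ u v : ↥Q ⧸ Z, u * v = v * u := fun u v => QuotientGroup.induction_on u fun x =>
    QuotientGroup.induction_on v fun y => by
      rw [← QuotientGroup.mk_mul, ← QuotientGroup.mk_mul, hmk]
      simp only [Subgroup.coe_mul]
      rcases S.comm_cases _ y.2 _ x.2 with h | h
      · left
        calc (y : G) * x = x * y * ((y : G)⁻¹ * (x : G)⁻¹ * y * x) := by group
          _ = x * y := by rw [h, mul_one]
      · right
        calc (y : G) * x = x * y * ((y : G)⁻¹ * (x : G)⁻¹ * y * x) := by group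
          _ = x * y * z := by rw [h]
  letI : CommGroup (↥Q ⧸ Z) := { (inferInstance : Group (↥Q ⧸ Z)) with mul_comm := hcomm }
  let pw : ZMod 2 → G := NoFix.pw z
  have pw_add : ∀ i j, pw (i + j) = pw i * pw j := by
    intro i j
    rcases NoFix.z2_cases i with rfl | rfl <;> rcases NoFix.z2_cases j with rfl | rfl <;>
      simp [pw, NoFix.pw, hz.sq, NoFix.z2_one_one, NoFix.z2_zero_ne.symm]
  have pw_inj : ∀ i j, pw i = pw j → i = j := by
    intro i j
    rcases NoFix.z2_cases i with rfl | rfl <;> rcases NoFix.z2_cases j with rfl | rfl <;>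
      simp [pw, NoFix.pw, hz.ne_one, Ne.symm hz.ne_one, NoFix.z2_zero_ne.symm]
  have pwc : ∀ i, ∀ e ∈ Q, pw i * e = e * pw i := by
    intro i e he
    fin_cases i <;> simp [pw, NoFix.pw, hz.comm e he]
  let sb : G → ZMod 2 := fun e => NoFix.bit (e * e = 1)
  let cb : G → G → ZMod 2 := fun e f => NoFix.bit (e * f = f * e)
  have hsb : ∀ e ∈ Q, e * e = pw (sb e) := by
    intro e he
    rcases hz.sq_mem he with h | h
    · simp [sb, pw, NoFix.bit, NoFix.pw, h]
    · simp [sb, pw, NoFix.bit, NoFix.pw, h, hz.ne_one]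
  have hcb : ∀ e ∈ Q, ∀ f ∈ Q, f * e = e * f * pw (cb e f) := by
    intro e he f hf
    by_cases h : e * f = f * e
    · simp [cb, pw, NoFix.bit, NoFix.pw, h]
    · simp only [cb, pw, NoFix.bit, NoFix.pw, h, if_false]
      rcases S.comm_cases _ hf _ he with k | k
      · exact absurd (by calc e * f = e * f * (f⁻¹ * e⁻¹ * f * e) := by rw [k, mul_one]
          _ = f * e := by group) h
      · simp only [one_ne_zero, if_false]
        calc f * e = e * f * (f⁻¹ * e⁻¹ * f * e) := by group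
          _ = e * f * z := by rw [k]
  have hcz : ∀ e ∈ Q, sb (e * z) = sb e := fun e he => by
    apply pw_inj
    rw [← hsb e he, ← hsb _ (mul_mem he hz.mem)]
    calc e * z * (e * z) = e * (z * e) * z := by group
      _ = e * e * (z * z) := by rw [← hz.comm e he]; group
      _ = e * e := by rw [hz.sq, mul_one]
  have hcl : ∀ e ∈ Q, ∀ f ∈ Q, ∀ k ∈ Q, cb (e * f) k = cb e k + cb f k := fun e he f hf k hk => by
    apply pw_inj
    have h1 := hcb _ (mul_mem he hf) k hk
    have h2 : k * (e * f) = e * f * k * (pw (cb e k) * pw (cb f k)) := by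
      calc k * (e * f) = k * e * f := by group
        _ = e * (k * (pw (cb e k) * f)) := by rw [hcb e he k hk]; group
        _ = e * (k * (f * pw (cb e k))) := by rw [pwc _ f hf]
        _ = e * (k * f) * pw (cb e k) := by group
        _ = e * f * k * (pw (cb f k) * pw (cb e k)) := by rw [hcb f hf k hk]; group
        _ = _ := by rw [← pw_add, ← pw_add, add_comm]
    rw [h1, mul_right_inj] at h2
    rw [pw_add]; exact h2
  have hcs : ∀ e f, cb e f = cb f e := fun e f => by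
    by_cases h : e * f = f * e
    · simp [cb, NoFix.bit, h]
    · simp [cb, NoFix.bit, h, Ne.symm h]
  have hc1 : ∀ k, cb 1 k = 0 := fun k => NoFix.bit_zero.2 (by rw [one_mul, mul_one])
  have hcz' : ∀ k ∈ Q, cb z k = 0 := fun k hk => NoFix.bit_zero.2 (hz.comm k hk).symm
  let qv : ↥Q ⧸ Z → ZMod 2 := fun v => sb ((v.out : ↥Q) : G)
  let Bv : ↥Q ⧸ Z → ↥Q ⧸ Z → ZMod 2 := fun u v => cb ((u.out : ↥Q) : G) ((v.out : ↥Q) : G)
  have hout : ∀ e : ↥Q, (((e : ↥Q ⧸ Z).out : ↥Q) : G) = e ∨ (((e : ↥Q ⧸ Z).out : ↥Q) : G) = e * z :=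
    fun e => (hmk e _).1 (QuotientGroup.out_eq' (e : ↥Q ⧸ Z)).symm
  have hqv : ∀ e : ↥Q, qv (e : ↥Q ⧸ Z) = sb e := fun e => by
    rcases hout e with h | h <;> simp only [qv, h]
    exact hcz e e.2
  have hBv : ∀ e f : ↥Q, Bv (e : ↥Q ⧸ Z) (f : ↥Q ⧸ Z) = cb e f := fun e f => by
    have k1 : ∀ x ∈ Q, cb x ((f : ↥Q ⧸ Z).out : ↥Q) = cb x f := fun x hx => by
      rcases hout f with h | h <;> rw [h]
      rw [hcs x, hcl _ f.2 _ hz.mem _ hx, hcz' x hx, add_zero, hcs]
    show cb _ _ = _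
    rw [k1 _ ((e : ↥Q ⧸ Z).out).2]
    rcases hout e with h | h <;> rw [h]
    rw [hcl _ e.2 _ hz.mem _ f.2, hcz' _ f.2, add_zero]
  let F : NoFix.Quad (↥Q ⧸ Z) :=
    { q := qv
      B := Bv
      hq := fun u v => QuotientGroup.induction_on u fun x => QuotientGroup.induction_on v fun y => by
        rw [← QuotientGroup.mk_mul, hqv, hqv, hqv, hBv, Subgroup.coe_mul]
        apply pw_inj
        rw [← hsb _ (mul_mem x.2 y.2), pw_add, pw_add, ← hsb _ x.2, ← hsb _ y.2]
        calc (x : G) * y * (x * y) = x * ((y : G) * x) * y := by group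
          _ = x * (x * y * pw (cb x y)) * y := by rw [hcb _ x.2 _ y.2]
          _ = x * x * y * (pw (cb x y) * y) := by group
          _ = x * x * y * (y * pw (cb x y)) := by rw [pwc _ _ y.2]
          _ = _ := by group
      mul_left := fun u v w => QuotientGroup.induction_on u fun x => QuotientGroup.induction_on v fun y =>
        QuotientGroup.induction_on w fun k => by
          rw [← QuotientGroup.mk_mul, hBv, hBv, hBv, Subgroup.coe_mul]
          exact hcl _ x.2 _ y.2 _ k.2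
      symm := fun u v => hcs _ _
      nd := fun v => QuotientGroup.induction_on v fun x h => by
        rw [QuotientGroup.eq_one_iff, hZmem]
        refine hz.of_central x x.2 fun k hk => ?_
        have := h ((⟨k, hk⟩ : ↥Q) : ↥Q ⧸ Z)
        rw [hBv] at this
        exact (NoFix.bit_zero.1 this).symm
      sq := fun v => QuotientGroup.induction_on v fun x => by
        rw [← QuotientGroup.mk_mul, QuotientGroup.eq_one_iff, hZmem]
        exact hz.sq_mem x.2 }
  have hV : Nat.card (↥Q ⧸ Z) = 256 := by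
    have h1 := Subgroup.card_mul_index Z
    rw [hz.extra.2, S.card, Subgroup.index_eq_card] at h1
    omega
  -- the action
  let act : ↥(Subgroup.centralizer ({z} : Set G)) →* MulAut ↥Q :=
    { toFun := fun m =>
        { toFun := fun e => ⟨m * e * (m : G)⁻¹, S.norm m (hMc m) e e.2⟩
          invFun := fun e => ⟨((m⁻¹ : ↥(Subgroup.centralizer ({z} : Set G))) : G) * e * ((m⁻¹ : ↥(Subgroup.centralizer ({z} : Set G))) : G)⁻¹, S.norm _ (hMc m⁻¹) e e.2⟩
          left_inv := fun e => Subtype.ext (by simp [mul_assoc])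
          right_inv := fun e => Subtype.ext (by simp [mul_assoc])
          map_mul' := fun a b => Subtype.ext (by simp [mul_assoc]) }
      map_one' := by ext e; simp
      map_mul' := fun a b => by ext e; simp [mul_assoc] }
  let ρ : ↥(Subgroup.centralizer ({z} : Set G)) →* MulAut (↥Q ⧸ Z) :=
    { toFun := fun m => QuotientGroup.congr Z Z (act m)
        (Subgroup.characteristic_iff_map_eq.1 inferInstance (act m))
      map_one' := by
        refine MulEquiv.ext fun v => QuotientGroup.induction_on v fun e => ?_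
        simp
      map_mul' := fun a b => by
        refine MulEquiv.ext fun v => QuotientGroup.induction_on v fun e => ?_
        show ((act (a * b) e : ↥Q) : ↥Q ⧸ Z) = ((act a (act b e) : ↥Q) : ↥Q ⧸ Z)
        rw [map_mul]
        rfl }
  have hρ : ∀ (m : ↥(Subgroup.centralizer ({z} : Set G))) (e : ↥Q), ρ m (e : ↥Q ⧸ Z) = ((act m e : ↥Q) : ↥Q ⧸ Z) := fun m e => rfl
  have hρQ : ∀ m : ↥(Subgroup.centralizer ({z} : Set G)), ρ m = 1 ↔ (m : G) ∈ Q := fun m => by
    constructor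
    · intro h
      refine S.mem_of_commutator_center (hMc m) fun e he => ?_
      have h1 := (hρ m ⟨e, he⟩).symm.trans (DFunLike.congr_fun h ((⟨e, he⟩ : ↥Q) : ↥Q ⧸ Z))
      rw [MulAut.one_apply, eq_comm, hmk] at h1
      have h1' : (m : G) * e * (m : G)⁻¹ = e ∨ (m : G) * e * (m : G)⁻¹ = e * z := h1
      rcases h1' with k | k
      · left; rw [k, mul_inv_cancel]
      · right; rw [k, hz.comm e he, mul_inv_cancel_right]
    · intro h
      refine MulEquiv.ext fun v => QuotientGroup.induction_on v fun e => ?_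
      rw [hρ, MulAut.one_apply, eq_comm, hmk]
      show (m : G) * e * (m : G)⁻¹ = e ∨ (m : G) * e * (m : G)⁻¹ = e * z
      rcases S.comm_cases _ e.2 _ (inv_mem h) with k | k
      · left; calc (m : G) * e * (m : G)⁻¹ = e * ((e : G)⁻¹ * ((m : G)⁻¹)⁻¹ * e * (m : G)⁻¹) := by group
          _ = e := by rw [k, mul_one]
      · right; calc (m : G) * e * (m : G)⁻¹ = e * ((e : G)⁻¹ * ((m : G)⁻¹)⁻¹ * e * (m : G)⁻¹) := by group
          _ = e * z := by rw [k]
  have hρeq : ∀ m m' : ↥(Subgroup.centralizer ({z} : Set G)), π m = π m' → ρ m = ρ m' := fun m m' h => by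
    have : π (m'⁻¹ * m) = 1 := by rw [map_mul, map_inv, h, inv_mul_cancel]
    have := (hρQ _).2 ((hker _).1 this)
    rw [map_mul, map_inv, inv_mul_eq_one] at this
    exact this.symm
  have hρiso : ∀ m, F.Iso (ρ m) := fun m v => QuotientGroup.induction_on v fun e => by
    show qv (ρ m (e : ↥Q ⧸ Z)) = qv (e : ↥Q ⧸ Z)
    rw [hρ, hqv, hqv]
    show NoFix.bit ((m : G) * e * (m : G)⁻¹ * ((m : G) * e * (m : G)⁻¹) = 1) = NoFix.bit ((e : G) * e = 1)
    rw [show (m : G) * e * (m : G)⁻¹ * ((m : G) * e * (m : G)⁻¹) = (m : G) * ((e : G) * e) * (m : G)⁻¹ by group]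
    congr 1
    exact propext conj_eq_one_iff
  have hchoose : ∀ a : ↥NoFix.A6, ∃ m, π m = (1, (a : Equiv.Perm (Fin 6))) := fun a =>
    hA 1 (map_one _) a a.2
  choose lift hlift using hchoose
  let ψ : ↥NoFix.A6 →* MulAut (↥Q ⧸ Z) :=
    { toFun := fun a => ρ (lift a)
      map_one' := by rw [← map_one ρ]; exact hρeq _ _ (by rw [hlift, map_one]; rfl)
      map_mul' := fun a b => by
        rw [← map_mul]
        exact hρeq _ _ (by rw [hlift, map_mul, hlift, hlift]; simp) }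
  set δ := ρ d with hδ
  have hψinj : ∀ a, ψ a = 1 → a = 1 := fun a h => by
    have h2 : π (lift a) = 1 := (hker _).2 ((hρQ _).1 h)
    rw [hlift] at h2
    exact Subtype.ext (congrArg Prod.snd h2)
  have hψδ : ∀ a v, ψ a (δ v) = δ (ψ a v) := fun a v => by
    show ρ (lift a) (ρ d v) = ρ d (ρ (lift a) v)
    rw [← MulAut.mul_apply, ← MulAut.mul_apply, ← map_mul, ← map_mul]
    rw [hρeq (lift a * d) (d * lift a) (by rw [map_mul, map_mul, hlift, hd]; simp)]
  have hδ3 : δ ^ 3 = 1 := by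
    rw [hδ, ← map_pow, hρQ, ← hker, map_pow, hd]
    decide +kernel
  have hδ1 : δ ≠ 1 := fun h => by
    have h1 := (hker d).2 ((hρQ d).1 h)
    rw [hd] at h1
    exact absurd (congrArg Prod.fst h1) (by decide +kernel)
  obtain ⟨hUfix, hUq⟩ := NoFix.structure_of_fixed F hV ψ (fun a => hρiso _) (hρiso d) hδ3 hδ1 hψδ
    (fun h => NoFix.g0_ne (hψinj _ h))
    (v₀ := ((⟨a₀, ha₀⟩ : ↥Q) : ↥Q ⧸ Z))
    (fun h => hne ((hZmem _).1 ((QuotientGroup.eq_one_iff _).1 h)))
    (by
      show ρ d _ = _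
      rw [hρ, eq_comm, hmk]
      exact hfix₀)
  -- fusion
  obtain ⟨g, hxQ, hxz⟩ := hfus
  set x := g * z * g⁻¹ with hx
  have hx1 : x ≠ 1 := fun e => hz.ne_one (conj_eq_one_iff.1 e)
  set Q' := Q.map (MulAut.conj g).toMonoidHom with hQ'
  have h' := hz.conj g
  have hCQ : Subgroup.centralizer (Q : Set G) = Subgroup.zpowers z := by
    refine le_antisymm (fun e he => ?_) (Subgroup.zpowers_le.2 fun e he => hz.comm e he)
    rcases hz.of_central e (S.self he) he with h | h <;> rw [h]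
    exacts [one_mem _, Subgroup.mem_zpowers z]
  have hMN : (Subgroup.centralizer ({z} : Set G)) ≤ Subgroup.normalizer (Q : Set G) := fun m hm => Subgroup.mem_normalizer_iff.2 fun e =>
    ⟨fun he => S.norm m (hMc ⟨m, hm⟩) e he, fun he => by
      simpa [mul_assoc] using S.norm m⁻¹ (hMc (⟨m, hm⟩⁻¹)) _ he⟩
  have hzQ' : z ∈ Q' := mem_conj_of_conj_mem hz hCQ hMN (w := 4) (by norm_num) S.card hxQ hxz
  have hnorm' : ∀ k : G, k * x = x * k → ∀ e ∈ Q', k * e * k⁻¹ ∈ Q' := by
    rintro k hk _ ⟨e, he, rfl⟩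
    refine ⟨g⁻¹ * k * g * e * (g⁻¹ * k * g)⁻¹, S.norm _ ?_ e he, by simp [mul_assoc]⟩
    calc g⁻¹ * k * g * z = g⁻¹ * (k * x) * g := by rw [hx]; group
      _ = g⁻¹ * (x * k) * g := by rw [hk]
      _ = z * (g⁻¹ * k * g) := by rw [hx]; group
  -- the common part
  set D := Q ⊓ Q' with hD
  have hDsq : ∀ e ∈ D, e * e = 1 := by
    rintro e ⟨he, he'⟩
    rcases hz.sq_mem he with h | h
    · exact h
    · rcases h'.sq_mem he' with k | k
      · exact k
      · exact absurd (k.symm.trans h) hxz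
  have hDcomm : IsMulCommutative ↥(D.subgroupOf Q) := ⟨⟨fun e f => Subtype.ext (Subtype.ext (by
    show ((e : ↥Q) : G) * ((f : ↥Q) : G) = ((f : ↥Q) : G) * ((e : ↥Q) : G)
    exact (commute_of_sq_one (hDsq _ e.2) (hDsq _ f.2) (hDsq _ (mul_mem e.2 f.2)))))⟩⟩
  have hD32 : Nat.card D ≤ 32 := by
    rw [← Nat.card_congr (Subgroup.subgroupOfEquivOfLe (inf_le_left : D ≤ Q)).toEquiv]
    exact Cfsg.Agent.PGroup.extraspecial_card_abelian_le hz.extra (n := 4) S.card hDcomm
  -- the stabiliser in the conjugate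
  set R := Q' ⊓ (Subgroup.centralizer ({z} : Set G)) with hR
  have hRQ' : Nat.card Q' = 512 := by
    rw [hQ', Subgroup.card_map_of_injective (MulAut.conj g).injective, S.card]; norm_num
  have hRcard : Nat.card R = 256 := by
    have hnc : (⟨z, hzQ'⟩ : ↥Q') ∉ Subgroup.center ↥Q' := fun h => by
      rcases h'.eq_of_mem h with k | k
      · exact hz.ne_one k
      · exact hxz k.symm
    have hidx := Cfsg.Agent.PGroup.extraspecial_index_centralizer h'.extra hnc
    have he : R.subgroupOf Q' = Subgroup.centralizer ({(⟨z, hzQ'⟩ : ↥Q')} : Set ↥Q') := by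
      ext e
      rw [Subgroup.mem_subgroupOf, Subgroup.mem_centralizer_singleton_iff]
      exact ⟨fun h => Subtype.ext (Subgroup.mem_centralizer_singleton_iff.1 h.2),
        fun h => ⟨e.2, Subgroup.mem_centralizer_singleton_iff.2 (congrArg Subtype.val h)⟩⟩
    have h0 : Nat.card ↥(R.subgroupOf Q') = Nat.card R :=
      Nat.card_congr (Subgroup.subgroupOfEquivOfLe (inf_le_left : R ≤ Q')).toEquiv
    have h2 : (R.subgroupOf Q').index = 2 := by rw [he]; exact hidx
    have h1 : Nat.card ↥(R.subgroupOf Q') * (R.subgroupOf Q').index = Nat.card ↥Q' :=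
      Subgroup.card_mul_index (R.subgroupOf Q')
    rw [h0, h2, hRQ'] at h1
    omega
  let fR : ↥R →* Equiv.Perm (Fin 3) × Equiv.Perm (Fin 6) :=
    π.comp (Subgroup.inclusion (inf_le_right : R ≤ (Subgroup.centralizer ({z} : Set G))))
  set A := fR.range with hAdef
  have hAcard : Nat.card D * Nat.card A = 256 := by
    have hk : fR.ker = D.subgroupOf R := by
      ext ⟨e, he⟩
      rw [MonoidHom.mem_ker, Subgroup.mem_subgroupOf]
      exact (hker _).trans ⟨fun h => ⟨h, he.1⟩, fun h => h.1⟩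
    rw [← hRcard, ← Subgroup.card_mul_index fR.ker, Subgroup.index_ker, hk,
      Nat.card_congr (Subgroup.subgroupOfEquivOfLe
        (show D ≤ R from fun e he => ⟨he.2, S.ci.le_centralizer he.1⟩)).toEquiv]
  have hA2 : ∀ p ∈ A, p * p = 1 := by
    rintro _ ⟨⟨r, hr⟩, rfl⟩
    rw [← map_mul]
    refine (hker _).2 ?_
    rcases h'.sq_mem hr.1 with k | k
    · show r * r ∈ Q; rw [k]; exact one_mem Q
    · show r * r ∈ Q; rw [k]; exact hxQ
  have hA8 : 8 ≤ Nat.card A := by
    by_contra h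
    have := Nat.mul_le_mul hD32 (show Nat.card A ≤ 7 by omega)
    omega
  -- the two cases
  have hmem : ∀ e : ↥Q, δ (e : ↥Q ⧸ Z) = (e : ↥Q ⧸ Z) ↔
      (d : G) * e * (d : G)⁻¹ = e ∨ (d : G) * e * (d : G)⁻¹ = e * z := fun e => by
    rw [hδ, hρ, eq_comm, hmk]
    rfl
  by_cases hxC : δ ((⟨x, hxQ⟩ : ↥Q) : ↥Q ⧸ Z) = ((⟨x, hxQ⟩ : ↥Q) : ↥Q ⧸ Z)
  · -- a representative fixing x
    obtain ⟨d', hd', hd'x⟩ : ∃ d' : ↥(Subgroup.centralizer ({z} : Set G)), π d' = (finRotate 3, 1) ∧ (d' : G) * x = x * d' := by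
      rcases (hmem _).1 hxC with h | h
      · exact ⟨d, hd, mul_inv_eq_iff_eq_mul.1 h⟩
      · obtain ⟨y, hy, hyx⟩ := hz.exists_swap hxQ hx1 hxz
        refine ⟨d * ⟨y, S.ci.le_centralizer hy⟩, ?_, ?_⟩
        · rw [map_mul, (hker ⟨y, S.ci.le_centralizer hy⟩).2 hy, mul_one, hd]
        · show (d : G) * y * x = x * ((d : G) * y)
          calc (d : G) * y * x = (d : G) * (y * x * y⁻¹) * y := by group
            _ = (d : G) * (x * z) * y := by rw [hyx]
            _ = (d : G) * x * (d : G)⁻¹ * ((d : G) * z) * y := by group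
            _ = x * (z * z) * (d : G) * y := by rw [show (d : G) * x * (d : G)⁻¹ = x * z from h, hMc d]; group
            _ = _ := by rw [hz.sq]; group
    have hρd : ρ d' = δ := hρeq _ _ (hd'.trans hd.symm)
    -- elements of the common part are fixed
    have hDC : ∀ e : ↥Q, (e : G) ∈ D → δ (e : ↥Q ⧸ Z) = (e : ↥Q ⧸ Z) := by
      intro e he
      have he' : ((act d' e : ↥Q) : G) ∈ D := ⟨(act d' e).2, hnorm' _ hd'x _ he.2⟩
      have hu : NoFix.Quad.disp δ (e : ↥Q ⧸ Z) = ((act d' e * e : ↥Q) : ↥Q ⧸ Z) := by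
        rw [NoFix.Quad.disp_apply, ← hρd, hρ, QuotientGroup.mk_mul]
      by_contra hcon
      have h1 : NoFix.Quad.disp δ (e : ↥Q ⧸ Z) ≠ 1 := fun h => hcon ((F.disp_eq_one δ _).1 h)
      have h2 := hUq _ ⟨(e : ↥Q ⧸ Z), rfl⟩ h1
      rw [hu] at h2
      change qv _ = 1 at h2
      rw [hqv] at h2
      have h3 : sb ((act d' e * e : ↥Q) : G) = 0 := NoFix.bit_zero.2 (hDsq _ (mul_mem he' he))
      rw [h3] at h2
      exact NoFix.z2_zero_ne h2
    -- so the common part is not maximal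
    have hD16 : Nat.card D ≤ 16 := by
      obtain ⟨v, hv⟩ : ∃ v, NoFix.Quad.disp δ v ≠ 1 := by
        by_contra h
        push Not at h
        exact hδ1 (MulEquiv.ext fun v => (F.disp_eq_one δ v).1 (h v))
      obtain ⟨u, hu⟩ := QuotientGroup.mk_surjective (NoFix.Quad.disp δ v)
      have hucomm : ∀ e : ↥Q, (e : G) ∈ D → (u : G) * e = e * u := fun e he => by
        have := F.orth (hρiso d) (hDC e he) v
        rw [← hu] at this
        change Bv _ _ = 0 at this
        rw [hBv] at this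
        exact (NoFix.bit_zero.1 this).symm
      have hu_not : (u : G) ∉ D := fun h => hv (by
        refine F.eq_one_of_fixed_range (k := 1) hδ3 ⟨v, rfl⟩ ?_
        rw [← hu]; exact hDC u h)
      set L := Subgroup.closure (insert u ((D.subgroupOf Q : Subgroup ↥Q) : Set ↥Q))
      have hL : IsMulCommutative ↥L := Subgroup.isMulCommutative_closure (by
        rintro e he f hf
        rcases he with rfl | he <;> rcases hf with rfl | hf
        · rfl
        · exact Subtype.ext (hucomm f hf)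
        · exact Subtype.ext (hucomm e he).symm
        · exact congrArg Subtype.val (hDcomm.is_comm.comm ⟨e, he⟩ ⟨f, hf⟩))
      have hlt : D.subgroupOf Q < L :=
        lt_of_le_of_ne (fun e he => Subgroup.subset_closure (Or.inr he)) fun e => hu_not (by
          have : u ∈ L := Subgroup.subset_closure (Or.inl rfl)
          rw [← e] at this
          exact this)
      have h32 := Cfsg.Agent.PGroup.extraspecial_card_abelian_le hz.extra (n := 4) S.card hL
      obtain ⟨k, hk⟩ := Subgroup.card_dvd_of_le hlt.le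
      have hne : Nat.card L ≠ Nat.card ↥(D.subgroupOf Q) := fun e =>
        hlt.ne (Subgroup.eq_of_le_of_card_ge hlt.le e.le)
      have eD : Nat.card ↥(D.subgroupOf Q) = Nat.card D :=
        Nat.card_congr (Subgroup.subgroupOfEquivOfLe (inf_le_left : D ≤ Q)).toEquiv
      norm_num at h32
      rw [← eD]
      have hpos : 0 < Nat.card L := Nat.card_pos
      rcases Nat.lt_or_ge k 2 with hk2 | hk2
      · interval_cases k
        · omega
        · omega
      · have := Nat.mul_le_mul_left (Nat.card ↥(D.subgroupOf Q)) hk2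
        omega
    have hAinv : ∀ p ∈ A, π d' * p * (π d')⁻¹ ∈ A := by
      rintro _ ⟨⟨r, hr⟩, rfl⟩
      refine ⟨⟨(d' : G) * r * (d' : G)⁻¹, hnorm' _ hd'x _ hr.1, Subgroup.mul_mem _ (Subgroup.mul_mem _ d'.2 hr.2) (Subgroup.inv_mem _ d'.2)⟩, ?_⟩
      show π _ = π d' * π _ * (π d')⁻¹
      rw [← map_inv, ← map_mul, ← map_mul]
      rfl
    have hA1 : ∀ p ∈ A, p.1 = 1 := fun p hp => by
      refine NoFix.s3_step p.1 (congrArg Prod.fst (hA2 p hp)) ?_
      have := hA2 _ (mul_mem (hAinv p hp) hp)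
      rw [hd'] at this
      exact congrArg Prod.fst this
    have hinj : Function.Injective ((MonoidHom.snd (Equiv.Perm (Fin 3)) (Equiv.Perm (Fin 6))).comp A.subtype) :=
      fun p q h => Subtype.ext (Prod.ext ((hA1 _ p.2).trans (hA1 _ q.2).symm) h)
    have h8 := NoFix.elementary_le_eight
      (A := ((MonoidHom.snd (Equiv.Perm (Fin 3)) (Equiv.Perm (Fin 6))).comp A.subtype).range) (by
        rintro _ ⟨p, rfl⟩
        rw [← map_mul, show p * p = 1 from Subtype.ext (hA2 p.1 p.2), map_one])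
    rw [← Nat.card_congr (MonoidHom.ofInjective hinj).toEquiv] at h8
    have := Nat.mul_le_mul hD16 h8
    omega
  · -- x projects onto the moved space
    obtain ⟨t, ht1, htA⟩ := NoFix.exists_even_part hA2 hA8
    have ht : t * t = 1 := Subtype.ext (congrArg Prod.snd (hA2 _ htA))
    obtain ⟨⟨r, hr⟩, hrt⟩ := htA
    have hψt : ψ t = ρ ⟨r, hr.2⟩ := hρeq _ _ (by rw [hlift]; exact hrt.symm)
    have hδk : δ ^ (2 * 1 + 1) = 1 := hδ3
    obtain ⟨u₀, hu₀, hBu⟩ : ∃ u₀ ∈ (NoFix.Quad.disp δ).range, Bv ((⟨x, hxQ⟩ : ↥Q) : ↥Q ⧸ Z) u₀ = 1 := by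
      by_contra h
      push Not at h
      obtain ⟨u₁, hu₁, hfix⟩ := F.decomp hδk ((⟨x, hxQ⟩ : ↥Q) : ↥Q ⧸ Z)
      refine hxC ?_
      have hu11 : u₁ = 1 := F.nondeg_range (hρiso d) hδk u₁ hu₁ fun w hw => by
        obtain ⟨y, hy⟩ := hw
        have h1 := F.orth (hρiso d) hfix y
        rw [hy, F.mul_left] at h1
        have h2 : F.B ((⟨x, hxQ⟩ : ↥Q) : ↥Q ⧸ Z) w = 0 := by
          have := h w ⟨y, hy⟩
          change Bv _ _ = 0
          exact (NoFix.z2_cases _).resolve_right this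
        rwa [h2, zero_add] at h1
      rwa [hu11, mul_one] at hfix
    -- the image of the orthogonal space
    let Db : Subgroup (↥Q ⧸ Z) := (D.subgroupOf Q).map (QuotientGroup.mk' Z)
    refine NoFix.no_singular_involution F hV ψ (fun a => hρiso _) (hρiso d) hδ3 hδ1 hψδ hψinj hUfix ht ht1
      (D := Db) ?_ ?_
    · rintro _ ⟨e, he, rfl⟩
      change qv (e : ↥Q ⧸ Z) = 0
      rw [hqv]
      exact NoFix.bit_zero.2 (hDsq _ he)
    · intro c hc
      have key : ∀ v, Bv ((⟨x, hxQ⟩ : ↥Q) : ↥Q ⧸ Z) v = 0 → NoFix.Quad.disp (ψ t) v ∈ Db := by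
        intro v hv
        obtain ⟨e, rfl⟩ := QuotientGroup.mk_surjective v
        rw [hBv] at hv
        have hex : (e : G) * x = x * e := (NoFix.bit_zero.1 hv).symm
        refine ⟨act ⟨r, hr.2⟩ e * e⁻¹, ⟨(act ⟨r, hr.2⟩ e * e⁻¹).2, ?_⟩, ?_⟩
        · show r * e * r⁻¹ * (e : G)⁻¹ ∈ Q'
          rw [show r * e * r⁻¹ * (e : G)⁻¹ = r * ((e : G) * r⁻¹ * (e : G)⁻¹) by group]
          exact mul_mem hr.1 (hnorm' _ hex _ (inv_mem hr.1))
        · rw [NoFix.Quad.disp_apply, hψt, hρ, QuotientGroup.mk'_apply, QuotientGroup.mk_mul,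
            QuotientGroup.mk_inv, F.inv_eq]
      by_cases hb : Bv ((⟨x, hxQ⟩ : ↥Q) : ↥Q ⧸ Z) c = 0
      · exact key c hb
      · have h1 := key (c * u₀) (by
          have hc1 : Bv ((⟨x, hxQ⟩ : ↥Q) : ↥Q ⧸ Z) c = 1 := by
            exact (NoFix.z2_cases _).resolve_left hb
          have := F.mul_right ((⟨x, hxQ⟩ : ↥Q) : ↥Q ⧸ Z) c u₀
          change Bv _ (c * u₀) = Bv _ c + Bv _ u₀ at this
          rw [this, hc1, hBu, NoFix.z2_one_one])
        rwa [map_mul, (F.disp_eq_one _ _).2 (hUfix t u₀ hu₀), mul_one] at h1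

end Cfsg.Agent.H49
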