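import Cfsg.Agent.H49.Model
import Mathlib.GroupTheory.SpecificGroups.Alternating.Simple

/-!
A quadratic space of dimension eight over the field with two elements with a faithful isometric
action of a subdirect subgroup of `S3 × S6` containing `S3 × A6`, the element of order three being
fixed point free, is the tensor model.
-/

set_option autoImplicit false

namespace Cfsg.Agent.H49.Tensor

abbrev P : Type := Equiv.Perm (Fin 3) × Equiv.Perm (Fin 6)

def pD : P := (finRotate 3, 1)
def pT : P := (Equiv.swap 0 1, 1)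

theorem pD_cube : pD * pD * pD = 1 := by decide +kernel
theorem pT_sq : pT * pT = 1 := by decide +kernel
theorem pT_pD : pT * pD = pD * pD * pT := by decide +kernel

theorem perm3_cases : ∀ s : Equiv.Perm (Fin 3), (s, (1 : Equiv.Perm (Fin 6))) = 1 ∨ (s, 1) = pD ∨
    (s, 1) = pD * pD ∨ (s, 1) = pT ∨ (s, 1) = pD * pT ∨ (s, 1) = pD * pD * pT := by decide +kernel

theorem detK_mul : ∀ k l : K, detK (mulK k l) = detK k * detK l := by decide +kernel

theorem tvtv_cube : ∀ u v : W, om u v = 1 → ∀ x : W,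
    (tv u ∘ tv v) ((tv u ∘ tv v) ((tv u ∘ tv v) x)) = x := by decide +kernel

theorem om_nd : ∀ w : W, (∀ y, om w y = 0) → w = 0 := by decide +kernel

/-! ### The order bound for the symplectic group -/

def hypPairs : Finset (W × W) := Finset.univ.filter fun p => om p.1 p.2 = 1

def restPairs (p : W × W) : Finset (W × W) :=
  hypPairs.filter fun r => om p.1 r.1 = 0 ∧ om p.1 r.2 = 0 ∧ om p.2 r.1 = 0 ∧ om p.2 r.2 = 0

theorem mem_hypPairs {p : W × W} : p ∈ hypPairs ↔ om p.1 p.2 = 1 := by simp [hypPairs]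

theorem mem_restPairs {p r : W × W} : r ∈ restPairs p ↔
    om r.1 r.2 = 1 ∧ om p.1 r.1 = 0 ∧ om p.1 r.2 = 0 ∧ om p.2 r.1 = 0 ∧ om p.2 r.2 = 0 := by
  simp [restPairs, mem_hypPairs]

theorem card_hypPairs : hypPairs.card ≤ 120 := by decide +kernel

theorem card_restPairs : ∀ p ∈ hypPairs, (restPairs p).card ≤ 6 := by decide +kernel

attribute [local irreducible] hypPairs restPairs in
set_option maxRecDepth 4000 in
theorem card_le_720 (S : Set (W → W)) (hS : ∀ g ∈ S, Symp g) : Nat.card S ≤ 720 := by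
  classical
  let f : S → (Σ _ : W × W, W × W) := fun g => ⟨((g : W → W) vb, (g : W → W) vf), ((g : W → W) vc, (g : W → W) vd)⟩
  have hf : ∀ g, f g ∈ hypPairs.sigma restPairs := fun g => by
    have h := (hS g g.2).form
    have e : ∀ x y : W, om ((g : W → W) x) ((g : W → W) y) = om x y := h
    simp only [f, Finset.mem_sigma, mem_hypPairs, mem_restPairs, e]
    decide +kernel
  have hinj : Function.Injective fun g => (⟨f g, hf g⟩ : ↥(hypPairs.sigma restPairs)) := by
    intro g g' h
    have h1 := congrArg (fun x => x.1) h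
    simp only [f, Sigma.mk.injEq, Prod.mk.injEq, heq_eq_eq] at h1
    apply Subtype.ext
    rw [(hS g g.2).eq_lin, (hS g' g'.2).eq_lin, h1.1.1, h1.1.2, h1.2.1, h1.2.2]
  calc Nat.card S ≤ Nat.card ↥(hypPairs.sigma restPairs) := Nat.card_le_card_of_injective _ hinj
    _ = ∑ p ∈ hypPairs, (restPairs p).card := by rw [Nat.card_eq_fintype_card, Fintype.card_coe, Finset.card_sigma]
    _ ≤ ∑ _p ∈ hypPairs, 6 := Finset.sum_le_sum card_restPairs
    _ = hypPairs.card * 6 := by rw [Finset.sum_const, smul_eq_mul]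
    _ ≤ 720 := by have := card_hypPairs; omega

/-! ### The abstract setting -/

variable {U : Type*} [AddCommGroup U]

/-- A quadratic space with the action. -/
structure Data (q : U → ZMod 2) (B : U → U → ZMod 2) (Γ : Subgroup P) (α : P → U → U) : Prop where
  card : Nat.card U = 256
  two : ∀ u : U, u + u = 0
  quad : ∀ u v, q (u + v) = q u + q v + B u v
  bil : ∀ u v w, B (u + v) w = B u w + B v w
  nd : ∀ u, (∀ v, B u v = 0) → u = 0
  hA : ∀ s : Equiv.Perm (Fin 3), ∀ a ∈ alternatingGroup (Fin 6), (s, a) ∈ Γ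
  mul : ∀ p ∈ Γ, ∀ r ∈ Γ, ∀ u, α (p * r) u = α p (α r u)
  one : ∀ u, α 1 u = u
  add : ∀ p ∈ Γ, ∀ u v, α p (u + v) = α p u + α p v
  presq : ∀ p ∈ Γ, ∀ u, q (α p u) = q u
  faith : ∀ p ∈ Γ, (∀ u, α p u = u) → p = 1
  fpf : ∀ u, α pD u = u → u = 0

namespace Data

variable {q : U → ZMod 2} {B : U → U → ZMod 2} {Γ : Subgroup P} {α : P → U → U} (D : Data q B Γ α)
include D

theorem finite : Finite U := Nat.finite_of_card_ne_zero (by rw [D.card]; norm_num)

theorem symm (u v : U) : B u v = B v u := by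
  have h := D.quad u v
  rw [add_comm u v, D.quad v u, add_comm (q v)] at h
  exact (add_left_cancel h).symm

theorem bil_right (u v w : U) : B u (v + w) = B u v + B u w := by
  rw [D.symm u, D.bil, D.symm v, D.symm w]

theorem q_zero : q 0 = 0 := by
  have h := D.quad 0 0
  have hb : B 0 0 = 0 := by
    have h2 := D.bil 0 0 0
    rw [add_zero] at h2
    exact left_eq_add.mp h2
  rw [add_zero, hb, add_zero] at h
  exact left_eq_add.mp h

theorem B_self (u : U) : B u u = 0 := by
  have h := D.quad u u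
  rw [D.two, D.q_zero, CharTwo.add_self_eq_zero, zero_add] at h
  exact h.symm

theorem B_zero (u : U) : B 0 u = 0 := by
  have h := D.bil 0 0 u
  rw [add_zero] at h
  exact left_eq_add.mp h

theorem presB {p : P} (hp : p ∈ Γ) (u v : U) : B (α p u) (α p v) = B u v := by
  have h := D.quad (α p u) (α p v)
  rw [← D.add p hp, D.presq p hp, D.presq p hp, D.presq p hp, D.quad u v] at h
  exact (add_left_cancel h).symm

theorem map_zero {p : P} (hp : p ∈ Γ) : α p 0 = 0 := by
  have h := D.add p hp 0 0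
  rw [add_zero] at h
  exact left_eq_add.mp h

theorem eq_of_add {u v : U} (h : u + v = 0) : u = v := by
  have := congrArg (fun x => x + v) h
  rwa [add_assoc, D.two, add_zero, zero_add] at this

theorem memS (s : Equiv.Perm (Fin 3)) : ((s, 1) : P) ∈ Γ := D.hA s 1 (one_mem _)

theorem memD : pD ∈ Γ := D.memS _
theorem memT : pT ∈ Γ := D.memS _

theorem memA {a : Equiv.Perm (Fin 6)} (ha : a ∈ alternatingGroup (Fin 6)) : ((1, a) : P) ∈ Γ := D.hA 1 a ha

theorem mem_snd {p : P} (hp : p ∈ Γ) : ((1, p.2) : P) ∈ Γ := by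
  have e : ((1, p.2) : P) = ((p.1, 1) : P)⁻¹ * p := by simp [Prod.ext_iff]
  rw [e]
  exact mul_mem (inv_mem (D.memS _)) hp

theorem comm_fst {p : P} (hp : p ∈ Γ) (s : Equiv.Perm (Fin 3)) (h1 : p.1 = 1) (u : U) :
    α p (α (s, 1) u) = α (s, 1) (α p u) := by
  rw [← D.mul p hp _ (D.memS s), ← D.mul _ (D.memS s) p hp]
  congr 1
  simp [Prod.ext_iff, h1]

theorem d_cube (u : U) : α pD (α pD (α pD u)) = u := by
  rw [← D.mul _ D.memD _ D.memD, ← D.mul _ (mul_mem D.memD D.memD) _ D.memD, pD_cube, D.one]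

theorem t_sq (u : U) : α pT (α pT u) = u := by rw [← D.mul _ D.memT _ D.memT, pT_sq, D.one]

theorem t_d (u : U) : α pT (α pD u) = α pD (α pD (α pT u)) := by
  rw [← D.mul _ D.memT _ D.memD, pT_pD, D.mul _ (mul_mem D.memD D.memD) _ D.memT, D.mul _ D.memD _ D.memD]

theorem d_sum (u : U) : α pD (α pD u) = u + α pD u := by
  have h : α pD (u + α pD u + α pD (α pD u)) = u + α pD u + α pD (α pD u) := by
    rw [D.add _ D.memD, D.add _ D.memD, D.d_cube]
    abel
  exact (D.eq_of_add (D.fpf _ h)).symm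

/-- The fixed points of the transposition. -/
def Wf : AddSubgroup U where
  carrier := {u | α pT u = u}
  zero_mem' := D.map_zero D.memT
  add_mem' {a b} ha hb := by
    show α pT (a + b) = a + b
    rw [D.add _ D.memT, ha, hb]
  neg_mem' {a} ha := by
    show α pT (-a) = -a
    rw [← eq_neg_of_add_eq_zero_left (D.two a)]
    exact ha

theorem mem_Wf {u : U} : u ∈ D.Wf ↔ α pT u = u := Iff.rfl

theorem t_Φ {x y : U} (hx : x ∈ D.Wf) (hy : y ∈ D.Wf) : α pT (x + α pD y) = (x + y) + α pD y := by
  rw [D.add _ D.memT, D.mem_Wf.1 hx, D.t_d, D.mem_Wf.1 hy, D.d_sum, add_assoc]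

theorem d_Φ (x y : U) : α pD (x + α pD y) = y + α pD (x + y) := by
  rw [D.add _ D.memD, D.d_sum, D.add _ D.memD]
  abel

theorem Φ_inj {x y : U} (hx : x ∈ D.Wf) (hy : y ∈ D.Wf) (h : x + α pD y = 0) : x = 0 ∧ y = 0 := by
  have h2 := D.t_Φ hx hy
  rw [h, D.map_zero D.memT] at h2
  have : (x + α pD y) + y = 0 := by rw [h2]; abel
  rw [h, zero_add] at this
  rw [this, D.map_zero D.memD, add_zero] at h
  exact ⟨h, this⟩

theorem card_Wf : Nat.card D.Wf = 16 ∧ Function.Surjective (fun p : D.Wf × D.Wf => (p.1 : U) + α pD p.2) ∧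
    ∀ x ∈ D.Wf, ∃ u, u + α pT u = x := by
  haveI := D.finite
  let Φ : D.Wf × D.Wf → U := fun p => (p.1 : U) + α pD p.2
  have hinj : Function.Injective Φ := by
    intro p r h
    have h0 : ((p.1 + r.1 : D.Wf) : U) + α pD ((p.2 + r.2 : D.Wf) : U) = 0 := by
      have := congrArg (fun x => x + Φ r) h
      simp only [D.two] at this
      rw [← this]
      simp only [Φ, AddSubgroup.coe_add, D.add _ D.memD]
      abel
    obtain ⟨a, b⟩ := D.Φ_inj (p.1 + r.1).2 (p.2 + r.2).2 h0
    exact Prod.ext (Subtype.ext (D.eq_of_add (by simpa using a))) (Subtype.ext (D.eq_of_add (by simpa using b)))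
  have h1 := Nat.card_le_card_of_injective Φ hinj
  rw [Nat.card_prod, D.card] at h1
  let η : U →+ D.Wf := AddMonoidHom.mk' (fun u => ⟨u + α pT u, by
    show α pT (u + α pT u) = u + α pT u
    rw [D.add _ D.memT, D.t_sq, add_comm]⟩) (fun u v => Subtype.ext (by
      show u + v + α pT (u + v) = u + α pT u + (v + α pT v)
      rw [D.add _ D.memT]; abel))
  have hker : η.ker = D.Wf := by
    ext u
    rw [AddMonoidHom.mem_ker, D.mem_Wf]
    constructor
    · intro h
      exact (D.eq_of_add (congrArg Subtype.val h)).symm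
    · intro h
      apply Subtype.ext
      show u + α pT u = 0
      rw [h, D.two]
  have h2 : Nat.card D.Wf * Nat.card η.range = 256 := by
    rw [← AddSubgroup.index_ker η, hker, AddSubgroup.card_mul_index, D.card]
  have h3 : Nat.card η.range ≤ Nat.card D.Wf := Nat.card_le_card_of_injective _ Subtype.val_injective
  have hc : Nat.card D.Wf = 16 := by
    have a1 : Nat.card D.Wf ≤ 16 := by nlinarith
    have a2 : 16 ≤ Nat.card D.Wf := by nlinarith
    omega
  refine ⟨hc, ((Nat.bijective_iff_injective_and_card Φ).2 ⟨hinj, ?_⟩).2, fun x hx => ?_⟩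
  · rw [Nat.card_prod, hc, D.card]
  · have hr : η.range = ⊤ := AddSubgroup.eq_top_of_card_eq _ (by rw [hc] at h2 ⊢; omega)
    obtain ⟨u, hu⟩ := (AddMonoidHom.range_eq_top.1 hr) ⟨x, hx⟩
    exact ⟨u, congrArg Subtype.val hu⟩

theorem B_Wf {x y : U} (hx : x ∈ D.Wf) (hy : y ∈ D.Wf) : B x y = 0 := by
  obtain ⟨u, rfl⟩ := D.card_Wf.2.2 x hx
  obtain ⟨v, rfl⟩ := D.card_Wf.2.2 y hy
  have h := D.presB D.memT u (α pT v)
  rw [D.t_sq] at h
  rw [D.bil, D.bil_right, D.bil_right, D.presB D.memT, h]
  generalize B u v = a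
  generalize B u (α pT v) = b
  revert a b; decide

theorem a_mem_Wf {p : P} (hp : p ∈ Γ) (h1 : p.1 = 1) {x : U} (hx : x ∈ D.Wf) : α p x ∈ D.Wf := by
  show α pT (α p x) = α p x
  rw [show pT = ((Equiv.swap 0 1, 1) : P) from rfl, ← D.comm_fst hp _ h1]
  exact congrArg (α p) hx

/-- The form vanishes on the fixed points. -/
theorem q_Wf {x : U} (hx : x ∈ D.Wf) : q x = 0 := by
  classical
  haveI := D.finite
  haveI : IsSimpleGroup ↥(alternatingGroup (Fin 6)) := alternatingGroup.isSimpleGroup (by simp)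
  by_contra hq
  have hq1 : q x = 1 := (z2cases _).resolve_left hq
  let M : AddSubgroup U :=
    { carrier := {u | u ∈ D.Wf ∧ q u = 0}
      zero_mem' := ⟨zero_mem _, D.q_zero⟩
      add_mem' := fun {a b} ha hb => ⟨add_mem ha.1 hb.1, by
        rw [D.quad, ha.2, hb.2, D.B_Wf ha.1 hb.1]; rfl⟩
      neg_mem' := fun {a} ha => by rw [← eq_neg_of_add_eq_zero_left (D.two a)]; exact ha }
  have hM8 : Nat.card M = 8 := by
    let j : M × ZMod 2 → D.Wf := fun r => if r.2 = 0 then ⟨r.1.1, r.1.2.1⟩ else ⟨r.1.1 + x, add_mem r.1.2.1 hx⟩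
    have hj : Function.Bijective j := by
      constructor
      · rintro ⟨⟨a, ha⟩, i⟩ ⟨⟨b, hb⟩, k⟩ h
        have h' := congrArg (fun w : D.Wf => q (w : U)) h
        rcases z2cases i with rfl | rfl <;> rcases z2cases k with rfl | rfl
        · simp only [j, ↓reduceIte, Subtype.mk.injEq] at h
          simp [h]
        · simp [j, D.quad, ha.2, hb.2, hq1, D.B_Wf hb.1 hx] at h'
        · simp [j, D.quad, ha.2, hb.2, hq1, D.B_Wf ha.1 hx] at h'
        · simp only [j, one_ne_zero, ↓reduceIte, Subtype.mk.injEq, add_left_inj] at h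
          simp [h]
      · rintro ⟨w, hw⟩
        rcases z2cases (q w) with h | h
        · exact ⟨(⟨w, hw, h⟩, 0), by simp [j]⟩
        · refine ⟨(⟨w + x, add_mem hw hx, ?_⟩, 1), ?_⟩
          · rw [D.quad, h, hq1, D.B_Wf hw hx]; decide
          · simp only [j, one_ne_zero, ↓reduceIte, Subtype.mk.injEq]
            rw [add_assoc, D.two, add_zero]
    have := Nat.card_eq_of_bijective j hj
    rw [Nat.card_prod, Nat.card_zmod, D.card_Wf.1] at this
    omega
  have hinv : ∀ a : alternatingGroup (Fin 6), ∀ m ∈ M, α (1, (a : Equiv.Perm (Fin 6))) m ∈ M :=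
    fun a m hm => ⟨D.a_mem_Wf (D.memA a.2) rfl hm.1, by rw [D.presq _ (D.memA a.2)]; exact hm.2⟩
  have hmul : ∀ a b : alternatingGroup (Fin 6), ∀ u, α (1, ((a * b : alternatingGroup (Fin 6)) : Equiv.Perm (Fin 6))) u =
      α (1, (a : Equiv.Perm (Fin 6))) (α (1, (b : Equiv.Perm (Fin 6))) u) := by
    intro a b u
    rw [← D.mul _ (D.memA a.2) _ (D.memA b.2)]
    simp
  have hone : ∀ u, α (1, ((1 : alternatingGroup (Fin 6)) : Equiv.Perm (Fin 6))) u = u := fun u => D.one u
  let H : Subgroup (alternatingGroup (Fin 6)) :=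
    { carrier := {a | ∀ m ∈ M, α (1, (a : Equiv.Perm (Fin 6))) m = m}
      one_mem' := fun m _ => hone m
      mul_mem' := fun {a b} ha hb m hm => by rw [hmul, hb m hm, ha m hm]
      inv_mem' := fun {a} ha m hm => by
        conv_lhs => rw [← ha m hm]
        rw [← hmul, inv_mul_cancel, hone] }
  haveI hHn : H.Normal := ⟨fun a ha b m hm => by
    rw [hmul, hmul, ha _ (hinv b⁻¹ m hm), ← hmul, mul_inv_cancel, hone]⟩
  have htriv : H = ⊤ := by
    refine (hHn.eq_bot_or_eq_top).resolve_left fun hb => ?_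
    haveI : Finite M := inferInstance
    obtain ⟨x1, hx1⟩ : ∃ x1 : M, x1 ≠ 0 := by
      by_contra h; push Not at h
      haveI : Subsingleton M := ⟨fun a b => (h a).trans (h b).symm⟩
      rw [Nat.card_of_subsingleton 0] at hM8; omega
    haveI : Fintype M := Fintype.ofFinite _
    obtain ⟨x2, hx2⟩ := Finset.exists_mem_notMem_of_card_lt_card
      (show ({0, x1} : Finset M).card < (Finset.univ : Finset M).card by
        rw [Finset.card_univ, ← Nat.card_eq_fintype_card, hM8]
        exact lt_of_le_of_lt Finset.card_le_two (by norm_num))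
    obtain ⟨x3, hx3⟩ := Finset.exists_mem_notMem_of_card_lt_card
      (show ({0, x1, x2, x1 + x2} : Finset M).card < (Finset.univ : Finset M).card by
        rw [Finset.card_univ, ← Nat.card_eq_fintype_card, hM8]
        exact lt_of_le_of_lt Finset.card_le_four (by norm_num))
    simp only [Finset.mem_insert, Finset.mem_singleton, not_or] at hx2 hx3
    have two' : ∀ a : M, a + a = 0 := fun a => Subtype.ext (D.two a)
    have eqa : ∀ {a b : M}, a + b = 0 → a = b := fun {a b} h => Subtype.ext (D.eq_of_add (congrArg Subtype.val h))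
    let c : ZMod 2 × ZMod 2 × ZMod 2 → M := fun i =>
      (if i.1 = 0 then 0 else x1) + (if i.2.1 = 0 then 0 else x2) + (if i.2.2 = 0 then 0 else x3)
    have hcadd : ∀ i k, c i + c k = c (i + k) := by
      rintro ⟨i1, i2, i3⟩ ⟨k1, k2, k3⟩
      have key : ∀ (y : M) (i k : ZMod 2), (if i = 0 then 0 else y) + (if k = 0 then 0 else y) = if i + k = 0 then 0 else y := by
        intro y i k
        rcases z2cases i with rfl | rfl <;> rcases z2cases k with rfl | rfl <;>
          simp [two' y, show (1 : ZMod 2) + 1 = 0 by decide]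
      simp only [c, Prod.mk_add_mk, ← key]
      abel
    have hc0 : ∀ i, c i = 0 → i = 0 := by
      rintro ⟨i1, i2, i3⟩ h
      rcases z2cases i1 with rfl | rfl <;> rcases z2cases i2 with rfl | rfl <;>
        rcases z2cases i3 with rfl | rfl <;>
        simp only [c, one_ne_zero, ↓reduceIte, zero_add, add_zero] at h
      · rfl
      · exact absurd h hx3.2.1
      · exact absurd h hx2.2.1
      · exact absurd (eqa h) (Ne.symm hx3.2.2.2.1)
      · exact absurd h hx1
      · exact absurd (eqa h) (Ne.symm hx3.2.2.1)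
      · exact absurd (eqa h) (Ne.symm hx2.2.2)
      · exact absurd (eqa h) (Ne.symm hx3.2.2.2.2)
    have hcb : Function.Bijective c := by
      refine (Nat.bijective_iff_injective_and_card c).2 ⟨fun i k h => ?_, by rw [hM8]; simp⟩
      have := hc0 (i + k) (by rw [← hcadd, h, two'])
      have key : ∀ i k : ZMod 2 × ZMod 2 × ZMod 2, i + k = 0 → i = k := by decide
      exact key i k this
    let tr : alternatingGroup (Fin 6) → {m : M // m ≠ 0} → {m : M // m ≠ 0} := fun a m =>
      ⟨⟨α (1, (a : Equiv.Perm (Fin 6))) m.1, hinv a _ m.1.2⟩, fun h => m.2 (Subtype.ext (by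
        have e := congrArg Subtype.val h
        have e2 := congrArg (α (1, ((a⁻¹ : alternatingGroup (Fin 6)) : Equiv.Perm (Fin 6)))) e
        rwa [← hmul, inv_mul_cancel, hone, AddSubgroup.coe_zero, D.map_zero (D.memA a⁻¹.2)] at e2))⟩
    have n2 : x2 ≠ 0 := hx2.2.1
    have n3 : x3 ≠ 0 := hx3.2.1
    let F : alternatingGroup (Fin 6) → {m : M // m ≠ 0} × {m : M // m ≠ 0} × {m : M // m ≠ 0} :=
      fun a => (tr a ⟨x1, hx1⟩, tr a ⟨x2, n2⟩, tr a ⟨x3, n3⟩)
    have hF : Function.Injective F := by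
      intro a b h
      simp only [F, Prod.mk.injEq] at h
      have e : ∀ m : M, α (1, (a : Equiv.Perm (Fin 6))) (m : U) = α (1, (b : Equiv.Perm (Fin 6))) (m : U) := by
        intro m
        obtain ⟨⟨i1, i2, i3⟩, rfl⟩ := hcb.2 m
        have k1 := congrArg (fun y => ((y.1 : M) : U)) h.1
        have k2 := congrArg (fun y => ((y.1 : M) : U)) h.2.1
        have k3 := congrArg (fun y => ((y.1 : M) : U)) h.2.2
        simp only [tr] at k1 k2 k3
        simp only [c, AddSubgroup.coe_add, D.add _ (D.memA a.2), D.add _ (D.memA b.2)]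
        rcases z2cases i1 with rfl | rfl <;> rcases z2cases i2 with rfl | rfl <;>
          rcases z2cases i3 with rfl | rfl <;>
          simp [k1, k2, k3, D.map_zero (D.memA a.2), D.map_zero (D.memA b.2)]
      have : b⁻¹ * a ∈ H := fun m hm => by rw [hmul, e ⟨m, hm⟩, ← hmul, inv_mul_cancel, hone]
      rw [hb, Subgroup.mem_bot, inv_mul_eq_one] at this
      exact this.symm
    have := Nat.card_le_card_of_injective F hF
    have hne : Nat.card {m : M // m ≠ 0} = 7 := by
      rw [Nat.card_eq_fintype_card, Fintype.card_subtype_compl, Fintype.card_subtype_eq, ← Nat.card_eq_fintype_card, hM8]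
    rw [Nat.card_prod, Nat.card_prod, hne, nat_card_alternatingGroup] at this
    norm_num [Nat.factorial] at this
  have hfixM : ∀ a : alternatingGroup (Fin 6), ∀ m ∈ M, α (1, (a : Equiv.Perm (Fin 6))) m = m := fun a m hm =>
    (show a ∈ H by rw [htriv]; exact Subgroup.mem_top _) m hm
  have hcoc : ∀ a : alternatingGroup (Fin 6), α (1, (a : Equiv.Perm (Fin 6))) x + x ∈ M := fun a =>
    ⟨add_mem (D.a_mem_Wf (D.memA a.2) rfl hx) hx, by
      rw [D.quad, D.presq _ (D.memA a.2), hq1, D.B_Wf (D.a_mem_Wf (D.memA a.2) rfl hx) hx]; decide⟩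
  let cc : alternatingGroup (Fin 6) →* Multiplicative M := MonoidHom.mk'
    (fun a => Multiplicative.ofAdd ⟨_, hcoc a⟩) (fun a b => by
      apply congrArg Multiplicative.ofAdd
      apply Subtype.ext
      show α (1, ((a * b : alternatingGroup (Fin 6)) : Equiv.Perm (Fin 6))) x + x =
        (α (1, (a : Equiv.Perm (Fin 6))) x + x) + (α (1, (b : Equiv.Perm (Fin 6))) x + x)
      have e := hfixM a _ (hcoc b)
      rw [D.add _ (D.memA a.2)] at e
      rw [hmul, ← e]
      generalize α (1, (a : Equiv.Perm (Fin 6))) (α (1, (b : Equiv.Perm (Fin 6))) x) = w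
      generalize α (1, (a : Equiv.Perm (Fin 6))) x = v
      calc w + x = (v + v) + (w + x) := by rw [D.two, zero_add]
        _ = v + x + (w + v) := by abel)
  haveI : cc.ker.Normal := inferInstance
  have hcc : cc.ker = ⊤ := by
    refine (Subgroup.Normal.eq_bot_or_eq_top inferInstance).resolve_left fun hb => ?_
    have hi : Function.Injective cc := (MonoidHom.ker_eq_bot_iff cc).1 hb
    have := Nat.card_le_card_of_injective _ hi
    rw [Nat.card_congr Multiplicative.toAdd, hM8, nat_card_alternatingGroup] at this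
    norm_num [Nat.factorial] at this
  have hWf : ∀ a : alternatingGroup (Fin 6), ∀ w ∈ D.Wf, α (1, (a : Equiv.Perm (Fin 6))) w = w := by
    intro a w hw
    have ex : α (1, (a : Equiv.Perm (Fin 6))) x = x := by
      have : cc a = 1 := MonoidHom.mem_ker.1 (by rw [hcc]; exact Subgroup.mem_top _)
      exact D.eq_of_add (congrArg (fun y => ((Multiplicative.toAdd y : M) : U)) this)
    rcases z2cases (q w) with h | h
    · exact hfixM a w ⟨hw, h⟩
    · have hm : w + x ∈ M := ⟨add_mem hw hx, by rw [D.quad, h, hq1, D.B_Wf hw hx]; decide⟩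
      have e := hfixM a _ hm
      rw [D.add _ (D.memA a.2), ex] at e
      exact add_right_cancel e
  obtain ⟨a, ha⟩ := exists_ne (1 : alternatingGroup (Fin 6))
  refine ha (Subtype.ext (congrArg Prod.snd (D.faith _ (D.memA a.2) fun u => ?_)))
  obtain ⟨⟨y, w⟩, rfl⟩ := D.card_Wf.2.1 u
  show α (1, (a : Equiv.Perm (Fin 6))) ((y : U) + α pD w) = (y : U) + α pD w
  rw [D.add _ (D.memA a.2), show pD = ((finRotate 3, 1) : P) from rfl, D.comm_fst (D.memA a.2) _ rfl,
    hWf a y y.2, hWf a w w.2]

/-- The symplectic form on the fixed points. -/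
def omW (x y : U) : ZMod 2 := B x (α pD y)

theorem omW_symm {x y : U} (hx : x ∈ D.Wf) (hy : y ∈ D.Wf) : B x (α pD y) = B y (α pD x) := by
  calc B x (α pD y) = B (α pD y) x := D.symm _ _
    _ = B (α pD y) x + B y x := by rw [D.B_Wf hy hx, add_zero]
    _ = B (α pD y) x + B (α pD y) (α pD x) := by rw [D.presB D.memD]
    _ = B (α pD y) (α pD (α pD x)) := by rw [D.d_sum, D.bil_right]
    _ = B y (α pD x) := D.presB D.memD _ _

theorem omW_self {x : U} (hx : x ∈ D.Wf) : B x (α pD x) = 0 := by
  have h := D.quad x (α pD x)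
  rw [← D.d_sum, D.presq _ D.memD, D.presq _ D.memD, D.q_Wf hx, zero_add, zero_add] at h
  exact h.symm

theorem omW_nd {x : U} (hx : x ∈ D.Wf) (h : ∀ y ∈ D.Wf, B x (α pD y) = 0) : x = 0 := by
  refine D.nd x fun u => ?_
  obtain ⟨⟨a, b⟩, rfl⟩ := D.card_Wf.2.1 u
  show B x ((a : U) + α pD b) = 0
  rw [D.bil_right, D.B_Wf hx a.2, h b b.2, add_zero]

theorem exists_lin : ∃ l : W → U, (∀ v w, l (v + w) = l v + l w) ∧ (∀ v, l v ∈ D.Wf) ∧
    (∀ x ∈ D.Wf, ∃ v, l v = x) ∧ Function.Injective l ∧ ∀ v w, B (l v) (α pD (l w)) = om v w := by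
  classical
  haveI := D.finite
  have hc := D.card_Wf.1
  obtain ⟨b, hb⟩ : ∃ b : D.Wf, b ≠ 0 := by
    by_contra h; push Not at h
    haveI : Subsingleton D.Wf := ⟨fun a b => (h a).trans (h b).symm⟩
    rw [Nat.card_of_subsingleton 0] at hc; omega
  obtain ⟨f, hf⟩ : ∃ f : D.Wf, B (b : U) (α pD f) = 1 := by
    by_contra h; push Not at h
    exact hb (Subtype.ext (D.omW_nd b.2 fun y hy => (z2cases _).resolve_right (h ⟨y, hy⟩)))
  obtain ⟨c, hc0, hcb, hcf⟩ : ∃ c : D.Wf, c ≠ 0 ∧ B (b : U) (α pD c) = 0 ∧ B (f : U) (α pD c) = 0 := by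
    by_contra h; push Not at h
    haveI : Fintype D.Wf := Fintype.ofFinite _
    obtain ⟨x, -, y, -, hxy, he⟩ := Finset.exists_ne_map_eq_of_card_lt_of_maps_to
      (s := (Finset.univ : Finset D.Wf)) (t := (Finset.univ : Finset (ZMod 2 × ZMod 2)))
      (by rw [Finset.card_univ, Finset.card_univ, ← Nat.card_eq_fintype_card (α := D.Wf), hc]; decide)
      (f := fun x : D.Wf => (B (b : U) (α pD x), B (f : U) (α pD x))) (fun _ _ => Finset.mem_univ _)
    simp only [Prod.mk.injEq] at he
    refine h (x + y) (fun e => hxy (Subtype.ext (D.eq_of_add (by simpa using congrArg Subtype.val e)))) ?_ ?_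
    · rw [AddSubgroup.coe_add, D.add _ D.memD, D.bil_right, he.1, CharTwo.add_self_eq_zero]
    · rw [AddSubgroup.coe_add, D.add _ D.memD, D.bil_right, he.2, CharTwo.add_self_eq_zero]
  obtain ⟨d, hd⟩ : ∃ d : D.Wf, B (c : U) (α pD d) = 1 := by
    by_contra h; push Not at h
    exact hc0 (Subtype.ext (D.omW_nd c.2 fun y hy => (z2cases _).resolve_right (h ⟨y, hy⟩)))
  have sm : ∀ x y : D.Wf, B (x : U) (α pD y) = B (y : U) (α pD x) := fun x y => D.omW_symm x.2 y.2
  have ad : ∀ x y w : D.Wf, B (x : U) (α pD ((y + w : D.Wf) : U)) = B (x : U) (α pD y) + B (x : U) (α pD w) := by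
    intro x y w; rw [AddSubgroup.coe_add, D.add _ D.memD, D.bil_right]
  have sf : ∀ x : D.Wf, B (x : U) (α pD x) = 0 := fun x => D.omW_self x.2
  have z0 : ∀ x : D.Wf, B (x : U) (α pD ((0 : D.Wf) : U)) = 0 := fun x => by
    rw [AddSubgroup.coe_zero, D.map_zero D.memD, D.symm, D.B_zero]
  let mul2 : ZMod 2 → D.Wf → D.Wf := fun i x => if i = 0 then 0 else x
  have mb : ∀ (x y : D.Wf) i, B (x : U) (α pD ((mul2 i y : D.Wf) : U)) = i * B (x : U) (α pD y) := by
    intro x y i
    rcases z2cases i with rfl | rfl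
    · simp only [mul2, ↓reduceIte, z0, zero_mul]
    · simp only [mul2, one_ne_zero, ↓reduceIte, one_mul]
  set d' : D.Wf := d + mul2 (B (b : U) (α pD d)) f + mul2 (B (f : U) (α pD d)) b with hd'
  have db : B (b : U) (α pD d') = 0 := by
    rw [hd', ad, ad, mb, mb, hf, sf, mul_zero, mul_one, add_zero, CharTwo.add_self_eq_zero]
  have df : B (f : U) (α pD d') = 0 := by
    rw [hd', ad, ad, mb, mb, sf, sm f b, hf, mul_zero, mul_one, add_zero, CharTwo.add_self_eq_zero]
  have dc : B (c : U) (α pD d') = 1 := by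
    rw [hd', ad, ad, mb, mb, sm c f, sm c b, hcf, hcb, hd, mul_zero, mul_zero, add_zero, add_zero]
  let L : W → D.Wf := fun v => mul2 v.1 b + mul2 v.2.1 c + mul2 v.2.2.1 f + mul2 v.2.2.2 d'
  have m2 : ∀ (x : D.Wf) i k, mul2 (i + k) x = mul2 i x + mul2 k x := by
    intro x i k
    have : x + x = 0 := Subtype.ext (D.two x)
    rcases z2cases i with rfl | rfl <;> rcases z2cases k with rfl | rfl <;>
      simp [mul2, this, show (1 : ZMod 2) + 1 = 0 by decide]
  have Ladd : ∀ v w, L (v + w) = L v + L w := fun v w => by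
    simp only [L, Prod.fst_add, Prod.snd_add, m2]; abel
  have Lform : ∀ v w, B (L v : U) (α pD (L w)) = om v w := by
    intro v w
    have one : ∀ x : D.Wf, B (x : U) (α pD (L w)) = w.1 * B (x : U) (α pD b) + w.2.1 * B (x : U) (α pD c) +
        w.2.2.1 * B (x : U) (α pD f) + w.2.2.2 * B (x : U) (α pD d') := fun x => by
      simp only [L, ad, mb]
    rw [sm (L v) (L w)]
    simp only [L, ad, mb]
    rw [sm _ b, sm _ c, sm _ f, sm _ d', one b, one c, one f, one d', sf, sf, sf, sf, hf, hcb, db,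
      sm c b, hcb, sm c f, hcf, dc, sm f b, hf, df, sm d' b, db, sm d' c, dc, sm d' f, df]
    simp only [om]
    ring
  have Linj : Function.Injective L := by
    intro v w h
    have key : ∀ a e : W, (∀ y, om a y = om e y) → a = e := by decide +kernel
    exact key v w fun y => by rw [← Lform, ← Lform, h]
  have Lsurj : Function.Surjective L := ((Nat.bijective_iff_injective_and_card L).2 ⟨Linj, by rw [hc]; simp⟩).2
  exact ⟨fun v => (L v : U), fun v w => by simp only [Ladd, AddSubgroup.coe_add], fun v => (L v).2,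
    fun x hx => (Lsurj ⟨x, hx⟩).imp fun v hv => congrArg Subtype.val hv,
    fun v w h => Linj (Subtype.ext h), Lform⟩

/-- The model map intertwines `p` with the pair. -/
def Inter (Φ : V → U) (α : P → U → U) (p : P) (k : K) (g : W → W) : Prop := ∀ v, α p (Φ v) = Φ (act k g v)

omit D in
theorem act_id (k : K) (v : V) : act k id v = appK k v := rfl

theorem exists_model : ∃ Φ : V → U, Function.Bijective Φ ∧ (∀ v w, Φ (v + w) = Φ v + Φ w) ∧
    (∀ v, q (Φ v) = qV v) ∧ (∀ v w, B (Φ v) (Φ w) = BV v w) ∧ Inter Φ α pD kD id ∧ Inter Φ α pT kT id ∧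
    (∀ p ∈ Γ, ∃ k g, detK k = 1 ∧ Symp g ∧ Inter Φ α p k g) ∧
    ∀ u v, om u v = 1 → ∃ p ∈ Γ, Inter Φ α p oneK (tv u ∘ tv v) := by
  classical
  obtain ⟨l, ladd, lmem, lsurj, linj, lform⟩ := D.exists_lin
  have l0 : l 0 = 0 := by
    have h := ladd 0 0
    rw [add_zero] at h
    exact left_eq_add.mp h
  let Φ : V → U := fun v => l v.1 + α pD (l v.2)
  have hadd : ∀ v w, Φ (v + w) = Φ v + Φ w := fun v w => by
    simp only [Φ, Prod.fst_add, Prod.snd_add, ladd, D.add _ D.memD]; abel
  have hsurj : Function.Surjective Φ := fun u => by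
    obtain ⟨⟨a, b⟩, rfl⟩ := D.card_Wf.2.1 u
    obtain ⟨x, hx⟩ := lsurj a a.2
    obtain ⟨y, hy⟩ := lsurj b b.2
    exact ⟨(x, y), by simp [Φ, hx, hy]⟩
  haveI := D.finite
  have hbij : Function.Bijective Φ :=
    (Nat.bijective_iff_surjective_and_card Φ).2 ⟨hsurj, by rw [D.card]; simp⟩
  have hq : ∀ v, q (Φ v) = qV v := fun v => by
    simp only [Φ, qV, D.quad, D.q_Wf (lmem _), D.presq _ D.memD, lform, zero_add]
  have hB : ∀ v w, B (Φ v) (Φ w) = BV v w := fun v w => by
    have h := D.quad (Φ v) (Φ w)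
    rw [← hadd, hq, hq, hq, qV_add] at h
    exact (add_left_cancel h).symm
  have interD : Inter Φ α pD kD id := fun v => by
    simp only [Φ, D.d_Φ, act_id, appK, kD, zero_smul, one_smul, zero_add, ladd]
  have interT : Inter Φ α pT kT id := fun v => by
    simp only [Φ, D.t_Φ (lmem _) (lmem _), act_id, appK, kT, zero_smul, one_smul, zero_add, ladd]
  have inter1 : Inter Φ α 1 oneK id := fun v => by rw [D.one, act_id, appK_one]
  have interM : ∀ {p r : P} {k k' : K}, p ∈ Γ → r ∈ Γ → Inter Φ α p k id → Inter Φ α r k' id →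
      Inter Φ α (p * r) (mulK k k') id := by
    intro p r k k' hp hr h h' v
    rw [D.mul p hp r hr, h' v, h _, act_id, act_id, act_id, appK_mul]
  have interS : ∀ s : Equiv.Perm (Fin 3), ∃ k, detK k = 1 ∧ Inter Φ α ((s, 1) : P) k id := by
    intro s
    have mD := D.memD
    have mT := D.memT
    rcases perm3_cases s with e | e | e | e | e | e <;> rw [e]
    · exact ⟨oneK, by decide, inter1⟩
    · exact ⟨kD, by decide, interD⟩
    · exact ⟨_, by decide, interM mD mD interD interD⟩
    · exact ⟨kT, by decide, interT⟩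
    · exact ⟨_, by decide, interM mD mT interD interT⟩
    · exact ⟨_, by decide, interM (mul_mem mD mD) mT (interM mD mD interD interD) interT⟩
  have interA : ∀ p ∈ Γ, p.1 = 1 → ∃ g, Symp g ∧ Inter Φ α p oneK g := by
    intro p hp h1
    choose g hg using fun v : W => lsurj (α p (l v)) (D.a_mem_Wf hp h1 (lmem v))
    refine ⟨g, ⟨fun u v => linj ?_, fun u v => ?_⟩, fun v => ?_⟩
    · rw [hg, ladd, ladd, D.add p hp, hg, hg]
    · rw [← lform, hg, hg, show pD = ((finRotate 3, 1) : P) from rfl, ← D.comm_fst hp _ h1, D.presB hp,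
        ← show pD = ((finRotate 3, 1) : P) from rfl, lform]
    · simp only [act, appK_one, Φ, hg, D.add p hp]
      rw [show pD = ((finRotate 3, 1) : P) from rfl, D.comm_fst hp _ h1]
  refine ⟨Φ, hbij, hadd, hq, hB, interD, interT, fun p hp => ?_, fun u v huv => ?_⟩
  · obtain ⟨k, hk, hks⟩ := interS p.1
    obtain ⟨g, hg, hga⟩ := interA ((1, p.2) : P) (D.mem_snd hp) rfl
    refine ⟨k, g, hk, hg, fun w => ?_⟩
    have e : p = ((p.1, 1) : P) * ((1, p.2) : P) := by simp [Prod.ext_iff]
    rw [e, D.mul _ (D.memS _) _ (D.mem_snd hp), hga w, hks _]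
    congr 1
    rw [act_id]
    simp only [act, appK_one]
  · -- the image of the alternating group has index at most two, so contains all squares
    let Sp : Subgroup (Equiv.Perm W) :=
      { carrier := {e | Symp e}
        one_mem' := Symp.id
        mul_mem' := fun {a b} ha hb => ha.comp hb
        inv_mem' := fun {a} ha => by
          refine ⟨fun x y => a.injective ?_, fun x y => ?_⟩
          · simp [ha.add]
          · rw [← ha.form (a⁻¹ x) (a⁻¹ y)]; simp }
    have hSp : Nat.card Sp ≤ 720 := by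
      refine le_trans ?_ (card_le_720 {g | Symp g} fun g hg => hg)
      refine Nat.card_le_card_of_injective (fun e => ⟨(e.1 : W → W), e.2⟩) fun a b h => ?_
      exact Subtype.ext (Equiv.coe_fn_injective (congrArg Subtype.val h))
    choose g hg hga using fun a : alternatingGroup (Fin 6) => interA ((1, (a : Equiv.Perm (Fin 6))) : P) (D.memA a.2) rfl
    have key : ∀ (p : P) (g g' : W → W), Inter Φ α p oneK g → Inter Φ α p oneK g' → g = g' := by
      intro p g g' h h'
      funext x
      have := hbij.1 ((h (x, 0)).symm.trans (h' (x, 0)))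
      simp only [act, appK_one, Prod.mk.injEq] at this
      exact this.1
    let ρ : alternatingGroup (Fin 6) →* Sp := MonoidHom.mk'
      (fun a => ⟨Equiv.ofBijective (g a) ((Finite.injective_iff_bijective).1 (hg a).injective), hg a⟩)
      (fun a b => by
        apply Subtype.ext
        apply Equiv.ext
        intro x
        show g (a * b) x = g a (g b x)
        refine congrFun (key ((1, ((a * b : alternatingGroup (Fin 6)) : Equiv.Perm (Fin 6))) : P) _ (g a ∘ g b)
          (hga _) fun w => ?_) x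
        have e : ((1, ((a * b : alternatingGroup (Fin 6)) : Equiv.Perm (Fin 6))) : P) =
            ((1, (a : Equiv.Perm (Fin 6))) : P) * ((1, (b : Equiv.Perm (Fin 6))) : P) := by simp
        rw [e, D.mul _ (D.memA a.2) _ (D.memA b.2), hga b w, hga a _]
        simp only [act, appK_one, Function.comp])
    have hρ : Function.Injective ρ := by
      intro a b h
      have e : g a = g b := congrArg (fun e : Sp => ((e : Equiv.Perm W) : W → W)) h
      have := D.faith ((1, ((b⁻¹ * a : alternatingGroup (Fin 6)) : Equiv.Perm (Fin 6))) : P) (D.memA (b⁻¹ * a).2)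
        fun w => by
          obtain ⟨v, rfl⟩ := hsurj w
          have e2 : ((1, ((b⁻¹ * a : alternatingGroup (Fin 6)) : Equiv.Perm (Fin 6))) : P) =
              ((1, (b : Equiv.Perm (Fin 6))) : P)⁻¹ * ((1, (a : Equiv.Perm (Fin 6))) : P) := by simp
          rw [e2, D.mul _ (inv_mem (D.memA b.2)) _ (D.memA a.2), hga a v, e, ← hga b v,
            ← D.mul _ (inv_mem (D.memA b.2)) _ (D.memA b.2), inv_mul_cancel, D.one]
      have : b⁻¹ * a = 1 := Subtype.ext (congrArg Prod.snd this)
      exact (inv_mul_eq_one.1 this).symm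
    have hr : 360 ≤ Nat.card ρ.range := by
      rw [Nat.card_congr (MonoidHom.ofInjective hρ).symm.toEquiv, nat_card_alternatingGroup]
      norm_num [Nat.factorial]
    have hidx : ρ.range.index ≤ 2 := by
      have h := Subgroup.card_mul_index ρ.range
      by_contra hlt
      nlinarith
    have hsq : ∀ x : Sp, x * x ∈ ρ.range := by
      intro x
      rcases Nat.lt_or_ge ρ.range.index 2 with hl | hl
      · have h0 : ρ.range.index ≠ 0 := Subgroup.index_ne_zero_of_finite
        rw [Subgroup.index_eq_one.1 (by omega : ρ.range.index = 1)]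
        exact Subgroup.mem_top _
      · exact Subgroup.mul_self_mem_of_index_two (le_antisymm hidx hl) x
    let h : W → W := tv u ∘ tv v
    have hh : Symp h := (symp_tv u).comp (symp_tv v)
    let hE : Sp := ⟨Equiv.ofBijective h ((Finite.injective_iff_bijective).1 hh.injective), hh⟩
    obtain ⟨a, ha⟩ := hsq (hE * hE)
    refine ⟨((1, (a : Equiv.Perm (Fin 6))) : P), D.memA a.2, ?_⟩
    have hga' := hga a
    have ea : g a = h := by
      funext x
      have e := congrArg (fun e : Sp => (e : Equiv.Perm W) x) ha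
      calc g a x = h (h (h (h x))) := e
        _ = h x := tvtv_cube u v huv (h x)
    rw [ea] at hga'
    exact hga'

end Data

end Cfsg.Agent.H49.Tensor
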