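import Cfsg.Agent.H49.Frame
import Cfsg.Agent.H49.TensorAlg
import Cfsg.Agent.PGroup.Extraspecial

/-!
Coordinates on an extraspecial subgroup of order `2^9` from the shape `S3 × A6` or `S3 × S6` of the
group induced on it.
-/

set_option autoImplicit false

namespace Cfsg.Agent.H49

open Cfsg.Agent.LargeExtra

namespace Coord

variable {G : Type*} [Group G] [Finite G] {z : G} {Q : Subgroup G}

/-- The exponent of `z`. -/
def e (z : G) (i : ZMod 2) : G := if i = 0 then 1 else z

/-- Zero exactly on commuting pairs. -/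
noncomputable def β (a b : G) : ZMod 2 := by classical exact if a * b = b * a then 0 else 1

theorem e_add (hz : z * z = 1) (i k : ZMod 2) : e z (i + k) = e z i * e z k := by
  rcases z2cases i with rfl | rfl <;> rcases z2cases k with rfl | rfl <;>
    simp [e, hz, show (1 : ZMod 2) + 1 = 0 by decide]

theorem e_inj (hz : z ≠ 1) {i k : ZMod 2} (h : e z i = e z k) : i = k := by
  rcases z2cases i with rfl | rfl <;> rcases z2cases k with rfl | rfl <;> simp_all [e]

variable (h : CentralInvolution Q z)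
include h

theorem comm_e {a : G} (ha : a ∈ Q) (i : ZMod 2) : a * e z i = e z i * a := by
  rcases z2cases i with rfl | rfl <;> simp [e, h.comm a ha]

theorem swap {a b : G} (ha : a ∈ Q) (hb : b ∈ Q) : b * a = a * b * e z (β a b) := by
  unfold β
  split_ifs with hc
  · rw [hc]; simp [e]
  · rcases h.conj_cases hb ha with r | r
    · exact absurd (mul_inv_eq_iff_eq_mul.1 r).symm hc
    · have r2 := mul_inv_eq_iff_eq_mul.1 r
      rw [r2]
      simp only [e, one_ne_zero, ↓reduceIte]
      rw [mul_assoc, ← h.comm b hb, ← mul_assoc]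

theorem β_eq {a b : G} (ha : a ∈ Q) (hb : b ∈ Q) {i : ZMod 2} (hi : b * a = a * b * e z i) : β a b = i :=
  e_inj h.ne_one (mul_left_cancel ((swap h ha hb).symm.trans hi))

theorem β_add_left {a b c : G} (ha : a ∈ Q) (hb : b ∈ Q) (hc : c ∈ Q) : β (a * b) c = β a c + β b c := by
  refine β_eq h (mul_mem ha hb) hc ?_
  calc c * (a * b) = c * a * b := (mul_assoc _ _ _).symm
    _ = a * c * e z (β a c) * b := by rw [swap h ha hc]
    _ = a * c * (e z (β a c) * b) := mul_assoc _ _ _
    _ = a * (c * b) * e z (β a c) := by rw [← comm_e h hb]; group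
    _ = a * (b * c * e z (β b c)) * e z (β a c) := by rw [swap h hb hc]
    _ = a * b * c * (e z (β b c) * e z (β a c)) := by group
    _ = _ := by rw [← e_add h.sq, add_comm]

/-- Zero exactly on the elements squaring to one. -/
noncomputable def sg (_h : CentralInvolution Q z) (a : G) : ZMod 2 := by
  classical exact if a * a = 1 then 0 else 1

theorem sq_eq {a : G} (ha : a ∈ Q) : a * a = e z (sg h a) := by
  unfold sg
  split_ifs with hs
  · simp [e, hs]
  · rw [(h.sq_mem ha).resolve_left hs]; simp [e]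

theorem sg_mul {a b : G} (ha : a ∈ Q) (hb : b ∈ Q) : sg h (a * b) = sg h a + sg h b + β a b := by
  refine e_inj h.ne_one ((sq_eq h (mul_mem ha hb)).symm.trans ?_)
  calc a * b * (a * b) = a * (b * a) * b := by group
    _ = a * (a * b) * (e z (β a b) * b) := by rw [swap h ha hb]; group
    _ = a * a * (b * b) * e z (β a b) := by rw [← comm_e h hb]; group
    _ = _ := by rw [sq_eq h ha, sq_eq h hb, ← e_add h.sq, ← e_add h.sq]

theorem β_mul_z {a b : G} (hb : b ∈ Q) : β (a * z) b = β a b := by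
  have : a * z * b = b * (a * z) ↔ a * b = b * a := by
    rw [mul_assoc a z b, ← h.comm b hb, ← mul_assoc, ← mul_assoc, mul_left_inj]
  unfold β
  classical exact if_congr this rfl rfl

theorem sg_mul_z {a : G} (ha : a ∈ Q) : sg h (a * z) = sg h a := by
  have : a * z * (a * z) = a * a := by
    rw [mul_assoc a z (a * z), ← mul_assoc z a z, ← h.comm a ha, mul_assoc a z z, h.sq, mul_one]
  unfold sg
  classical exact if_congr (by rw [this]) rfl rfl

/-- The centre as a subgroup of `Q`. -/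
def Zs (_h : CentralInvolution Q z) : Subgroup Q := (Subgroup.zpowers z).subgroupOf Q

instance Zs_normal : (Zs h).Normal := ⟨fun x hx g => by
  rw [Zs, Subgroup.mem_subgroupOf, h.mem_zpowers_iff] at hx ⊢
  show (g : G) * x * (g : G)⁻¹ = 1 ∨ (g : G) * x * (g : G)⁻¹ = z
  rcases hx with e' | e'
  · left; rw [e', mul_one, mul_inv_cancel]
  · right; rw [e', h.comm g g.2, mul_inv_cancel_right]⟩

omit h in
theorem quot_eq {h : CentralInvolution Q z} {x y : Q} :
    (QuotientGroup.mk x : Q ⧸ Zs h) = QuotientGroup.mk y ↔ (y : G) = x ∨ (y : G) = x * z := by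
  rw [QuotientGroup.eq, Zs, Subgroup.mem_subgroupOf, h.mem_zpowers_iff]
  show (x : G)⁻¹ * y = 1 ∨ (x : G)⁻¹ * y = z ↔ _
  rw [inv_mul_eq_iff_eq_mul, mul_one, inv_mul_eq_iff_eq_mul]

theorem quot_comm (x y : Q ⧸ Zs h) : x * y = y * x := by
  induction x using QuotientGroup.induction_on with
  | H a =>
    induction y using QuotientGroup.induction_on with
    | H b =>
      refine quot_eq.2 ?_
      show (b : G) * a = (a : G) * b ∨ (b : G) * a = (a : G) * b * z
      rw [swap h a.2 b.2]
      rcases z2cases (β (a : G) b) with r | r <;> rw [r] <;> simp [e]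

/-- The quotient as an additive group. -/
def U (h : CentralInvolution Q z) : Type _ := Additive (Q ⧸ Zs h)

noncomputable instance : AddCommGroup (U h) :=
  { (inferInstance : AddGroup (Additive (Q ⧸ Zs h))) with add_comm := fun x y => quot_comm h x y }

/-- The class of an element. -/
noncomputable def mk (a : G) : U h := by
  classical exact if ha : a ∈ Q then Additive.ofMul (QuotientGroup.mk ⟨a, ha⟩) else 0

theorem mk_of_mem {a : G} (ha : a ∈ Q) : mk h a = Additive.ofMul (QuotientGroup.mk (s := Zs h) ⟨a, ha⟩) :=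
  dif_pos ha

theorem mk_mul {a b : G} (ha : a ∈ Q) (hb : b ∈ Q) : mk h (a * b) = mk h a + mk h b := by
  rw [mk_of_mem h ha, mk_of_mem h hb, mk_of_mem h (mul_mem ha hb)]
  rfl

theorem mk_eq {a b : G} (ha : a ∈ Q) (hb : b ∈ Q) : mk h a = mk h b ↔ b = a ∨ b = a * z := by
  rw [mk_of_mem h ha, mk_of_mem h hb]
  exact (Additive.ofMul (α := Q ⧸ Zs h)).injective.eq_iff.trans quot_eq

/-- A representative. -/
noncomputable def rep (u : U h) : G := ((Quotient.out (Additive.toMul u : Q ⧸ Zs h) : Q) : G)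

theorem rep_mem (u : U h) : rep h u ∈ Q := SetLike.coe_mem _

theorem mk_rep (u : U h) : mk h (rep h u) = u := by
  rw [mk_of_mem h (rep_mem h u)]
  exact congrArg Additive.ofMul (QuotientGroup.out_eq' (Additive.toMul u : Q ⧸ Zs h))

theorem exists_rep (u : U h) : ∃ a ∈ Q, mk h a = u := ⟨_, rep_mem h u, mk_rep h u⟩

theorem mk_one : mk h 1 = 0 := by
  rw [mk_of_mem h (one_mem _)]
  rfl

theorem mk_eq_zero {a : G} (ha : a ∈ Q) : mk h a = 0 ↔ a = 1 ∨ a = z := by
  rw [← mk_one h, eq_comm, mk_eq h (one_mem _) ha, one_mul]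

/-- The induced action. -/
noncomputable def act' (m : G) (u : U h) : U h := mk h (m * rep h u * m⁻¹)

/-- The quadratic form. -/
noncomputable def qf (u : U h) : ZMod 2 := sg h (rep h u)

/-- The commutator form. -/
noncomputable def bf (u v : U h) : ZMod 2 := β (rep h u) (rep h v)

theorem qf_mk {a : G} (ha : a ∈ Q) : qf h (mk h a) = sg h a := by
  rcases (mk_eq h ha (rep_mem h _)).1 (mk_rep h (mk h a)).symm with r | r <;> simp only [qf, r]
  exact sg_mul_z h ha

omit h in
theorem β_comm (a b : G) : β a b = β b a := by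
  unfold β
  classical exact if_congr eq_comm rfl rfl

theorem bf_mk {a b : G} (ha : a ∈ Q) (hb : b ∈ Q) : bf h (mk h a) (mk h b) = β a b := by
  simp only [bf]
  rcases (mk_eq h ha (rep_mem h _)).1 (mk_rep h (mk h a)).symm with r | r <;>
    rcases (mk_eq h hb (rep_mem h _)).1 (mk_rep h (mk h b)).symm with s | s <;> rw [r, s]
  · rw [β_comm, β_mul_z h ha, β_comm]
  · rw [β_mul_z h hb]
  · rw [β_mul_z h (mul_mem hb h.mem), β_comm, β_mul_z h ha, β_comm]

end Coord

open Coord Tensor in
/-- The coordinates exist. -/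
theorem exists_frame {G : Type*} [Group G] [Finite G] {z : G} {Q : Subgroup G}
    (S : Cfsg.Agent.LargeExtra.Setting z Q 4)
    (π : ↥(Subgroup.centralizer ({z} : Set G)) →* Equiv.Perm (Fin 3) × Equiv.Perm (Fin 6))
    (hker : ∀ m, π m = 1 ↔ (m : G) ∈ Q)
    (hA : ∀ s : Equiv.Perm (Fin 3), ∀ a ∈ alternatingGroup (Fin 6), (s, a) ∈ π.range)
    (hfix : ∀ d, π d = (finRotate 3, 1) → ∀ a ∈ Q,
      ((d : G) * a * (d : G)⁻¹ = a ∨ (d : G) * a * (d : G)⁻¹ = a * z) → a = 1 ∨ a = z) :
    ∃ χ, Frame z Q χ := by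
  classical
  have h := S.ci
  have hzc : ∀ m : ↥(Subgroup.centralizer ({z} : Set G)), (m : G) * z = z * (m : G) := fun m =>
    Subgroup.mem_centralizer_singleton_iff.1 m.2
  have conjz : ∀ m : G, m * z = z * m → m * z * m⁻¹ = z := fun m hm => by rw [hm, mul_inv_cancel_right]
  have act_mk : ∀ m : G, m * z = z * m → ∀ a ∈ Q, act' h m (mk h a) = mk h (m * a * m⁻¹) := by
    intro m hm a ha
    refine ((mk_eq h (S.norm m hm a ha) (S.norm m hm _ (rep_mem h _))).2 ?_).symm
    rcases (mk_eq h ha (rep_mem h _)).1 (mk_rep h (mk h a)).symm with r | r <;> rw [r]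
    · exact Or.inl rfl
    · right
      conv_rhs => arg 2; rw [← conjz m hm]
      group
  have actmul : ∀ m n : G, m * z = z * m → n * z = z * n → ∀ u, act' h (m * n) u = act' h m (act' h n u) := by
    intro m n hm hn u
    obtain ⟨a, ha, rfl⟩ := exists_rep h u
    rw [act_mk n hn a ha, act_mk m hm _ (S.norm n hn a ha),
      act_mk _ (by rw [mul_assoc, hn, ← mul_assoc, hm, mul_assoc]) a ha]
    congr 1
    group
  have actQ : ∀ m ∈ Q, ∀ u, act' h m u = u := by
    intro m hm u
    obtain ⟨a, ha, rfl⟩ := exists_rep h u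
    rw [act_mk m (h.comm m hm) a ha]
    refine ((mk_eq h ha (mul_mem (mul_mem hm ha) (inv_mem hm))).2 ?_).symm
    exact h.conj_cases hm ha
  have memQ : ∀ m : G, m * z = z * m → (∀ u, act' h m u = u) → m ∈ Q := by
    intro m hm htriv
    let φ : ↥Q ≃* ↥Q :=
      { toFun := fun a => ⟨m * a * m⁻¹, S.norm m hm a a.2⟩
        invFun := fun a => ⟨m⁻¹ * a * m, by
          have hm' : m⁻¹ * z = z * m⁻¹ := by
            rw [eq_comm, eq_inv_mul_iff_mul_eq, ← mul_assoc, hm, mul_inv_cancel_right]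
          simpa using S.norm m⁻¹ hm' a a.2⟩
        left_inv := fun a => Subtype.ext (by show m⁻¹ * (m * (a : G) * m⁻¹) * m = a; group)
        right_inv := fun a => Subtype.ext (by show m * (m⁻¹ * (a : G) * m) * m⁻¹ = a; group)
        map_mul' := fun a b => Subtype.ext (by
          show m * ((a : G) * b) * m⁻¹ = m * a * m⁻¹ * (m * b * m⁻¹); group) }
    haveI : Fact (Nat.Prime 2) := ⟨Nat.prime_two⟩
    have hzcen : (⟨z, h.mem⟩ : ↥Q) ∈ Subgroup.center ↥Q :=
      Subgroup.mem_center_iff.2 fun g => Subtype.ext (h.comm g g.2)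
    obtain ⟨g, hg⟩ := Cfsg.Agent.PGroup.extraspecial_exists_conj h.extra φ (fun x => by
      have hx := htriv (mk h (x : G))
      rw [act_mk m hm _ x.2] at hx
      rcases (mk_eq h (S.norm m hm _ x.2) x.2).1 hx with r | r
      · have : x⁻¹ * φ x = 1 := Subtype.ext (by
          show (x : G)⁻¹ * (m * (x : G) * m⁻¹) = 1
          rw [← r, inv_mul_cancel])
        rw [this]; exact one_mem _
      · have e1 : m * (x : G) * m⁻¹ = (x : G) * z := by
          conv_rhs => rw [r, mul_assoc, h.sq, mul_one]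
        have : x⁻¹ * φ x = ⟨z, h.mem⟩ := Subtype.ext (by
          show (x : G)⁻¹ * (m * (x : G) * m⁻¹) = z
          rw [e1, inv_mul_cancel_left])
        rw [this]; exact hzcen)
    have hc : (g : G)⁻¹ * m ∈ Q := S.self (by
      intro a ha
      have e2 : φ ⟨a, ha⟩ = g * ⟨a, ha⟩ * g⁻¹ := by rw [hg]; rfl
      have e3 : m * a * m⁻¹ = (g : G) * a * (g : G)⁻¹ := congrArg Subtype.val e2
      calc a * ((g : G)⁻¹ * m) = (g : G)⁻¹ * ((g : G) * a * (g : G)⁻¹) * m := by group
        _ = (g : G)⁻¹ * (m * a * m⁻¹) * m := by rw [e3]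
        _ = (g : G)⁻¹ * m * a := by group)
    simpa using mul_mem g.2 hc
  let α : P → U h → U h := fun p u =>
    if hp : p ∈ π.range then act' h ((MonoidHom.mem_range.1 hp).choose : G) u else u
  have hα : ∀ m u, α (π m) u = act' h (m : G) u := by
    intro m u
    have hp : π m ∈ π.range := ⟨m, rfl⟩
    simp only [α, dif_pos hp]
    set n := (MonoidHom.mem_range.1 hp).choose with hn'
    have hn : π n = π m := (MonoidHom.mem_range.1 hp).choose_spec
    have hq : (m : G)⁻¹ * (n : G) ∈ Q := (hker (m⁻¹ * n)).1 (by rw [map_mul, map_inv, hn, inv_mul_cancel])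
    have e : (n : G) = (m : G) * ((m : G)⁻¹ * (n : G)) := by group
    rw [e, actmul _ _ (hzc m) (h.comm _ hq), actQ _ hq]
  have D : Tensor.Data (qf h) (bf h) π.range α := by
    refine ⟨?_, ?_, ?_, ?_, ?_, hA, ?_, ?_, ?_, ?_, ?_, ?_⟩
    · have hc := Subgroup.card_eq_card_quotient_mul_card_subgroup (Zs h)
      have h2 : Nat.card (Zs h) = 2 := by
        rw [Coord.Zs, Nat.card_congr (Subgroup.subgroupOfEquivOfLe
          (Subgroup.zpowers_le.2 h.mem)).toEquiv, Nat.card_zpowers, h.order_two]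
      rw [S.card, h2] at hc
      have : Nat.card (U h) = Nat.card (↥Q ⧸ Zs h) := Nat.card_congr Additive.toMul
      omega
    · intro u
      obtain ⟨a, ha, rfl⟩ := exists_rep h u
      rw [← mk_mul h ha ha, mk_eq_zero h (mul_mem ha ha)]
      exact h.sq_mem ha
    · intro u v
      obtain ⟨a, ha, rfl⟩ := exists_rep h u
      obtain ⟨b, hb, rfl⟩ := exists_rep h v
      rw [← mk_mul h ha hb, qf_mk h (mul_mem ha hb), qf_mk h ha, qf_mk h hb, bf_mk h ha hb, sg_mul h ha hb]
    · intro u v w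
      obtain ⟨a, ha, rfl⟩ := exists_rep h u
      obtain ⟨b, hb, rfl⟩ := exists_rep h v
      obtain ⟨c, hc, rfl⟩ := exists_rep h w
      rw [← mk_mul h ha hb, bf_mk h (mul_mem ha hb) hc, bf_mk h ha hc, bf_mk h hb hc, β_add_left h ha hb hc]
    · intro u hu
      obtain ⟨a, ha, rfl⟩ := exists_rep h u
      refine (mk_eq_zero h ha).2 (h.of_central a ha fun b hb => ?_)
      have e := hu (mk h b)
      rw [bf_mk h ha hb] at e
      have := swap h ha hb
      rw [e] at this
      simpa [Coord.e] using this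
    · rintro _ ⟨m, rfl⟩ _ ⟨n, rfl⟩ u
      rw [← map_mul, hα, hα, hα]
      exact actmul _ _ (hzc m) (hzc n) u
    · intro u
      rw [← map_one π, hα]
      exact actQ _ (one_mem _) u
    · rintro _ ⟨m, rfl⟩ u v
      obtain ⟨a, ha, rfl⟩ := exists_rep h u
      obtain ⟨b, hb, rfl⟩ := exists_rep h v
      have na := S.norm _ (hzc m) a ha
      have nb := S.norm _ (hzc m) b hb
      rw [← mk_mul h ha hb, hα, hα, hα, act_mk _ (hzc m) _ (mul_mem ha hb), act_mk _ (hzc m) _ ha,
        act_mk _ (hzc m) _ hb, ← mk_mul h na nb]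
      congr 1
      group
    · rintro _ ⟨m, rfl⟩ u
      obtain ⟨a, ha, rfl⟩ := exists_rep h u
      rw [hα, act_mk _ (hzc m) _ ha, qf_mk h (S.norm _ (hzc m) a ha), qf_mk h ha]
      have : (m : G) * a * (m : G)⁻¹ * ((m : G) * a * (m : G)⁻¹) = 1 ↔ a * a = 1 := by
        rw [show (m : G) * a * (m : G)⁻¹ * ((m : G) * a * (m : G)⁻¹) = (m : G) * (a * a) * (m : G)⁻¹ by group]
        exact conj_eq_one_iff
      unfold Coord.sg
      exact if_congr this rfl rfl
    · rintro _ ⟨m, rfl⟩ hfix'
      exact (hker m).2 (memQ _ (hzc m) fun u => (hα m u).symm.trans (hfix' u))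
    · intro u hu
      obtain ⟨d, hd⟩ := hA (finRotate 3) 1 (one_mem _)
      obtain ⟨a, ha, rfl⟩ := exists_rep h u
      rw [show pD = π d from hd.symm, hα, act_mk _ (hzc d) _ ha] at hu
      exact (mk_eq_zero h ha).2 (hfix d hd a ha ((mk_eq h ha (S.norm _ (hzc d) a ha)).1 hu.symm))
  obtain ⟨Φ, hbij, hadd, hq, hB, hD, hT, hall, hP⟩ := D.exists_model
  let Ψ : V ≃ U h := Equiv.ofBijective Φ hbij
  have hΦΨ : ∀ u, Φ (Ψ.symm u) = u := fun u => Ψ.apply_symm_apply u
  let χ : G → V := fun a => Ψ.symm (mk h a)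
  have hχ : ∀ a, Φ (χ a) = mk h a := fun a => hΦΨ _
  have acts : ∀ (m : ↥(Subgroup.centralizer ({z} : Set G))) (k : K) (g : W → W),
      Data.Inter Φ α (π m) k g → Acts Q χ (m : G) k g := by
    intro m k g hi a ha
    apply hbij.1
    rw [hχ, ← hi, hχ, hα, act_mk _ (hzc m) a ha]
  have real : ∀ p ∈ π.range, ∀ (k : K) (g : W → W), Data.Inter Φ α p k g → Real z Q χ k g := by
    rintro _ ⟨m, rfl⟩ k g hi
    exact ⟨m, hzc m, acts m k g hi⟩
  refine ⟨χ, S, ?_, ?_, ?_, ?_, ?_, ?_, ?_, real _ D.memD _ _ hD, ?_, Or.inl (real _ D.memT _ _ hT)⟩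
  · intro a ha b hb
    apply hbij.1
    rw [hadd, hχ, hχ, hχ, mk_mul h ha hb]
  · intro v
    obtain ⟨a, ha, e⟩ := exists_rep h (Φ v)
    exact ⟨a, ha, hbij.1 (by rw [hχ, e])⟩
  · intro a ha
    rw [← mk_eq_zero h ha, ← hχ a]
    constructor
    · intro e
      rw [e]
      have := hadd 0 0
      rw [add_zero] at this
      exact left_eq_add.mp this
    · intro e
      apply hbij.1
      rw [e]
      have := hadd 0 0
      rw [add_zero] at this
      exact (left_eq_add.mp this).symm
  · intro a ha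
    rw [← hq, hχ, qf_mk h ha]
    simp [Coord.sg]
  · intro a ha b hb
    rw [← hB, hχ, hχ, bf_mk h ha hb]
    simp [Coord.β]
  · intro m hm
    obtain ⟨k, g, hk, hg, hi⟩ := hall _ ⟨⟨m, Subgroup.mem_centralizer_singleton_iff.2 hm⟩, rfl⟩
    exact ⟨k, g, hk, hg, acts ⟨m, Subgroup.mem_centralizer_singleton_iff.2 hm⟩ k g hi⟩
  · intro m hm ha
    refine memQ m hm fun u => ?_
    obtain ⟨a, haQ, rfl⟩ := exists_rep h u
    rw [act_mk m hm a haQ, ← hχ, ← hχ a, ha a haQ, act, appK_one]
    rfl
  · intro u v huv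
    obtain ⟨p, hp, hi⟩ := hP u v huv
    exact real p hp _ _ hi

end Cfsg.Agent.H49
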