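import Cfsg.Agent.H49.Top
import Cfsg.Agent.H49.Tensor
import Cfsg.Agent.H49.NoFix
import Cfsg.Agent.H49.Final
import Cfsg.Agent.H49.Commutators

/-!
A centraliser of shape `2^{1+8}.(S3 × A6)` or `2^{1+8}.(S3 × S6)` in a simple group is impossible.
-/

set_option autoImplicit false

namespace Cfsg.Agent.H49

open Cfsg

theorem not_simple_of_hom {G : Type*} [Group G] [Finite G] [IsSimpleGroup G] (z : G)
    (hz : orderOf z = 2)
    (hQ : Cfsg.IsExtraspecial 2 ↥(Cfsg.pCore 2 ↥(Subgroup.centralizer ({z} : Set G))))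
    (hQ9 : Nat.card ↥(Cfsg.pCore 2 ↥(Subgroup.centralizer ({z} : Set G))) = 2 ^ 9)
    (hCQ : Subgroup.centralizer ((Cfsg.pCore 2 ↥(Subgroup.centralizer ({z} : Set G))) :
        Set ↥(Subgroup.centralizer ({z} : Set G))) ≤ Cfsg.pCore 2 ↥(Subgroup.centralizer ({z} : Set G)))
    (π : ↥(Subgroup.centralizer ({z} : Set G)) →* Equiv.Perm (Fin 3) × Equiv.Perm (Fin 6))
    (hker : ∀ m, π m = 1 ↔ m ∈ Cfsg.pCore 2 ↥(Subgroup.centralizer ({z} : Set G)))
    (hA : ∀ s : Equiv.Perm (Fin 3), ∀ a ∈ alternatingGroup (Fin 6), (s, a) ∈ π.range) : False := by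
  have ht : ∃ p ∈ π.range, Equiv.Perm.sign p.1 = -1 :=
    ⟨(Equiv.swap 0 1, 1), hA _ 1 (one_mem _), Equiv.Perm.sign_swap (by decide)⟩
  have hd : ∃ m, π m = (finRotate 3, 1) := hA _ 1 (one_mem _)
  obtain ⟨S, hfus⟩ := setting_fusion hz hQ hQ9 hCQ π hd ht
  have hker' : ∀ m, π m = 1 ↔ (m : G) ∈ (Cfsg.pCore 2 ↥(Subgroup.centralizer ({z} : Set G))).map
      (Subgroup.centralizer ({z} : Set G)).subtype := fun m => by
    rw [hker]
    exact ⟨fun h => ⟨m, h, rfl⟩, fun ⟨n, hn, e⟩ => (Subtype.ext e : n = m) ▸ hn⟩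
  obtain ⟨χ, F⟩ := exists_frame S π hker' hA
    (fix_of_fusion S π hker' (fun s _ a ha => hA s a ha) ht hfus)
  exact F.no_fusion_of (fun L az ad al bz bd bl => Lifts.comm_mem F L az ad al bz bd bl) hfus

end Cfsg.Agent.H49
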