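import Cfsg.Agent.H49.Core

/-!
The lifts, and a choice of the conjugate whose side group contains the fours group.
-/

set_option autoImplicit false
set_option linter.unusedSectionVars false

namespace Cfsg.Agent.H49

open Cfsg.Agent.LargeExtra
open Cfsg.Agent.H49.Frame (side)

variable {G : Type*} [Group G] [Finite G] {z x g : G} {Q : Subgroup G} {χ : G → V}

theorem Frame.small (F : Frame z Q χ) {d a : G} (hd : Acts Q χ d kD id) (haz : a * z = z * a)
    (had : a * d = d * a) (aa : Acts Q χ a oneK id) : a = 1 ∨ a = z :=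
  F.fix_d hd (F.mem_of_acts a haz aa) had

theorem sG_rVd_sq : (sG ∘ rV vd) ∘ (sG ∘ rV vd) = rV vc := funext fun y => (sG_facts y).2.2.2.1

theorem rho_four : (rhoG ∘ rhoG) ∘ (rhoG ∘ rhoG) = rhoG :=
  funext fun y => by
    simp only [Function.comp]
    exact congrArg rhoG (rho_cycle y).2.2.2.1

theorem IsPair.exists_lifts (F : Frame z Q χ) (hP : IsPair z Q g x) (hx : χ x = (vb, 0)) :
    ∃ g' x' d s r l0 l1, IsPair z Q g' x' ∧ χ x' = (vb, 0) ∧ Lifts z Q χ d s r l0 l1 ∧
      l0 ∈ side Q g' ∧ l1 ∈ side Q g' ∧ r * x' = x' * r ∧ r * l1 * r⁻¹ = l0 * l1 := by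
  classical
  obtain ⟨d, hdz, hd3, hd⟩ := F.exists_d
  have hc1 : mulK oneK kD = mulK kD oneK := by decide
  obtain ⟨h, hhz, hhd, ah⟩ := F.lift_d hdz hd3 hd (symp_sG.comp (symp_rV vd)) detK_one hc1
    (by simpa [oneK_mul] using F.real_mul symp_sG F.real_sG F.real_rVd)
  obtain ⟨r0, hr0z, hr0d, ar0⟩ := F.lift_d hdz hd3 hd symp_rhoG detK_one hc1 F.real_rhoG
  obtain ⟨s, hsz, hsd, as⟩ := F.lift_d hdz hd3 hd symp_sG detK_one hc1 F.real_sG
  have hxx := hP.mem
  -- squares of elements fixing `χ x` fix `x`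
  have sqfix : ∀ m : G, ∀ k : W → W, Symp k → m * z = z * m → Acts Q χ m oneK k → k vb = vb →
      (m * m) * x = x * (m * m) := by
    intro m k hk hm am hb
    have e : χ (m * x * m⁻¹) = χ x := by
      rw [am x hxx, hx, act_one, hk.zero, hb]
    rcases F.eq_or_mul hxx (F.setting.norm m hm x hxx) e.symm with r | r
    · exact (Commute.mul_left (mul_inv_eq_iff_eq_mul.1 r) (mul_inv_eq_iff_eq_mul.1 r) : _)
    · have r' : m * m * x * (m * m)⁻¹ = x := by
        calc m * m * x * (m * m)⁻¹ = (m * (m * x * m⁻¹) * m⁻¹) := by group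
          _ = m * (x * z) * m⁻¹ := by rw [r]
          _ = (m * x * m⁻¹) * (m * z * m⁻¹) := by group
          _ = x * z * z := by rw [r, hm, mul_inv_cancel_right]
          _ = x := by rw [mul_assoc, F.setting.ci.sq, mul_one]
      exact mul_inv_eq_iff_eq_mul.1 r'
  have hsG : sG vb = vb := (sG_facts 0).2.2.2.2
  have hrho : rhoG vb = vb := (rho_cycle 0).2.2.2.2.2
  set u := h * h with hu
  have huz : u * z = z * u := (Commute.mul_left hhz hhz : _)
  have hud : u * d = d * u := (Commute.mul_left hhd hhd : _)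
  have au : Acts Q χ u oneK (rV vc) := by
    have := F.acts_mul hhz (symp_sG.comp (symp_rV vd)) ah ah
    rwa [oneK_mul, sG_rVd_sq] at this
  have hux : u * x = x * u := sqfix h _ (symp_sG.comp (symp_rV vd)) hhz ah (by decide +kernel)
  have huu : u * u = 1 ∨ u * u = z := by
    refine F.small hd (Commute.mul_left huz huz) (Commute.mul_left hud hud) ?_
    have := F.acts_mul huz (symp_rV vc) au au
    rwa [oneK_mul, show rV vc ∘ rV vc = id from funext (rV_invol vc (by simp))] at this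
  set r := (r0 * r0) * (r0 * r0) with hr
  have hr2z : (r0 * r0) * z = z * (r0 * r0) := (Commute.mul_left hr0z hr0z : _)
  have hrz : r * z = z * r := (Commute.mul_left hr2z hr2z : _)
  have hrd : r * d = d * r :=
    (Commute.mul_left (Commute.mul_left hr0d hr0d) (Commute.mul_left hr0d hr0d) : _)
  have a2 : Acts Q χ (r0 * r0) oneK (rhoG ∘ rhoG) := by
    have := F.acts_mul hr0z symp_rhoG ar0 ar0
    rwa [oneK_mul] at this
  have ar : Acts Q χ r oneK rhoG := by
    have := F.acts_mul hr2z (symp_rhoG.comp symp_rhoG) a2 a2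
    rwa [oneK_mul, rho_four] at this
  have hrx : r * x = x * r := by
    have := sqfix r0 _ symp_rhoG hr0z ar0 hrho
    exact (Commute.mul_left this this : _)
  obtain ⟨q, hq, hqx⟩ := F.setting.ci.exists_swap hxx (hP.x_ne_one F) hP.ne
  obtain ⟨g', x', hP', hx', hmem, hrx'⟩ : ∃ g' x', IsPair z Q g' x' ∧ χ x' = (vb, 0) ∧
      u ∈ side Q g' ∧ r * x' = x' * r := by
    rcases hP.mem_side_or F hx huz hux au huu hq hqx with e | e
    · exact ⟨g, x, hP, hx, e, hrx⟩
    · refine ⟨q * g, x * z, ⟨?_, mul_mem hxx F.setting.ci.mem, ?_⟩, ?_, e,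
        (Commute.mul_right hrx hrz : _)⟩
      · rw [← hqx, ← hP.eq]; group
      · exact fun e' => hP.x_ne_one F (mul_eq_right.1 e')
      · rw [F.map_mul _ hxx _ F.setting.ci.mem, hx, F.map_z, add_zero]
  have F' := hP'.frame F
  -- the elements of the side group in the centraliser
  have hdx : x' * d ≠ d * x' := fun e => by
    rcases F.fix_d hd hP'.mem e with e' | e'
    · exact hP'.x_ne_one F e'
    · exact hP'.ne e'
  have sq1 : ∀ a ∈ side Q g', a * d = d * a → a * a = 1 := by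
    intro a ha had
    rcases F'.setting.ci.sq_mem ha with e | e
    · exact e
    · exact absurd (e ▸ (Commute.mul_left had had : _)) hdx
  have cm1 : ∀ a ∈ side Q g', a * d = d * a → ∀ b ∈ side Q g', b * d = d * b → a * b = b * a := by
    intro a ha had b hb hbd
    rcases F'.setting.ci.comm_mem ha hb with e | e
    · exact mul_inv_eq_iff_eq_mul.1 (mul_inv_eq_one.1 e)
    · exact absurd (e ▸ (Commute.mul_left (Commute.mul_left (Commute.mul_left had hbd)
        (Commute.inv_left had)) (Commute.inv_left hbd) : _)) hdx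
  have hrzi : r⁻¹ * z = z * r⁻¹ := (Commute.inv_left hrz : _)
  have hrdi : r⁻¹ * d = d * r⁻¹ := (Commute.inv_left hrd : _)
  have ari : Acts Q χ r⁻¹ oneK (rhoG ∘ rhoG) ∧ (r * (r * r) = 1 ∨ r * (r * r) = z) := by
    have a22 := F.acts_mul hrz symp_rhoG ar ar
    rw [oneK_mul] at a22
    have a33 := F.acts_mul (Commute.mul_left hrz hrz : _) symp_rhoG ar a22
    rw [oneK_mul, show rhoG ∘ (rhoG ∘ rhoG) = id from funext fun y => (rho_cycle y).2.2.2.1] at a33
    have h3 := F.small hd (Commute.mul_left hrz (Commute.mul_left hrz hrz))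
      (Commute.mul_left hrd (Commute.mul_left hrd hrd)) a33
    refine ⟨?_, h3⟩
    have hq3 : (r * (r * r))⁻¹ ∈ Q := by
      rcases h3 with e | e <;> rw [e]
      · simp
      · rw [F.setting.ci.inv_eq]; exact F.setting.ci.mem
    rw [show r⁻¹ = (r * (r * r))⁻¹ * (r * r) by group]
    have := F.acts_mul (m := (r * (r * r))⁻¹) (Commute.mul_left hrz hrz : _) Symp.id
      (F.acts_of_mem hq3) a22
    rwa [oneK_mul] at this
  obtain ⟨ari, hr3⟩ := ari
  have conjr : ∀ a, a ∈ side Q g' → a * z = z * a → a * d = d * a →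
      r * a * r⁻¹ ∈ side Q g' ∧ r * a * r⁻¹ * z = z * (r * a * r⁻¹) ∧
      r * a * r⁻¹ * d = d * (r * a * r⁻¹) := fun a ha haz had =>
    ⟨F'.setting.norm r hrx' a ha, (Commute.mul_left (Commute.mul_left hrz haz) hrzi : _),
      (Commute.mul_left (Commute.mul_left hrd had) hrdi : _)⟩
  have actr : ∀ a k, Symp k → a * z = z * a → Acts Q χ a oneK k →
      Acts Q χ (r * a * r⁻¹) oneK (rhoG ∘ k ∘ rhoG ∘ rhoG) := by
    intro a k hk haz aa
    have := F.acts_mul haz symp_rhoG ar aa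
    rw [oneK_mul] at this
    have := F.acts_mul (m := r * a) hrzi (symp_rhoG.comp hk) this ari
    rwa [oneK_mul] at this
  set u1 := r * u * r⁻¹ with hu1
  obtain ⟨m1, z1, d1⟩ := conjr u hmem huz hud
  have au1 : Acts Q χ u1 oneK (rV vd) := by
    have := actr u _ (symp_rV vc) huz au
    rwa [show rhoG ∘ rV vc ∘ rhoG ∘ rhoG = rV vd from funext fun y => (rho_cycle y).1] at this
  obtain ⟨m2, z2, d2⟩ := conjr u1 m1 z1 d1
  set u2 := r * u1 * r⁻¹ with hu2
  have hu3 : r * u2 * r⁻¹ = u := by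
    rw [hu2, hu1, show r * (r * (r * u * r⁻¹) * r⁻¹) * r⁻¹ =
      (r * (r * r)) * u * (r * (r * r))⁻¹ by group]
    rcases hr3 with e | e <;> rw [e]
    · simp
    · rw [← huz, mul_inv_cancel_right]
  have ml2 : u1 * u ∈ side Q g' := mul_mem m1 hmem
  have zl2 : (u1 * u) * z = z * (u1 * u) := (Commute.mul_left z1 huz : _)
  have dl2 : (u1 * u) * d = d * (u1 * u) := (Commute.mul_left d1 hud : _)
  have al2 : Acts Q χ (u1 * u) oneK (rV (vc + vd)) := by
    have := F.acts_mul huz (symp_rV vd) au1 au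
    rw [oneK_mul] at this
    rwa [show rV vd ∘ rV vc = rV (vc + vd) from funext (by decide +kernel)] at this
  set l0 := r * (u1 * u) * r⁻¹ with hl0
  obtain ⟨ml0, zl0, dl0⟩ := conjr _ ml2 zl2 dl2
  have al0 : Acts Q χ l0 oneK (rV vc) := by
    have := actr _ _ (symp_rV _) zl2 al2
    rwa [show rhoG ∘ rV (vc + vd) ∘ rhoG ∘ rhoG = rV vc from
      funext fun y => (rho_cycle y).2.2.1] at this
  obtain ⟨ml1, zl1, dl1⟩ := conjr _ ml0 zl0 dl0
  set l1 := r * l0 * r⁻¹ with hl1
  have al1 : Acts Q χ l1 oneK (rV vd) := by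
    have := actr _ _ (symp_rV vc) zl0 al0
    rwa [show rhoG ∘ rV vc ∘ rhoG ∘ rhoG = rV vd from funext fun y => (rho_cycle y).1] at this
  have hsu : s * u * s⁻¹ = u ∨ s * u * s⁻¹ = u * z := by
    have hsi : s⁻¹ * z = z * s⁻¹ := (Commute.inv_left hsz : _)
    have hsdi : s⁻¹ * d = d * s⁻¹ := (Commute.inv_left hsd : _)
    have e : u⁻¹ = u * (u * u)⁻¹ := by group
    have a : Acts Q χ (s * u * s⁻¹ * u⁻¹) oneK id := by
      intro a ha
      have step : ∀ m k, Symp k → m * z = z * m → Acts Q χ m oneK k → (∀ y, k (k y) = y) →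
          ∀ b ∈ Q, χ (m⁻¹ * b * m) = act oneK k (χ b) := by
        intro m k hk hm am hkk b hb
        have hb' : m⁻¹ * b * m ∈ Q := by
          simpa using F.setting.norm m⁻¹ (Commute.inv_left hm : _) b hb
        have := am _ hb'
        rw [show m * (m⁻¹ * b * m) * m⁻¹ = b by group] at this
        rw [this, act_one, act_one, hkk, hkk]
      have hau : u⁻¹ * a * u ∈ Q := by
        simpa using F.setting.norm u⁻¹ (Commute.inv_left huz : _) a ha
      set a1 := u⁻¹ * a * u with ha1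
      have hbs : s⁻¹ * a1 * s ∈ Q := by simpa using F.setting.norm s⁻¹ hsi a1 hau
      rw [show s * u * s⁻¹ * u⁻¹ * a * (s * u * s⁻¹ * u⁻¹)⁻¹ =
        s * (u * (s⁻¹ * a1 * s) * u⁻¹) * s⁻¹ by rw [ha1]; group,
        as _ (F.setting.norm u huz _ hbs), au _ hbs,
        step s sG symp_sG hsz as (fun y => (sG_facts y).2.2.1) a1 hau, ha1,
        step u (rV vc) (symp_rV vc) huz au (fun y => rV_invol vc (by simp) y) a ha]
      simp only [act_one, id]
      rw [(sG_facts _).2.1, (sG_facts _).2.1, rV_invol vc (by simp), rV_invol vc (by simp)]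
    rcases F.small hd (Commute.mul_left (Commute.mul_left (Commute.mul_left hsz huz) hsi)
        (Commute.inv_left huz)) (Commute.mul_left (Commute.mul_left (Commute.mul_left hsd hud) hsdi)
        (Commute.inv_left hud)) a with e' | e'
    · exact Or.inl (mul_inv_eq_one.1 e')
    · exact Or.inr (by rw [mul_inv_eq_iff_eq_mul.1 e', huz])
  have hsr : ∃ ζ, (ζ = 1 ∨ ζ = z) ∧ s * r * s⁻¹ = r⁻¹ * ζ := by
    have hsi : s⁻¹ * z = z * s⁻¹ := (Commute.inv_left hsz : _)
    have hsdi : s⁻¹ * d = d * s⁻¹ := (Commute.inv_left hsd : _)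
    refine ⟨r * (s * r * s⁻¹), ?_, by group⟩
    refine F.small hd (Commute.mul_left hrz (Commute.mul_left (Commute.mul_left hsz hrz) hsi))
      (Commute.mul_left hrd (Commute.mul_left (Commute.mul_left hsd hrd) hsdi)) ?_
    intro a ha
    have hsa : s⁻¹ * a * s ∈ Q := by simpa using F.setting.norm s⁻¹ hsi a ha
    have hsv : χ (s⁻¹ * a * s) = act oneK sG (χ a) := by
      have := as _ hsa
      rw [show s * (s⁻¹ * a * s) * s⁻¹ = a by group] at this
      rw [this, act_one, act_one, (sG_facts _).2.2.1, (sG_facts _).2.2.1]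
    rw [show r * (s * r * s⁻¹) * a * (r * (s * r * s⁻¹))⁻¹ =
        r * (s * (r * (s⁻¹ * a * s) * r⁻¹) * s⁻¹) * r⁻¹ by group,
      ar _ (F.setting.norm s hsz _ (F.setting.norm r hrz _ hsa)),
      as _ (F.setting.norm r hrz _ hsa), ar _ hsa, hsv]
    simp only [act_one, id]
    rw [(sG_facts _).1, (sG_facts _).1, (rho_cycle _).2.2.2.1, (rho_cycle _).2.2.2.1]
  have hprod : l0 * l1 = u1 * u := by
    have e0 : l0 = u2 * u1 := by rw [hl0, hu2, hu1]; group
    have e1 : l1 = u * u2 := by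
      rw [hl1, e0, show r * (u2 * u1) * r⁻¹ = (r * u2 * r⁻¹) * (r * u1 * r⁻¹) by group, hu3]
    rw [e0, e1]
    calc u2 * u1 * (u * u2) = u2 * (u1 * u) * u2 := by group
      _ = (u1 * u) * (u2 * u2) := by rw [cm1 u2 m2 d2 _ ml2 dl2]; group
      _ = u1 * u := by rw [sq1 u2 m2 d2, mul_one]
  have hconj : s * l1 * s⁻¹ = l0 * l1 := by
    obtain ⟨ζ, hζ, hsr⟩ := hsr
    have hζr : ∀ a : G, a * z = z * a → ζ * a = a * ζ := by
      intro a ha
      rcases hζ with rfl | rfl
      · simp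
      · exact ha.symm
    have hζi : ζ * ζ = 1 := by
      rcases hζ with rfl | rfl
      · simp
      · exact F.setting.ci.sq
    have e1 : s * u1 * s⁻¹ = r⁻¹ * (s * u * s⁻¹) * r := by
      have hsus : ζ * (s * u * s⁻¹) = (s * u * s⁻¹) * ζ := hζr _
        (Commute.mul_left (Commute.mul_left hsz huz) (Commute.inv_left hsz) : _)
      calc s * u1 * s⁻¹ = (s * r * s⁻¹) * (s * u * s⁻¹) * (s * r * s⁻¹)⁻¹ := by rw [hu1]; group
        _ = r⁻¹ * (ζ * (s * u * s⁻¹)) * ζ⁻¹ * r := by rw [hsr]; group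
        _ = r⁻¹ * (s * u * s⁻¹) * r := by rw [hsus]; group
    have e2 : s * (u1 * u) * s⁻¹ = r⁻¹ * u * r * u := by
      rw [show s * (u1 * u) * s⁻¹ = (s * u1 * s⁻¹) * (s * u * s⁻¹) by group, e1]
      rcases hsu with e | e <;> rw [e]
      calc r⁻¹ * (u * z) * r * (u * z) = r⁻¹ * u * (z * r) * (u * z) := by group
        _ = r⁻¹ * u * r * (z * u) * z := by rw [← hrz]; group
        _ = r⁻¹ * u * r * u * (z * z) := by rw [← huz]; group
        _ = _ := by rw [F.setting.ci.sq, mul_one]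
    have e3 : r⁻¹ * u * r * u = l1 := by
      have : r⁻¹ * u * r = u2 := by rw [← hu3]; group
      rw [this, hl1, hl0, show r * (r * (u1 * u) * r⁻¹) * r⁻¹ =
        (r * (r * u1 * r⁻¹) * r⁻¹) * (r * (r * u * r⁻¹) * r⁻¹) by group, ← hu1, ← hu2, hu3,
        cm1 u hmem hud u2 m2 d2]
    rw [e3] at e2
    have hss : s * s = 1 ∨ s * s = z := by
      refine F.small hd (Commute.mul_left hsz hsz) (Commute.mul_left hsd hsd) ?_
      have := F.acts_mul hsz symp_sG as as
      rwa [oneK_mul, show sG ∘ sG = id from funext fun y => (sG_facts y).2.2.1] at this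
    calc s * l1 * s⁻¹ = (s * s) * (u1 * u) * (s * s)⁻¹ := by rw [← e2]; group
      _ = u1 * u := by
        rcases hss with e | e <;> rw [e]
        · simp
        · rw [← zl2, mul_inv_cancel_right]
      _ = l0 * l1 := hprod.symm
  refine ⟨g', x', d, s, r, l0, l1, hP', hx', ⟨hdz, hd3, hd, hsz, hsd, as, hrz, hrd, ar, zl0, dl0, al0,
    zl1, dl1, al1, sq1 l0 ml0 dl0, sq1 l1 ml1 dl1, cm1 l0 ml0 dl0 l1 ml1 dl1, rfl, hconj⟩, ml0, ml1,
    hrx', ?_⟩
  rw [hprod, hl1, hl0, show r * (r * (r * (u1 * u) * r⁻¹) * r⁻¹) * r⁻¹ =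
    (r * (r * r)) * (u1 * u) * (r * (r * r))⁻¹ by group]
  rcases hr3 with e | e <;> rw [e]
  · simp
  · rw [← zl2, mul_inv_cancel_right]

end Cfsg.Agent.H49
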