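import Mathlib

/-!
The tensor model: the symplectic space of dimension four over the field with two elements, its
double as the orthogonal space of plus type in dimension eight, and the finite facts about them.
-/

set_option autoImplicit false

namespace Cfsg.Agent.H49

/-- Coordinates along `b`, `c`, `f`, `d`, where `b,f` and `c,d` are the hyperbolic pairs. -/
abbrev W : Type := ZMod 2 × ZMod 2 × ZMod 2 × ZMod 2

/-- The symplectic form. -/
def om (x y : W) : ZMod 2 :=
  x.1 * y.2.2.1 + x.2.2.1 * y.1 + x.2.1 * y.2.2.2 + x.2.2.2 * y.2.1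

def vb : W := (1, 0, 0, 0)
def vc : W := (0, 1, 0, 0)
def vf : W := (0, 0, 1, 0)
def vd : W := (0, 0, 0, 1)

/-- The transvection along `u`. -/
def tv (u x : W) : W := x + om x u • u

abbrev V : Type := W × W

def qV (v : V) : ZMod 2 := om v.1 v.2
def BV (v w : V) : ZMod 2 := om v.1 w.2 + om v.2 w.1

/-- Two by two matrices over the field with two elements. -/
abbrev K : Type := ZMod 2 × ZMod 2 × ZMod 2 × ZMod 2

def appK (k : K) (v : V) : V :=
  (k.1 • v.1 + k.2.1 • v.2, k.2.2.1 • v.1 + k.2.2.2 • v.2)

def mulK (k l : K) : K :=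
  (k.1 * l.1 + k.2.1 * l.2.2.1, k.1 * l.2.1 + k.2.1 * l.2.2.2,
    k.2.2.1 * l.1 + k.2.2.2 * l.2.2.1, k.2.2.1 * l.2.1 + k.2.2.2 * l.2.2.2)

def detK (k : K) : ZMod 2 := k.1 * k.2.2.2 + k.2.1 * k.2.2.1

def oneK : K := (1, 0, 0, 1)
def kD : K := (0, 1, 1, 1)
def kT : K := (1, 1, 0, 1)

/-- The action of a pair. -/
def act (k : K) (g : W → W) (v : V) : V := appK k (g v.1, g v.2)

/-- Additive maps preserving the form. -/
structure Symp (g : W → W) : Prop where
  add : ∀ u v, g (u + v) = g u + g v
  form : ∀ u v, om (g u) (g v) = om u v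

def Sing (v : V) : Prop := v ≠ 0 ∧ qV v = 0
def Pure (v : V) : Prop := v ≠ 0 ∧ (v.1 = 0 ∨ v.2 = 0 ∨ v.1 = v.2)
def Rank2 (v : V) : Prop := v.1 ≠ 0 ∧ v.2 ≠ 0 ∧ v.1 ≠ v.2 ∧ om v.1 v.2 = 0

instance (v : V) : Decidable (Sing v) := inferInstanceAs (Decidable (_ ∧ _))
instance (v : V) : Decidable (Pure v) := inferInstanceAs (Decidable (_ ∧ _))
instance (v : V) : Decidable (Rank2 v) := inferInstanceAs (Decidable (_ ∧ _ ∧ _ ∧ _))

/-! ### Linear algebra -/

theorem z2cases (a : ZMod 2) : a = 0 ∨ a = 1 := by revert a; decide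

theorem om_add_left (x y z : W) : om (x + y) z = om x z + om y z := by
  simp only [om, Prod.fst_add, Prod.snd_add]; ring

theorem om_add_right (x y z : W) : om x (y + z) = om x y + om x z := by
  simp only [om, Prod.fst_add, Prod.snd_add]; ring

theorem om_comm (x y : W) : om x y = om y x := by simp only [om]; ring

theorem om_self (x : W) : om x x = 0 := by revert x; decide +kernel

theorem qV_add (v w : V) : qV (v + w) = qV v + qV w + BV v w := by
  simp only [qV, BV, Prod.fst_add, Prod.snd_add, om_add_left, om_add_right, om_comm v.2 w.1]; ring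

theorem BV_add_left (u v w : V) : BV (u + v) w = BV u w + BV v w := by
  simp only [BV, Prod.fst_add, Prod.snd_add, om_add_left]; ring

theorem appK_mul (k l : K) (v : V) : appK (mulK k l) v = appK k (appK l v) := by
  simp only [appK, mulK, smul_add, smul_smul, add_smul, Prod.mk.injEq]
  constructor <;> abel

theorem appK_one (v : V) : appK oneK v = v := by simp [appK, oneK]

theorem appK_add (k : K) (v w : V) : appK k (v + w) = appK k v + appK k w := by
  simp only [appK, Prod.fst_add, Prod.snd_add, smul_add, Prod.mk_add_mk, Prod.mk.injEq]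
  constructor <;> abel

namespace Symp

variable {g h : W → W}

theorem zero (hg : Symp g) : g 0 = 0 := by
  have e := hg.add 0 0
  rw [add_zero] at e
  exact left_eq_add.mp e

theorem smul (hg : Symp g) (a : ZMod 2) (u : W) : g (a • u) = a • g u := by
  rcases z2cases a with rfl | rfl
  · rw [zero_smul, zero_smul, hg.zero]
  · rw [one_smul, one_smul]

theorem id : Symp (fun x => x) := ⟨fun _ _ => rfl, fun _ _ => rfl⟩

theorem comp (hg : Symp g) (hh : Symp h) : Symp (g ∘ h) :=
  ⟨fun u v => by simp [Function.comp, hh.add, hg.add], fun u v => by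
    simp [Function.comp, hg.form, hh.form]⟩

theorem injective (hg : Symp g) : Function.Injective g := by
  intro u v e
  have key : ∀ w : W, (∀ y, om w y = 0) → w = 0 := by decide +kernel
  have h0 : ∀ y, om (u + v) y = 0 := fun y => by
    rw [← hg.form, hg.add, e, ← two_smul (ZMod 2), show (2 : ZMod 2) = 0 by decide, zero_smul]
    simp [om]
  have := key _ h0
  calc u = u + v + v := by
        rw [add_assoc, ← two_smul (ZMod 2) v, show (2 : ZMod 2) = 0 by decide, zero_smul, add_zero]
    _ = v := by rw [this, zero_add]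

end Symp

theorem symp_tv (u : W) : Symp (tv u) := by
  refine ⟨fun x y => ?_, fun x y => ?_⟩
  · simp only [tv, om_add_left, add_smul]; abel
  · revert x y u; decide +kernel

/-- A map with given images of the four basis vectors. -/
def lin (a b c d : W) (x : W) : W := x.1 • a + x.2.1 • b + x.2.2.1 • c + x.2.2.2 • d

theorem Symp.eq_lin {g : W → W} (hg : Symp g) : g = lin (g vb) (g vc) (g vf) (g vd) := by
  funext x
  conv_lhs => rw [show x = x.1 • vb + x.2.1 • vc + x.2.2.1 • vf + x.2.2.2 • vd by
    simp [vb, vc, vf, vd]]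
  simp only [hg.add, hg.smul, lin]

end Cfsg.Agent.H49
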