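import Cfsg.Agent.H49.Frame

/-!
The pair formed by the central involution `z` and a conjugate `x` of it in `Q`.
-/

set_option autoImplicit false
set_option linter.unusedSectionVars false
set_option linter.style.haveILetI false
set_option linter.ambiguousOpen false

namespace Cfsg.Agent.H49

open Cfsg.Agent.LargeExtra

theorem detK_mul (k l : K) : detK (mulK k l) = detK k * detK l := by
  obtain ⟨a, b, c, d⟩ := k
  obtain ⟨a', b', c', d'⟩ := l
  simp only [detK, mulK]
  revert a b c d a' b' c' d'; decide +kernel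

theorem oneK_mul (k : K) : mulK oneK k = k := by simp [mulK, oneK]

theorem detK_one : detK oneK = 1 := by decide

set_option synthInstance.maxSize 1024 in
set_option synthInstance.maxHeartbeats 200000 in
/-- Pairs with commuting square-trivial first components differing from the identity agree. -/
theorem K_pair_eq : ∀ k l : K, detK k = 1 → detK l = 1 → k ≠ oneK → l ≠ oneK →
    mulK k k = oneK → mulK l l = oneK → mulK (mulK k l) (mulK k l) = oneK → k = l := by
  decide +kernel

theorem act_one (g : W → W) (v : V) : act oneK g v = (g v.1, g v.2) := appK_one _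

/-- The pair is determined by its action. -/
theorem act_inj {k l : K} {g h : W → W} (hg : Symp g) (hh : Symp h) (hk : detK k = 1)
    (hl : detK l = 1) (e : ∀ v, act k g v = act l h v) : k = l ∧ g = h := by
  have hg0 := hg.zero
  have hh0 := hh.zero
  have key : ∀ (a b : ZMod 2), (∀ y, a • g y = b • h y) → a = b := by
    intro a b hab
    have hb0 : vb ≠ 0 := by decide
    rcases z2cases a with rfl | rfl <;> rcases z2cases b with rfl | rfl
    · rfl
    · exfalso
      have := hab vb
      rw [zero_smul, one_smul] at this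
      exact hb0 (hh.injective (this.symm.trans hh0.symm))
    · exfalso
      have := hab vb
      rw [zero_smul, one_smul] at this
      exact hb0 (hg.injective (this.trans hg0.symm))
    · rfl
  have e1 : ∀ y, k.1 • g y = l.1 • h y := fun y => by
    simpa [act, appK, hg0, hh0] using congrArg Prod.fst (e (y, 0))
  have e2 : ∀ y, k.2.1 • g y = l.2.1 • h y := fun y => by
    simpa [act, appK, hg0, hh0] using congrArg Prod.fst (e (0, y))
  have e3 : ∀ y, k.2.2.1 • g y = l.2.2.1 • h y := fun y => by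
    simpa [act, appK, hg0, hh0] using congrArg Prod.snd (e (y, 0))
  have e4 : ∀ y, k.2.2.2 • g y = l.2.2.2 • h y := fun y => by
    simpa [act, appK, hg0, hh0] using congrArg Prod.snd (e (0, y))
  have hkl : k = l := Prod.ext (key _ _ e1) (Prod.ext (key _ _ e2) (Prod.ext (key _ _ e3) (key _ _ e4)))
  subst hkl
  refine ⟨rfl, funext fun y => ?_⟩
  rcases z2cases k.1 with a | a
  · rcases z2cases k.2.1 with b | b
    · exfalso; simp [detK, a, b] at hk
    · simpa [b] using e2 y
  · simpa [a] using e1 y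

namespace Frame

variable {G : Type*} [Group G] [Finite G] {z : G} {Q : Subgroup G} {χ : G → V}

theorem centralizer_eq (F : Frame z Q χ) : Subgroup.centralizer (Q : Set G) = Subgroup.zpowers z := by
  refine le_antisymm (fun x hx => ?_) (Subgroup.zpowers_le.2 fun q hq => F.setting.ci.comm q hq)
  exact F.setting.ci.mem_zpowers_iff.2
    (F.setting.ci.of_central x (F.setting.self hx) fun q hq => hx q hq)

theorem centralizer_le (F : Frame z Q χ) :
    Subgroup.centralizer ({z} : Set G) ≤ Subgroup.normalizer (Q : Set G) := by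
  intro m hm
  have hm' := Subgroup.mem_centralizer_singleton_iff.1 hm
  refine Subgroup.mem_normalizer_iff.2 fun a => ⟨F.setting.norm m hm' a, fun h => ?_⟩
  have hmi : m⁻¹ * z = z * m⁻¹ := (Commute.inv_left hm' : _)
  have := F.setting.norm m⁻¹ hmi _ h
  simpa [mul_assoc] using this

/-- `Q'` and its intersection with `Q`. -/
def side (Q : Subgroup G) (g : G) : Subgroup G := Q.map (MulAut.conj g).toMonoidHom

end Frame

/-- The hypotheses on the conjugate `x = g z g⁻¹`. -/
structure IsPair {G : Type*} [Group G] (z : G) (Q : Subgroup G) (g x : G) : Prop where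
  eq : g * z * g⁻¹ = x
  mem : x ∈ Q
  ne : x ≠ z

namespace IsPair

open Frame

variable {G : Type*} [Group G] [Finite G] {z x g : G} {Q : Subgroup G} {χ : G → V}

theorem frame (F : Frame z Q χ) (hP : IsPair z Q g x) :
    Frame x (side Q g) (fun a => χ (g⁻¹ * a * g)) := hP.eq ▸ F.conj g

theorem z_mem (F : Frame z Q χ) (hP : IsPair z Q g x) : z ∈ side Q g :=
  mem_conj_of_conj_mem F.setting.ci F.centralizer_eq F.centralizer_le (w := 4) (by norm_num)
    F.setting.card (hP.eq.symm ▸ hP.mem) (hP.eq.symm ▸ hP.ne)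

theorem commute (F : Frame z Q χ) (hP : IsPair z Q g x) : x * z = z * x :=
  F.setting.ci.comm x hP.mem

theorem x_ne_one (F : Frame z Q χ) (hP : IsPair z Q g x) : x ≠ 1 :=
  (hP.frame F).setting.ci.ne_one

theorem x_sing (F : Frame z Q χ) (hP : IsPair z Q g x) : Sing (χ x) := by
  refine ⟨fun h => ?_, (F.sq x hP.mem).1 (hP.frame F).setting.ci.sq⟩
  rcases (F.ker x hP.mem).1 h with e | e
  · exact hP.x_ne_one F e
  · exact hP.ne e

theorem inter_comm (F : Frame z Q χ) (hP : IsPair z Q g x) {a b : G} (ha : a ∈ Q ⊓ side Q g)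
    (hb : b ∈ Q ⊓ side Q g) : a * b = b * a := by
  rw [Subgroup.mem_inf] at ha hb
  rcases F.setting.ci.comm_mem ha.1 hb.1 with e | e
  · exact mul_inv_eq_iff_eq_mul.1 (mul_inv_eq_one.1 e)
  · rcases (hP.frame F).setting.ci.comm_mem ha.2 hb.2 with e' | e'
    · exact absurd (e.symm.trans e') F.setting.ci.ne_one
    · exact absurd (e'.symm.trans e) hP.ne

theorem inter_sq (F : Frame z Q χ) (hP : IsPair z Q g x) {a : G} (ha : a ∈ Q ⊓ side Q g) :
    a * a = 1 := by
  rw [Subgroup.mem_inf] at ha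
  rcases F.setting.ci.sq_mem ha.1 with e | e
  · exact e
  · rcases (hP.frame F).setting.ci.sq_mem ha.2 with e' | e'
    · exact e'
    · exact absurd (e'.symm.trans e) hP.ne

theorem card_inter_le (F : Frame z Q χ) (hP : IsPair z Q g x) :
    Nat.card ↥(Q ⊓ side Q g) ≤ 32 := by
  haveI : Fact (Nat.Prime 2) := ⟨Nat.prime_two⟩
  have hle : Q ⊓ side Q g ≤ Q := inf_le_left
  haveI hab : IsMulCommutative ↥((Q ⊓ side Q g).subgroupOf Q) :=
    ⟨⟨fun a b => Subtype.ext (Subtype.ext (hP.inter_comm F a.2 b.2))⟩⟩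
  have h := Cfsg.Agent.PGroup.extraspecial_card_abelian_le F.setting.ci.extra (n := 4)
    F.setting.card hab
  rw [Nat.card_congr (Subgroup.subgroupOfEquivOfLe hle).toEquiv] at h
  simpa using h

/-- The commutator of `c` and `r` lies in the intersection. -/
theorem comm_inter (F : Frame z Q χ) (hP : IsPair z Q g x) {c r : G} (hc : c ∈ Q)
    (hcx : c * x = x * c) (hr : r ∈ side Q g) (hrz : r * z = z * r) :
    r * c * r⁻¹ * c⁻¹ ∈ Q ⊓ side Q g := by
  refine Subgroup.mem_inf.2 ⟨mul_mem (F.setting.norm r hrz c hc) (inv_mem hc), ?_⟩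
  rw [mul_assoc r c, mul_assoc]
  exact mul_mem hr ((hP.frame F).setting.norm c hcx _ (inv_mem hr))

/-- The value of the commutator. -/
theorem comm_value (F : Frame z Q χ) {c m : G} {k : K} {h : W → W} (hc : c ∈ Q)
    (hm : m * z = z * m) (am : Acts Q χ m k h) :
    χ (m * c * m⁻¹ * c⁻¹) = act k h (χ c) + χ c := by
  rw [F.map_mul _ (F.setting.norm m hm c hc) _ (inv_mem hc), F.map_inv hc, am c hc]

/-- Many elements of the side group centralising `z` act through the symplectic factor alone. -/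
theorem exists_two (F : Frame z Q χ) (hP : IsPair z Q g x) :
    ∃ r r' : G, ∃ h h' : W → W, r ∈ side Q g ∧ r * z = z * r ∧ r' ∈ side Q g ∧ r' * z = z * r' ∧
      Symp h ∧ Symp h' ∧ Acts Q χ r oneK h ∧ Acts Q χ r' oneK h' ∧ h ≠ id ∧ h' ≠ id ∧ h ≠ h' := by
  classical
  have F' := hP.frame F
  have hzQ := hP.z_mem F
  set S : Set G := {r | r ∈ side Q g ∧ r * z = z * r} with hS
  set S0 : Set G := {r | r ∈ S ∧ ∃ h, Symp h ∧ Acts Q χ r oneK h} with hS0
  have hinvS : ∀ r ∈ S, r⁻¹ ∈ S := fun r hr => ⟨inv_mem hr.1, (Commute.inv_left hr.2 : _)⟩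
  have hmulS : ∀ r ∈ S, ∀ r' ∈ S, r * r' ∈ S := fun r hr r' hr' =>
    ⟨mul_mem hr.1 hr'.1, (Commute.mul_left hr.2 hr'.2 : _)⟩
  -- S has index two in the side group
  have hcS : Nat.card ↥(side Q g) ≤ 2 * S.ncard := by
    by_cases hall : ∀ r ∈ side Q g, r * z = z * r
    · have : S = (side Q g : Set G) := Set.ext fun r => ⟨fun h => h.1, fun h => ⟨h, hall r h⟩⟩
      rw [this, show (side Q g : Set G).ncard = Nat.card ↥(side Q g) from (Nat.card_coe_set_eq _).symm]
      omega
    · push Not at hall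
      obtain ⟨r0, hr0, hne⟩ := hall
      have hsub : (side Q g : Set G) ⊆ S ∪ (fun r => r0 * r) '' S := by
        intro r hr
        by_cases hrz : r * z = z * r
        · exact Or.inl ⟨hr, hrz⟩
        · refine Or.inr ⟨r0⁻¹ * r, ⟨mul_mem (inv_mem hr0) hr, ?_⟩, by simp⟩
          have h1 : r0 * z * r0⁻¹ ≠ z := fun e => hne (mul_inv_eq_iff_eq_mul.1 e)
          have h2 : r * z * r⁻¹ ≠ z := fun e => hrz (mul_inv_eq_iff_eq_mul.1 e)
          exact F'.setting.ci.conj_ratio hzQ hr0 hr
            ((F'.setting.ci.conj_cases hr0 hzQ).resolve_left h1) h2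
      calc Nat.card ↥(side Q g) = (side Q g : Set G).ncard := (Nat.card_coe_set_eq _)
        _ ≤ (S ∪ (fun r => r0 * r) '' S).ncard := Set.ncard_le_ncard hsub (Set.toFinite _)
        _ ≤ S.ncard + ((fun r => r0 * r) '' S).ncard := Set.ncard_union_le _ _
        _ ≤ 2 * S.ncard := by
          have := Set.ncard_image_le (f := fun r => r0 * r) (Set.toFinite S)
          omega
  have hcard : Nat.card ↥(side Q g) = 512 := by rw [F'.setting.card]; norm_num
  -- squares act trivially
  have hsq : ∀ r ∈ S, Acts Q χ (r * r) oneK id := by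
    intro r hr
    apply F.acts_of_mem
    rcases F'.setting.ci.sq_mem hr.1 with e | e <;> rw [e]
    · exact one_mem _
    · exact hP.mem
  have pairOf : ∀ r ∈ S, ∃ k h, detK k = 1 ∧ Symp h ∧ Acts Q χ r k h ∧ mulK k k = oneK := by
    intro r hr
    obtain ⟨k, h, hk, hh, ar⟩ := F.acts r hr.2
    refine ⟨k, h, hk, hh, ar, ?_⟩
    have a2 := F.acts_mul hr.2 hh ar ar
    have hd : detK (mulK k k) = 1 := by rw [detK_mul, hk, one_mul]
    refine (act_inj (hh.comp hh) Symp.id hd detK_one fun v => ?_).1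
    obtain ⟨a, ha, rfl⟩ := F.map_surj v
    exact (a2 a ha).symm.trans (hsq r hr a ha)
  -- S0 has index two in S
  have hcS0 : S.ncard ≤ 2 * S0.ncard := by
    by_cases hall : S ⊆ S0
    · have := Set.ncard_le_ncard hall (Set.toFinite _)
      omega
    · obtain ⟨r0, hr0, hne⟩ := Set.not_subset.1 hall
      have hsub : S ⊆ S0 ∪ (fun r => r0 * r) '' S0 := by
        intro r hr
        by_cases h0 : r ∈ S0
        · exact Or.inl h0
        · refine Or.inr ⟨r0⁻¹ * r, ?_, by simp⟩
          obtain ⟨k0, h0', hk0, hh0, a0, e0⟩ := pairOf r0 hr0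
          obtain ⟨k1, h1', hk1, hh1, a1, e1⟩ := pairOf r hr
          have hs := hmulS _ (hinvS r0 hr0) r hr
          obtain ⟨k2, h2', hk2, hh2, a2, e2⟩ := pairOf _ hs
          have hn0 : k0 ≠ oneK := fun e => hne ⟨hr0, h0', hh0, e ▸ a0⟩
          have hn1 : k1 ≠ oneK := fun e => h0 ⟨hr, h1', hh1, e ▸ a1⟩
          -- k1 = k0 k2
          have a02 := F.acts_mul hs.2 hh0 a0 a2
          rw [mul_inv_cancel_left] at a02
          have hd : detK (mulK k0 k2) = 1 := by rw [detK_mul, hk0, hk2, one_mul]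
          have ek : mulK k0 k2 = k1 := (act_inj (hh0.comp hh2) hh1 hd hk1 fun v => by
            obtain ⟨a, ha, rfl⟩ := F.map_surj v
            exact (a02 a ha).symm.trans (a1 a ha)).1
          by_cases hk : k2 = oneK
          · exact ⟨hs, h2', hh2, hk ▸ a2⟩
          · exfalso
            have e : k0 = k2 := K_pair_eq k0 k2 hk0 hk2 hn0 hk e0 e2 (by rw [ek]; exact e1)
            rw [← e, e0] at ek
            exact hn1 ek.symm
      calc S.ncard ≤ (S0 ∪ (fun r => r0 * r) '' S0).ncard := Set.ncard_le_ncard hsub (Set.toFinite _)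
        _ ≤ S0.ncard + ((fun r => r0 * r) '' S0).ncard := Set.ncard_union_le _ _
        _ ≤ 2 * S0.ncard := by
          have := Set.ncard_image_le (f := fun r => r0 * r) (Set.toFinite S0)
          omega
  -- two classes
  set D : Set G := ((Q ⊓ side Q g : Subgroup G) : Set G) with hD
  have hDcard : D.ncard ≤ 32 := by
    rw [hD, ← Nat.card_coe_set_eq]; exact hP.card_inter_le F
  have triv : ∀ r ∈ S0, ∀ r1 ∈ S0, ∀ h, Symp h → Acts Q χ r oneK h → Acts Q χ r1 oneK h →
      r1⁻¹ * r ∈ D := by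
    intro r hr r1 hr1 h hh ar ar1
    have hs := hmulS _ (hinvS r1 hr1.1) r hr.1
    obtain ⟨k2, h2', hk2, hh2, a2, -⟩ := pairOf _ hs
    have a12 := F.acts_mul hs.2 hh ar1 a2
    rw [mul_inv_cancel_left] at a12
    have hd : detK (mulK oneK k2) = 1 := by rwa [oneK_mul]
    obtain ⟨ek, eh⟩ := act_inj (hh.comp hh2) hh hd detK_one fun v => by
      obtain ⟨a, ha, rfl⟩ := F.map_surj v
      exact (a12 a ha).symm.trans (ar a ha)
    have ek2 : k2 = oneK := (oneK_mul k2).symm.trans ek
    have eh2 : h2' = id := funext fun y => hh.injective (congrFun eh y)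
    exact ⟨F.mem_of_acts _ hs.2 (ek2 ▸ eh2 ▸ a2), hs.1⟩
  by_contra hcon
  have hbig : S0 ⊆ D ∨ ∃ r1, S0 ⊆ D ∪ (fun d => r1 * d) '' D := by
    by_cases h1 : S0 ⊆ D
    · exact Or.inl h1
    · obtain ⟨r1, hr1, hn1⟩ := Set.not_subset.1 h1
      obtain ⟨g1, hg1, a1⟩ := hr1.2
      refine Or.inr ⟨r1, fun r hr => ?_⟩
      obtain ⟨h, hh, ar⟩ := hr.2
      by_cases hid : h = id
      · exact Or.inl ⟨F.mem_of_acts r hr.1.2 (hid ▸ ar), hr.1.1⟩
      · have hid1 : g1 ≠ id := fun e => hn1 ⟨F.mem_of_acts r1 hr1.1.2 (e ▸ a1), hr1.1.1⟩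
        by_cases heq : h = g1
        · exact Or.inr ⟨r1⁻¹ * r, triv r hr r1 hr1 g1 hg1 (heq ▸ ar) a1, by simp⟩
        · exact absurd ⟨r1, r, g1, h, hr1.1.1, hr1.1.2, hr.1.1, hr.1.2, hg1, hh, a1, ar, hid1, hid,
            fun e => heq e.symm⟩ hcon
  rcases hbig with h1 | ⟨r1, h1⟩
  · have := Set.ncard_le_ncard h1 (Set.toFinite _)
    omega
  · have h2 := Set.ncard_le_ncard h1 (Set.toFinite _)
    have h3 := Set.ncard_union_le D ((fun d => r1 * d) '' D)
    have h4 := Set.ncard_image_le (f := fun d => r1 * d) (Set.toFinite D)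
    omega

end IsPair

end Cfsg.Agent.H49
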