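import Cfsg.Agent.H49.TensorAlg

/-!
A quadratic space with an action of the pairs of permutations of equal sign, and the form over the
field with two elements that it determines.
-/

set_option autoImplicit false

namespace Cfsg.Agent.H49.Tensor

variable {U : Type*} [AddCommGroup U]

/-- A quadratic space with the action of the pairs of equal sign. -/
structure SignData (q : U → ZMod 2) (B : U → U → ZMod 2) (Γ : Subgroup P) (α : P → U → U) : Prop where
  card : Nat.card U = 256
  two : ∀ u : U, u + u = 0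
  quad : ∀ u v, q (u + v) = q u + q v + B u v
  bil : ∀ u v w, B (u + v) w = B u w + B v w
  nd : ∀ u, (∀ v, B u v = 0) → u = 0
  hR : ∀ p, p ∈ Γ ↔ Equiv.Perm.sign p.1 = Equiv.Perm.sign p.2
  mul : ∀ p ∈ Γ, ∀ r ∈ Γ, ∀ u, α (p * r) u = α p (α r u)
  one : ∀ u, α 1 u = u
  add : ∀ p ∈ Γ, ∀ u v, α p (u + v) = α p u + α p v
  presq : ∀ p ∈ Γ, ∀ u, q (α p u) = q u
  faith : ∀ p ∈ Γ, (∀ u, α p u = u) → p = 1
  fpf : ∀ u, α pD u = u → u = 0

/-- A totally singular subgroup of order sixteen invariant under the alternating group, meeting its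
translate trivially, and carried to one of its translates by the odd pairs. -/
structure FormSpace (q : U → ZMod 2) (B : U → U → ZMod 2) (Γ : Subgroup P) (α : P → U → U)
    (S : AddSubgroup U) : Prop where
  card : Nat.card S = 16
  sing : ∀ x ∈ S, q x = 0
  orth : ∀ x ∈ S, ∀ y ∈ S, B x y = 0
  inv : ∀ a ∈ alternatingGroup (Fin 6), ∀ x ∈ S, α (1, a) x ∈ S
  inter : ∀ x ∈ S, α pD x ∈ S → x = 0
  odd : ∀ p ∈ Γ, Equiv.Perm.sign p.1 = -1 →
    (∀ x ∈ S, α p x ∈ S) ∨ (∀ x ∈ S, α pD (α p x) ∈ S) ∨ (∀ x ∈ S, α pD (α pD (α p x)) ∈ S)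

end Cfsg.Agent.H49.Tensor
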