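import Mathlib.GroupTheory.Perm.Sign
import Mathlib.Data.Fintype.Perm
import Mathlib.Tactic

/-!
Finite facts on the two classes of symmetric groups of degree four in the alternating group of
degree six.
-/

set_option autoImplicit false

namespace Cfsg.Agent.H49.Tensor

namespace SignAux

open Equiv

abbrev S6 : Type := Equiv.Perm (Fin 6)

def jj : S6 := swap 0 1 * swap 2 3
def vA : S6 := swap 0 2 * swap 1 3
def vB : S6 := swap 0 1 * swap 4 5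
def cc : S6 := swap 0 2 * swap 1 4 * swap 2 3 * swap 3 4

/-- The normaliser condition for the four group generated by `jj` and `v`. -/
def Hp (v a : S6) : Prop :=
  Perm.sign a = 1 ∧ (a⁻¹ * jj * a = jj ∨ a⁻¹ * jj * a = v ∨ a⁻¹ * jj * a = jj * v) ∧
    (a⁻¹ * v * a = jj ∨ a⁻¹ * v * a = v ∨ a⁻¹ * v * a = jj * v)

instance (v a : S6) : Decidable (Hp v a) := by unfold Hp; infer_instance

/-- The finite facts about one of the two classes of symmetric groups of degree four. -/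
structure Cfg (v t0 s : S6) (T fiv two : Fin 15 → S6) : Prop where
  v_sign : Perm.sign v = 1
  v_sq : v * v = 1
  comm : jj * v = v * jj
  s_pow : s ^ 4 = 1
  s_mem : Hp v s
  h_ord : ∀ h : S6, Hp v h → h ^ 4 = 1 ∨ (h * s) ^ 4 = 1
  t0_sign : Perm.sign t0 = -1
  t0_sq : t0 * t0 = 1
  t0_j : t0 * jj * t0 = jj ∨ t0 * jj * t0 = v ∨ t0 * jj * t0 = jj * v
  t0_v : t0 * v * t0 = jj ∨ t0 * v * t0 = v ∨ t0 * v * t0 = jj * v
  T0 : T 0 = 1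
  T_sign : ∀ i, Perm.sign (T i) = 1
  T_inj : ∀ i k, Hp v ((T k)⁻¹ * T i) → i = k
  T_cover : ∀ a : S6, Perm.sign a = 1 → ∃ i, Hp v ((T i)⁻¹ * a)
  T_five : ∀ i, i ≠ 0 → Hp v (fiv i) ∧ (T i * fiv i) ^ 5 = 1 ∧ T i * fiv i ≠ 1
  T_two : ∀ i, Hp v (two i) ∧ Hp v ((T i * two i) ^ 2)

def tblA : Fin 15 → S6 := ![
  1,
  Equiv.swap 3 4 * Equiv.swap 4 5,
  Equiv.swap 3 5 * Equiv.swap 4 5,
  Equiv.swap 2 3 * Equiv.swap 3 4,
  Equiv.swap 2 3 * Equiv.swap 3 5,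
  Equiv.swap 2 4 * Equiv.swap 3 5,
  Equiv.swap 1 2 * Equiv.swap 2 4,
  Equiv.swap 1 2 * Equiv.swap 2 5,
  Equiv.swap 1 4 * Equiv.swap 3 5,
  Equiv.swap 1 4 * Equiv.swap 2 5,
  Equiv.swap 0 1 * Equiv.swap 1 4,
  Equiv.swap 0 1 * Equiv.swap 1 5,
  Equiv.swap 0 4 * Equiv.swap 3 5,
  Equiv.swap 0 4 * Equiv.swap 2 5,
  Equiv.swap 0 4 * Equiv.swap 1 5]

def fivA : Fin 15 → S6 := ![
  1,
  Equiv.swap 1 2 * Equiv.swap 2 3,
  Equiv.swap 1 2 * Equiv.swap 2 3,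
  Equiv.swap 1 2 * Equiv.swap 4 5,
  Equiv.swap 1 2 * Equiv.swap 4 5,
  Equiv.swap 1 2 * Equiv.swap 4 5,
  Equiv.swap 2 3 * Equiv.swap 4 5,
  Equiv.swap 2 3 * Equiv.swap 4 5,
  Equiv.swap 2 3 * Equiv.swap 4 5,
  Equiv.swap 2 3 * Equiv.swap 4 5,
  Equiv.swap 1 2 * Equiv.swap 4 5,
  Equiv.swap 1 2 * Equiv.swap 4 5,
  Equiv.swap 2 3 * Equiv.swap 4 5,
  Equiv.swap 2 3 * Equiv.swap 4 5,
  Equiv.swap 1 2 * Equiv.swap 4 5]

def twoA : Fin 15 → S6 := ![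
  1,
  Equiv.swap 1 2 * Equiv.swap 4 5,
  Equiv.swap 1 2 * Equiv.swap 4 5,
  Equiv.swap 1 2 * Equiv.swap 2 3,
  Equiv.swap 1 2 * Equiv.swap 2 3,
  1,
  Equiv.swap 1 2 * Equiv.swap 2 3,
  Equiv.swap 1 2 * Equiv.swap 2 3,
  1,
  1,
  Equiv.swap 0 1 * Equiv.swap 2 3,
  Equiv.swap 0 1 * Equiv.swap 2 3,
  1,
  1,
  1]

def tblB : Fin 15 → S6 := ![
  1,
  Equiv.swap 3 4 * Equiv.swap 4 5,
  Equiv.swap 3 5 * Equiv.swap 4 5,
  Equiv.swap 1 2 * Equiv.swap 4 5,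
  Equiv.swap 1 2 * Equiv.swap 3 4,
  Equiv.swap 1 2 * Equiv.swap 3 5,
  Equiv.swap 1 3 * Equiv.swap 2 3,
  Equiv.swap 1 3 * Equiv.swap 3 4,
  Equiv.swap 1 3 * Equiv.swap 3 5,
  Equiv.swap 1 4 * Equiv.swap 2 4,
  Equiv.swap 1 4 * Equiv.swap 3 4,
  Equiv.swap 1 4 * Equiv.swap 4 5,
  Equiv.swap 1 5 * Equiv.swap 2 5,
  Equiv.swap 1 5 * Equiv.swap 3 5,
  Equiv.swap 1 5 * Equiv.swap 4 5]

def fivB : Fin 15 → S6 := ![
  1,
  Equiv.swap 0 2 * Equiv.swap 1 3 * Equiv.swap 2 3 * Equiv.swap 4 5,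
  Equiv.swap 0 2 * Equiv.swap 1 3 * Equiv.swap 2 3 * Equiv.swap 4 5,
  Equiv.swap 2 4 * Equiv.swap 3 5,
  Equiv.swap 2 3 * Equiv.swap 4 5,
  Equiv.swap 2 3 * Equiv.swap 4 5,
  Equiv.swap 2 4 * Equiv.swap 3 5,
  Equiv.swap 2 3 * Equiv.swap 4 5,
  Equiv.swap 2 3 * Equiv.swap 4 5,
  Equiv.swap 2 3 * Equiv.swap 4 5,
  Equiv.swap 2 3 * Equiv.swap 4 5,
  Equiv.swap 2 4 * Equiv.swap 3 5,
  Equiv.swap 2 3 * Equiv.swap 4 5,
  Equiv.swap 2 3 * Equiv.swap 4 5,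
  Equiv.swap 2 4 * Equiv.swap 3 5]

def twoB : Fin 15 → S6 := ![
  1,
  Equiv.swap 0 1 * Equiv.swap 4 5,
  Equiv.swap 0 1 * Equiv.swap 4 5,
  1,
  1,
  1,
  Equiv.swap 2 3 * Equiv.swap 4 5,
  Equiv.swap 2 5 * Equiv.swap 3 4,
  Equiv.swap 2 4 * Equiv.swap 3 5,
  Equiv.swap 2 4 * Equiv.swap 3 5,
  Equiv.swap 2 5 * Equiv.swap 3 4,
  Equiv.swap 2 3 * Equiv.swap 4 5,
  Equiv.swap 2 5 * Equiv.swap 3 4,
  Equiv.swap 2 4 * Equiv.swap 3 5,
  Equiv.swap 2 3 * Equiv.swap 4 5]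

def tA : S6 := swap 4 5
def sA : S6 := swap 0 1 * swap 4 5
def tB : S6 := swap 0 1
def sB : S6 := swap 0 2 * swap 1 3

set_option maxHeartbeats 4000000 in
theorem cfgA : Cfg vA tA sA tblA fivA twoA :=
  ⟨by decide +kernel, by decide +kernel, by decide +kernel, by decide +kernel, by decide +kernel,
    by decide +kernel, by decide +kernel, by decide +kernel, by decide +kernel, by decide +kernel,
    by decide +kernel, by decide +kernel, by decide +kernel, by decide +kernel, by decide +kernel,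
    by decide +kernel⟩

set_option maxHeartbeats 4000000 in
theorem cfgB : Cfg vB tB sB tblB fivB twoB :=
  ⟨by decide +kernel, by decide +kernel, by decide +kernel, by decide +kernel, by decide +kernel,
    by decide +kernel, by decide +kernel, by decide +kernel, by decide +kernel, by decide +kernel,
    by decide +kernel, by decide +kernel, by decide +kernel, by decide +kernel, by decide +kernel,
    by decide +kernel⟩

theorem cc_facts : jj * jj = 1 ∧ cc ^ 5 = 1 ∧ cc ≠ 1 ∧ Perm.sign cc = 1 ∧ Perm.sign jj = 1 ∧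
    jj * cc = cc⁻¹ * jj ∧
    Hp vA (swap 1 2 * swap 4 5) ∧ Hp vB (swap 2 4 * swap 3 5) ∧
    Hp vB (swap 0 2 * swap 1 3 * swap 2 4 * swap 3 5) ∧
    cc = (swap 1 2 * swap 4 5) * (swap 2 4 * swap 3 5) * (swap 1 2 * swap 4 5) *
      (swap 0 2 * swap 1 3 * swap 2 4 * swap 3 5) := by decide +kernel

theorem perm3_odd : ∀ s : Equiv.Perm (Fin 3), Perm.sign s = -1 →
    ∃ e : Fin 3, s = (finRotate 3) ^ (e : ℕ) * swap 0 1 := by decide +kernel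

end SignAux

end Cfsg.Agent.H49.Tensor
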