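import Cfsg.Agent.H49.SignBase
import Cfsg.Agent.H49.SignTable

/-!
A quadratic space with the action of the pairs of permutations of equal sign has a totally singular
subgroup of order sixteen invariant under the alternating group of degree six, meeting its translate
under the element of order three trivially, and permuted with its translates by the odd pairs.
-/

set_option autoImplicit false

namespace Cfsg.Agent.H49.Tensor

open SignAux

namespace SignAux

/-- The character of the group with two elements. -/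
def pm (i : ZMod 2) : ℤ := if i = 0 then 1 else -1

theorem sum_pm {X : Type*} [AddCommGroup X] [Fintype X] (f : X → ZMod 2)
    (hf : ∀ x y, f (x + y) = f x + f y) :
    (∀ x, f x = 0) ∧ ∑ x, pm (f x) = (Fintype.card X : ℤ) ∨
    (¬∀ x, f x = 0) ∧ ∑ x, pm (f x) = 0 := by
  by_cases h : ∀ x, f x = 0
  · exact Or.inl ⟨h, by simp [h, pm]⟩
  · refine Or.inr ⟨h, ?_⟩
    push Not at h
    obtain ⟨y, hy⟩ := h
    have hy1 : f y = 1 := (z2cases _).resolve_left hy
    have e : ∑ x, pm (f x) = ∑ x, pm (f (x + y)) :=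
      (Fintype.sum_equiv (Equiv.addRight y) (fun x => pm (f (x + y))) (fun x => pm (f x)) fun x => rfl).symm
    have e2 : ∀ x, pm (f (x + y)) = -pm (f x) := fun x => by
      rw [hf, hy1]
      rcases z2cases (f x) with h | h <;> rw [h] <;> decide
    simp only [e2, Finset.sum_neg_distrib] at e
    omega

end SignAux

namespace SignData

variable {U : Type*} [AddCommGroup U] {q : U → ZMod 2} {B : U → U → ZMod 2} {Γ : Subgroup P}
  {α : P → U → U} (D : SignData q B Γ α)
include D

theorem ss_finite : Finite U := Nat.finite_of_card_ne_zero (by rw [D.card]; norm_num)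

theorem ss_symm (u v : U) : B u v = B v u := by
  have h := D.quad u v
  rw [add_comm u v, D.quad v u, add_comm (q v)] at h
  exact (add_left_cancel h).symm

theorem ss_bil_right (u v w : U) : B u (v + w) = B u v + B u w := by
  rw [D.ss_symm u, D.bil, D.ss_symm v, D.ss_symm w]

theorem ss_B_zero (u : U) : B 0 u = 0 := by
  have h := D.bil 0 0 u
  rw [add_zero] at h
  exact left_eq_add.mp h

theorem ss_B_zero_right (u : U) : B u 0 = 0 := by rw [D.ss_symm, D.ss_B_zero]

theorem ss_q_zero : q 0 = 0 := by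
  have h := D.quad 0 0
  rw [add_zero, D.ss_B_zero, add_zero] at h
  exact left_eq_add.mp h

theorem ss_B_self (u : U) : B u u = 0 := by
  have h := D.quad u u
  rw [D.two, D.ss_q_zero, CharTwo.add_self_eq_zero, zero_add] at h
  exact h.symm

theorem ss_presB {p : P} (hp : p ∈ Γ) (u v : U) : B (α p u) (α p v) = B u v := by
  have h := D.quad (α p u) (α p v)
  rw [← D.add p hp, D.presq p hp, D.presq p hp, D.presq p hp, D.quad u v] at h
  exact (add_left_cancel h).symm

theorem ss_map_zero {p : P} (hp : p ∈ Γ) : α p 0 = 0 := by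
  have h := D.add p hp 0 0
  rw [add_zero] at h
  exact left_eq_add.mp h

theorem ss_neg (u : U) : -u = u := (eq_neg_of_add_eq_zero_left (D.two u)).symm

theorem ss_eq_of_add {u v : U} (h : u + v = 0) : u = v := by
  rw [eq_neg_of_add_eq_zero_left h, D.ss_neg]

theorem ss_memA {a : S6} (ha : Equiv.Perm.sign a = 1) : ((1, a) : P) ∈ Γ :=
  (D.hR _).2 (by simp [ha])

theorem ss_memD : pD ∈ Γ := (D.hR _).2 (by decide +kernel)

theorem ss_cancel {p : P} (hp : p ∈ Γ) (u : U) : α p⁻¹ (α p u) = u := by
  rw [← D.mul _ (inv_mem hp) _ hp, inv_mul_cancel, D.one]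

theorem ss_inj {p : P} (hp : p ∈ Γ) {u v : U} (h : α p u = α p v) : u = v := by
  rw [← D.ss_cancel hp u, h, D.ss_cancel hp]

theorem ss_act {a b : S6} (ha : Equiv.Perm.sign a = 1) (hb : Equiv.Perm.sign b = 1) (u : U) :
    α (1, a * b) u = α (1, a) (α (1, b) u) := by
  rw [← D.mul _ (D.ss_memA ha) _ (D.ss_memA hb)]
  simp

/-- The action of a power of the element of order three. -/
theorem ss_dd (m n : ℕ) (u : U) : α (pD ^ (m + n)) u = α (pD ^ m) (α (pD ^ n) u) := by
  rw [pow_add, D.mul _ (pow_mem D.ss_memD m) _ (pow_mem D.ss_memD n)]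

omit D in
theorem ss_dpow_mod (n : ℕ) : pD ^ n = pD ^ (n % 3) := by
  conv_lhs => rw [← Nat.div_add_mod n 3, pow_add, pow_mul,
    show pD ^ 3 = (1 : P) by decide +kernel, one_pow, one_mul]

theorem ss_dpow_fix {n : ℕ} {u : U} (h : α (pD ^ n) u = u) (hu : u ≠ 0) : n % 3 = 0 := by
  rw [ss_dpow_mod] at h
  have hlt : n % 3 < 3 := Nat.mod_lt _ (by norm_num)
  by_contra hne
  rcases (show n % 3 = 1 ∨ n % 3 = 2 by omega) with e | e <;> rw [e] at h
  · rw [pow_one] at h
    exact hu (D.fpf u h)
  · apply hu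
    apply D.fpf
    have h1 : α (pD ^ (1 + 2)) u = α (pD ^ 1) (α (pD ^ 2) u) := D.ss_dd 1 2 u
    rw [h, ss_dpow_mod, pow_zero, D.one, pow_one] at h1
    exact h1.symm

theorem ss_d_cube (u : U) : α pD (α pD (α pD u)) = u := by
  rw [← D.mul _ D.ss_memD _ D.ss_memD, ← D.mul _ (mul_mem D.ss_memD D.ss_memD) _ D.ss_memD,
    pD_cube, D.one]

theorem ss_d_sum (u : U) : α pD (α pD u) = u + α pD u := by
  have h : α pD (u + α pD u + α pD (α pD u)) = u + α pD u + α pD (α pD u) := by
    rw [D.add _ D.ss_memD, D.add _ D.ss_memD, D.ss_d_cube]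
    abel
  exact (D.ss_eq_of_add (D.fpf _ h)).symm

theorem ss_comm {a : S6} (ha : Equiv.Perm.sign a = 1) (n : ℕ) (u : U) :
    α (1, a) (α (pD ^ n) u) = α (pD ^ n) (α (1, a) u) := by
  rw [← D.mul _ (D.ss_memA ha) _ (pow_mem D.ss_memD n),
    ← D.mul _ (pow_mem D.ss_memD n) _ (D.ss_memA ha)]
  congr 1
  simp [pD, Prod.ext_iff]

theorem ss_comm_d {a : S6} (ha : Equiv.Perm.sign a = 1) (u : U) :
    α (1, a) (α pD u) = α pD (α (1, a) u) := by
  simpa using D.ss_comm ha 1 u

/-- Iterating an element that scales a vector. -/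
theorem ss_pow {a : S6} (ha : Equiv.Perm.sign a = 1) {e : ℕ} {u : U}
    (h : α (1, a) u = α (pD ^ e) u) (n : ℕ) : α (1, a ^ n) u = α (pD ^ (e * n)) u := by
  induction n with
  | zero => rw [pow_zero, mul_zero, pow_zero]; rfl
  | succ k ih =>
    rw [pow_succ, D.ss_act (by simp [ha]) ha, h, D.ss_comm (by simp [ha]), ih, ← D.ss_dd]
    congr 2
    ring

/-- Elements of order five have no fixed vector. -/
theorem ss_five {x : S6} (hx : Equiv.Perm.sign x = 1) (h5 : x ^ 5 = 1) (h1 : x ≠ 1) {u : U}
    (hu : α (1, x) u = u) : u = 0 := by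
  classical
  haveI := D.ss_finite
  haveI : Fintype U := Fintype.ofFinite U
  haveI : Fact (Nat.Prime 5) := ⟨by norm_num⟩
  have hm := D.ss_memA hx
  let η : U →+ U := AddMonoidHom.mk' (fun v => v + α (1, x) v) fun a b => by
    rw [D.add _ hm]; abel
  have hker : ∀ v, v ∈ η.ker ↔ α (1, x) v = v := fun v => by
    rw [AddMonoidHom.mem_ker]
    constructor
    · intro h; exact (D.ss_eq_of_add h).symm
    · intro h; show v + α (1, x) v = 0; rw [h, D.two]
  have hprod : Nat.card η.ker * Nat.card η.range = 256 := by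
    rw [← AddSubgroup.index_ker η, AddSubgroup.card_mul_index, D.card]
  -- congruence modulo five
  let f : Function.End U := α (1, x)
  have hf : f ^ 5 ^ 1 = 1 := by
    have hn : ∀ n : ℕ, ∀ v, (f ^ n) v = α (1, x ^ n) v := by
      intro n
      induction n with
      | zero =>
        intro v
        exact (D.one v).symm
      | succ k ih =>
        intro v
        rw [pow_succ, pow_succ, D.ss_act (by simp [hx]) hx]
        exact ih _
    funext v
    rw [hn, pow_one, h5]
    exact D.one v
  have hmod := Equiv.Perm.card_fixedPoints_modEq hf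
  have hfix : Fintype.card f.fixedPoints = Nat.card η.ker := by
    rw [← Nat.card_eq_fintype_card]
    exact Nat.card_congr (Equiv.subtypeEquivRight fun v => (hker v).symm)
  rw [hfix, ← Nat.card_eq_fintype_card, D.card] at hmod
  obtain ⟨k, hk, hkc⟩ := (Nat.dvd_prime_pow Nat.prime_two).1
    (show Nat.card η.ker ∣ 2 ^ 8 from ⟨_, by rw [hprod]; norm_num⟩)
  have hk' : k = 0 ∨ k = 4 ∨ k = 8 := by
    rw [hkc] at hmod
    unfold Nat.ModEq at hmod
    interval_cases k <;> simp_all
  rcases hk' with rfl | rfl | rfl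
  · haveI : Subsingleton η.ker := (Nat.card_eq_one_iff_unique.1 hkc).1
    exact congrArg Subtype.val (Subsingleton.elim (⟨u, (hker u).2 hu⟩ : η.ker) 0)
  · exfalso
    have hI : Nat.card η.range = 16 := by rw [hkc] at hprod; omega
    have horth : ∀ c ∈ η.ker, ∀ y ∈ η.range, B y c = 0 := by
      rintro c hc _ ⟨v, rfl⟩
      show B (v + α (1, x) v) c = 0
      nth_rw 1 [D.bil]
      nth_rw 2 [← (hker c).1 hc]
      rw [D.ss_presB hm, CharTwo.add_self_eq_zero]
    have hinvI : ∀ y ∈ η.range, α (1, x) y ∈ η.range ∧ α pD y ∈ η.range := by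
      rintro _ ⟨v, rfl⟩
      constructor
      · refine ⟨α (1, x) v, ?_⟩
        show α (1, x) v + α (1, x) (α (1, x) v) = α (1, x) (v + α (1, x) v)
        rw [D.add _ hm]
      · refine ⟨α pD v, ?_⟩
        show α pD v + α (1, x) (α pD v) = α pD (v + α (1, x) v)
        rw [D.add _ D.ss_memD, D.ss_comm_d hx]
    have hz : ∀ y ∈ η.range, α (1, x) y = y → y = 0 := by
      intro y hy hy'
      refine D.nd y fun w => ?_
      -- every vector is a sum from the kernel and the image
      have hinj : Function.Injective fun r : η.ker × η.range => (r.1 : U) + r.2 := by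
        rintro ⟨⟨a, ha⟩, ⟨b, hb⟩⟩ ⟨⟨a', ha'⟩, ⟨b', hb'⟩⟩ h
        simp only at h
        have e : a - a' = b' - b := sub_eq_sub_iff_add_eq_add.2 (by rw [h]; abel)
        obtain ⟨v, hv⟩ := sub_mem hb' hb
        have hav : α (1, x) (a - a') = a - a' := (hker _).1 (sub_mem ha ha')
        -- five steps of the orbit sum
        have hs : a - a' = 0 := by
          have e1 : v + α (1, x) v = a - a' := hv.trans e.symm
          generalize a - a' = c at hav e1
          have step : ∀ n : ℕ, α (1, x ^ n) v = if n % 2 = 0 then v else v + c := by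
            intro n
            induction n with
            | zero => exact D.one v
            | succ m ih =>
              have hv' : α (1, x) v = v + c := by
                rw [← e1, ← add_assoc, D.two, zero_add]
              rw [pow_succ', D.ss_act hx (by simp [hx]), ih]
              rcases Nat.mod_two_eq_zero_or_one m with hm2 | hm2
              · rw [if_pos hm2, if_neg (by omega), hv']
              · rw [if_neg (by omega), if_pos (by omega), D.add _ hm, hv', hav, add_assoc, D.two,
                  add_zero]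
          have := step 5
          rw [h5, if_neg (by norm_num)] at this
          have h0 : v + 0 = v + c := by rw [add_zero]; exact (D.one v).symm.trans this
          exact (add_left_cancel h0).symm
        rw [hs] at e
        simp only [Prod.mk.injEq, Subtype.mk.injEq]
        exact ⟨sub_eq_zero.1 hs, (sub_eq_zero.1 e.symm).symm⟩
      haveI : Fintype (η.ker × η.range) := Fintype.ofFinite _
      obtain ⟨⟨c, i⟩, rfl⟩ := ((Nat.bijective_iff_injective_and_card _).2
        ⟨hinj, by rw [Nat.card_prod, hkc, hI, D.card]; norm_num⟩).2 w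
      show B y ((c : U) + i) = 0
      have hyk : y ∈ η.ker := (hker y).2 hy'
      rw [D.ss_bil_right, horth c c.2 y hy, D.ss_symm, horth y hyk i i.2, add_zero]
    obtain ⟨y, hyI, hy0⟩ : ∃ y ∈ η.range, y ≠ 0 := by
      by_contra h; push Not at h
      haveI : Subsingleton η.range := ⟨fun a b => Subtype.ext ((h a a.2).trans (h b b.2).symm)⟩
      rw [Nat.card_of_subsingleton 0] at hI
      omega
    -- the group of order fifteen is transitive on the nonzero vectors of the image
    let o : Fin 5 × Fin 3 → U := fun r => α (1, x ^ (r.1 : ℕ)) (α (pD ^ (r.2 : ℕ)) y)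
    have hoI : ∀ r, o r ∈ η.range := by
      rintro ⟨i, j⟩
      have h3 : ∀ n : ℕ, α (pD ^ n) y ∈ η.range := by
        intro n
        induction n with
        | zero => rw [pow_zero, D.one]; exact hyI
        | succ m ih =>
          rw [add_comm, D.ss_dd, pow_one]
          exact (hinvI _ ih).2
      have h5' : ∀ n : ℕ, ∀ z ∈ η.range, α (1, x ^ n) z ∈ η.range := by
        intro n
        induction n with
        | zero =>
          intro z hz
          rw [pow_zero]
          exact (D.one z).symm ▸ hz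
        | succ m ih =>
          intro z hz
          rw [pow_succ, D.ss_act (by simp [hx]) hx]
          exact ih _ (hinvI _ hz).1
      exact h5' _ _ (h3 _)
    have ho0 : ∀ r, o r ≠ 0 := by
      intro r h
      have := D.ss_inj (D.ss_memA (by simp [hx])) (h.trans (D.ss_map_zero (D.ss_memA (by simp [hx]))).symm)
      exact hy0 (D.ss_inj (pow_mem D.ss_memD _) (this.trans (D.ss_map_zero (pow_mem D.ss_memD _)).symm))
    have hoinj : Function.Injective o := by
      rintro ⟨i, j⟩ ⟨i', j'⟩ h
      simp only [o] at h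
      -- remove the powers
      have e : α (1, x ^ ((i : ℕ) + 5 - (i' : ℕ))) (α (pD ^ ((j : ℕ) + 3 - (j' : ℕ))) y) = y := by
        have h2 := congrArg (fun w => α (1, x ^ (5 - (i' : ℕ))) (α (pD ^ (3 - (j' : ℕ))) w)) h
        simp only [D.ss_comm (show Equiv.Perm.sign (x ^ _) = 1 by simp [hx]), ← D.ss_dd,
          ← D.ss_act (show Equiv.Perm.sign (x ^ _) = 1 by simp [hx])
            (show Equiv.Perm.sign (x ^ _) = 1 by simp [hx]), ← pow_add] at h2
        rw [Nat.sub_add_cancel (by omega : (i' : ℕ) ≤ 5), Nat.sub_add_cancel (by omega : (j' : ℕ) ≤ 3),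
          h5, show pD ^ 3 = (1 : P) by decide +kernel, D.one,
          show (((1 : Equiv.Perm (Fin 3)), (1 : S6)) : P) = 1 from rfl, D.one] at h2
        rw [D.ss_comm (show Equiv.Perm.sign (x ^ _) = 1 by simp [hx])]
        rw [show (j : ℕ) + 3 - j' = 3 - j' + j by omega, show (i : ℕ) + 5 - i' = 5 - i' + i by omega]; exact h2
      set a := (i : ℕ) + 5 - (i' : ℕ) with ha
      set b := (j : ℕ) + 3 - (j' : ℕ) with hb
      have hc := D.ss_comm (show Equiv.Perm.sign (x ^ a) = 1 by simp [hx]) b y
      -- the cube kills the power of the element of order three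
      have hs : α (1, x ^ a) y = α (pD ^ (2 * b)) y := by
        have e' : α (pD ^ b) (α (1, x ^ a) y) = y := hc ▸ e
        conv_rhs => rw [← e']
        rw [← D.ss_dd, ss_dpow_mod, show (2 * b + b) % 3 = 0 by omega, pow_zero, D.one]
      have hp := D.ss_pow (by simp [hx]) hs 5
      rw [← pow_mul, mul_comm a, pow_mul, h5, one_pow] at hp
      have hb0 := D.ss_dpow_fix (hp.symm.trans (D.one y)) hy0
      have hbj : b % 3 = 0 := by omega
      rw [ss_dpow_mod, show 2 * b % 3 = 0 by omega, pow_zero, D.one] at hs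
      have hpa := hs
      -- a nonzero power fixing y gives x fixing y
      have ha0 : a % 5 = 0 := by
        by_contra hne
        obtain ⟨n, hn⟩ : ∃ n, a * n % 5 = 1 := by
          rcases (show a % 5 = 1 ∨ a % 5 = 2 ∨ a % 5 = 3 ∨ a % 5 = 4 by omega) with r | r | r | r
          · exact ⟨1, by omega⟩
          · exact ⟨3, by omega⟩
          · exact ⟨2, by omega⟩
          · exact ⟨4, by omega⟩
        have := D.ss_pow (e := 0) (by simp [hx]) (hpa.trans (by rw [pow_zero, D.one])) n
        rw [← pow_mul, ← Nat.div_add_mod (a * n) 5, hn, pow_succ, pow_mul, h5, one_pow, one_mul,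
          Nat.zero_mul, pow_zero, D.one] at this
        exact hy0 (hz y hyI this)
      have hi : i = i' := Fin.ext (by omega)
      have hj : j = j' := Fin.ext (by omega)
      rw [hi, hj]
    have hall : ∀ w ∈ η.range, w ≠ 0 → q w = q y := by
      intro w hw hw0
      let o' : Option (Fin 5 × Fin 3) → η.range := fun r => r.elim 0 fun r => ⟨o r, hoI r⟩
      have hb : Function.Bijective o' := by
        refine (Nat.bijective_iff_injective_and_card o').2 ⟨?_, ?_⟩
        · rintro (_ | r) (_ | r') h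
          · rfl
          · exact absurd (congrArg Subtype.val h).symm (ho0 r')
          · exact absurd (congrArg Subtype.val h) (ho0 r)
          · exact congrArg some (hoinj (congrArg Subtype.val h))
        · rw [hI, Nat.card_eq_fintype_card]
          rfl
      obtain ⟨r, hr⟩ := hb.2 ⟨w, hw⟩
      rcases r with _ | r
      · exact absurd (congrArg Subtype.val hr).symm hw0
      · have e : o r = w := congrArg Subtype.val hr
        rw [← e]
        simp only [o]
        rw [D.presq _ (D.ss_memA (by simp [hx])), D.presq _ (pow_mem D.ss_memD _)]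
    obtain ⟨hxy, hdy⟩ := hinvI y hyI
    -- pairwise products equal the common value
    have hpair : ∀ w ∈ η.range, w ≠ 0 → w ≠ y → B y w = q y := by
      intro w hw hw0 hwy
      have h := D.quad y w
      rw [hall _ (add_mem hyI hw) (fun e => hwy (D.ss_eq_of_add e).symm), hall w hw hw0] at h
      revert h
      generalize B y w = a
      generalize q y = b
      revert a b
      decide
    have hd0 : α pD y ≠ 0 := fun e => hy0 (D.ss_inj D.ss_memD (e.trans (D.ss_map_zero D.ss_memD).symm))
    have hx0 : α (1, x) y ≠ 0 := fun e => hy0 (D.ss_inj hm (e.trans (D.ss_map_zero hm).symm))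
    have hxy' : α (1, x) y ≠ y := fun e => hy0 (hz y hyI e)
    have hnd : α (1, x) y ≠ α pD y := by
      intro e
      have := @hoinj (1, 0) (0, 1) (by
        simp only [o, Fin.val_one, Fin.val_zero, pow_one, pow_zero, D.one]
        exact e.trans (D.one _).symm)
      simp at this
    have hne2 : α (1, x) y + α pD y ≠ y := by
      intro e
      have e2 : α (1, x) y = α pD (α pD y) := by
        rw [D.ss_d_sum]
        nth_rw 2 [← e]
        rw [add_assoc, D.two, add_zero]
      have := @hoinj (1, 0) (0, 2) (by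
        simp only [o, Fin.val_one, Fin.val_zero, pow_one, pow_zero, D.one]
        refine e2.trans ?_
        rw [show ((2 : Fin 3) : ℕ) = 1 + 1 from rfl, D.ss_dd, pow_one]
        exact (D.one _).symm)
      simp at this
    have hc0 : q y = 0 := by
      have h := hpair _ (add_mem hxy hdy) (fun e => hnd (D.ss_eq_of_add e)) hne2
      rw [D.ss_bil_right, hpair _ hxy hx0 hxy',
        hpair _ hdy hd0 (fun e => hy0 (D.fpf y e)), CharTwo.add_self_eq_zero] at h
      exact h.symm
    refine hy0 (D.nd y fun w => ?_)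
    have hinj : Function.Injective fun r : η.ker × η.range => (r.1 : U) + r.2 := by
      rintro ⟨⟨a, ha⟩, ⟨b, hb⟩⟩ ⟨⟨a', ha'⟩, ⟨b', hb'⟩⟩ h
      simp only at h
      have e : a - a' = b' - b := sub_eq_sub_iff_add_eq_add.2 (by rw [h]; abel)
      have hs : a - a' = 0 := hz _ (e ▸ sub_mem hb' hb) ((hker _).1 (sub_mem ha ha'))
      rw [hs] at e
      simp only [Prod.mk.injEq, Subtype.mk.injEq]
      exact ⟨sub_eq_zero.1 hs, (sub_eq_zero.1 e.symm).symm⟩
    obtain ⟨⟨c, i⟩, rfl⟩ := ((Nat.bijective_iff_injective_and_card _).2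
      ⟨hinj, by rw [Nat.card_prod, hkc, hI, D.card]; norm_num⟩).2 w
    show B y ((c : U) + i) = 0
    rw [D.ss_bil_right, horth c c.2 y hyI]
    rcases eq_or_ne (i : U) 0 with hi | hi
    · rw [hi, D.ss_B_zero_right, add_zero]
    rcases eq_or_ne (i : U) y with hi' | hi'
    · rw [hi', D.ss_B_self, add_zero]
    · rw [hpair _ i.2 hi hi', hc0, add_zero]
  · exfalso
    have htop : η.ker = ⊤ := AddSubgroup.eq_top_of_card_eq _ (by rw [hkc, D.card]; norm_num)
    have hall : ∀ v, α (1, x) v = v := fun v => (hker v).1 (by rw [htop]; exact AddSubgroup.mem_top v)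
    exact h1 (congrArg Prod.snd (D.faith _ hm hall))

/-- The vectors fixed by a permutation of sign one. -/
def ssFix {a : S6} (ha : Equiv.Perm.sign a = 1) : AddSubgroup U where
  carrier := {u | α (1, a) u = u}
  zero_mem' := D.ss_map_zero (D.ss_memA ha)
  add_mem' {x y} hx hy := by
    show α (1, a) (x + y) = x + y
    rw [D.add _ (D.ss_memA ha), hx, hy]
  neg_mem' {x} hx := by
    show α (1, a) (-x) = -x
    rw [D.ss_neg]
    exact hx

theorem ss_sign_jj : Equiv.Perm.sign jj = 1 := cc_facts.2.2.2.2.1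

theorem ss_K_meet {y : U} (h : α (1, jj) y = y) (h' : α (1, jj) (α (1, cc) y) = α (1, cc) y) :
    y = 0 := by
  obtain ⟨-, h5, h1, hs, hj, hinv, -⟩ := cc_facts
  rw [← D.ss_act hj hs, hinv, D.ss_act (by simp [hs]) hj, h] at h'
  have h2 : α (1, cc ^ 2) y = y := by
    rw [pow_two, D.ss_act hs hs, ← h', ← D.ss_act hs (by simp [hs]), mul_inv_cancel]
    exact D.one y
  have h6 := D.ss_pow (e := 0) (by simp [hs]) (h2.trans (by rw [pow_zero, D.one])) 3
  rw [← pow_mul, Nat.zero_mul, pow_zero, D.one, show (2 * 3 : ℕ) = 5 + 1 from rfl, pow_succ, h5,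
    one_mul] at h6
  exact D.ss_five hs h5 h1 h6

theorem ss_card_K : Nat.card (D.ssFix D.ss_sign_jj) = 16 := by
  haveI := D.ss_finite
  obtain ⟨hjj, -, -, hs, hj, -⟩ := cc_facts
  let η : U →+ D.ssFix D.ss_sign_jj := AddMonoidHom.mk' (fun u => ⟨u + α (1, jj) u, by
    show α (1, jj) (u + α (1, jj) u) = u + α (1, jj) u
    rw [D.add _ (D.ss_memA hj), ← D.ss_act hj hj, hjj,
      show (((1 : Equiv.Perm (Fin 3)), (1 : S6)) : P) = 1 from rfl, D.one, add_comm]⟩)
    fun a b => Subtype.ext (by
      show a + b + α (1, jj) (a + b) = a + α (1, jj) a + (b + α (1, jj) b)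
      rw [D.add _ (D.ss_memA hj)]; abel)
  have hker : η.ker = D.ssFix D.ss_sign_jj := by
    ext u
    rw [AddMonoidHom.mem_ker]
    constructor
    · intro h; exact (D.ss_eq_of_add (congrArg Subtype.val h)).symm
    · intro h
      apply Subtype.ext
      show u + α (1, jj) u = 0
      rw [show α (1, jj) u = u from h, D.two]
  have h1 := AddSubgroup.card_mul_index η.ker
  rw [AddSubgroup.index_ker, hker, D.card] at h1
  have h2 : Nat.card η.range ≤ Nat.card (D.ssFix D.ss_sign_jj) :=
    Nat.card_le_card_of_injective _ Subtype.val_injective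
  let Φ : D.ssFix D.ss_sign_jj × D.ssFix D.ss_sign_jj → U := fun r => (r.1 : U) + α (1, cc) r.2
  have hΦ : Function.Injective Φ := by
    rintro ⟨a, b⟩ ⟨a', b'⟩ h
    simp only [Φ] at h
    have hb : (b : U) + b' = 0 := by
      refine D.ss_K_meet (add_mem b.2 b'.2) ?_
      have e : α (1, cc) ((b : U) + b') = (a : U) + a' := by
        rw [D.add _ (D.ss_memA hs)]
        refine (D.ss_eq_of_add ?_).symm
        calc (a : U) + a' + (α (1, cc) b + α (1, cc) b')
            = ((a : U) + α (1, cc) b) + ((a' : U) + α (1, cc) b') := by abel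
          _ = 0 := by rw [h, D.two]
      rw [e]
      exact add_mem a.2 a'.2
    obtain rfl : b = b' := Subtype.ext (D.ss_eq_of_add hb)
    exact Prod.ext (Subtype.ext (add_right_cancel h)) rfl
  have h3 := Nat.card_le_card_of_injective Φ hΦ
  rw [Nat.card_prod, D.card] at h3
  have h4 : Nat.card (D.ssFix D.ss_sign_jj) ≤ 16 := by nlinarith
  have h5 : 16 ≤ Nat.card (D.ssFix D.ss_sign_jj) := by nlinarith
  omega

section Cfg

variable {v t0 s : S6} {T fiv two : Fin 15 → S6} (C : Cfg v t0 s T fiv two)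
include C

/-- Conjugation into the four group transports the common fixed vectors. -/
theorem ss_conj_fix {a : S6} (ha : Equiv.Perm.sign a = 1) {b : S6} (hb : Equiv.Perm.sign b = 1)
    (hab : a⁻¹ * b * a = jj ∨ a⁻¹ * b * a = v ∨ a⁻¹ * b * a = jj * v) {u : U}
    (hu : α (1, jj) u = u) (hu' : α (1, v) u = u) : α (1, b) (α (1, a) u) = α (1, a) u := by
  have hj := D.ss_sign_jj
  have e : α (1, a⁻¹ * b * a) u = u := by
    rcases hab with r | r | r <;> rw [r]
    · exact hu
    · exact hu'
    · rw [D.ss_act hj C.v_sign, hu', hu]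
  rw [← D.ss_act hb ha, show b * a = a * (a⁻¹ * b * a) by group,
    D.ss_act ha (by simp [ha, hb]), e]

theorem ss_preserve {a : S6} (ha : Hp v a) {u : U} (hu : α (1, jj) u = u) (hu' : α (1, v) u = u) :
    α (1, jj) (α (1, a) u) = α (1, a) u ∧ α (1, v) (α (1, a) u) = α (1, a) u :=
  ⟨D.ss_conj_fix C ha.1 D.ss_sign_jj ha.2.1 hu hu', D.ss_conj_fix C ha.1 C.v_sign ha.2.2 hu hu'⟩

/-- If the common fixed vectors form a line, that line spans the required subgroup. -/
theorem ss_of_line (hne : ∃ y, α (1, jj) y = y ∧ α (1, v) y ≠ y) :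
    ∃ S : AddSubgroup U, FormSpace q B Γ α S := by
  classical
  haveI := D.ss_finite
  haveI : Fintype U := Fintype.ofFinite U
  have hj := D.ss_sign_jj
  have hv := C.v_sign
  obtain ⟨y, hy, hyv⟩ := hne
  let Cs := D.ssFix D.ss_sign_jj ⊓ D.ssFix hv
  -- multiples of a vector
  let g : U → ZMod 2 × ZMod 2 → U := fun y r =>
    (if r.1 = 0 then 0 else y) + (if r.2 = 0 then 0 else α pD y)
  have gadd : ∀ y r r', g y r + g y r' = g y (r + r') := by
    intro y r r'
    have key : ∀ (z : U) (i k : ZMod 2),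
        (if i = 0 then 0 else z) + (if k = 0 then 0 else z) = if i + k = 0 then 0 else z := by
      intro z i k
      rcases z2cases i with rfl | rfl <;> rcases z2cases k with rfl | rfl <;>
        simp [D.two, show (1 : ZMod 2) + 1 = 0 by decide]
    simp only [g, Prod.fst_add, Prod.snd_add, ← key]
    abel
  have hdC : ∀ {a : S6} (ha : Equiv.Perm.sign a = 1) (z : U), α (1, a) z = z →
      α (1, a) (α pD z) = α pD z := fun ha z hz => by rw [D.ss_comm_d ha, hz]
  have gK : ∀ y, α (1, jj) y = y → ∀ r, g y r ∈ D.ssFix D.ss_sign_jj := by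
    intro y hy r
    refine add_mem ?_ ?_
    · split_ifs
      · exact zero_mem _
      · exact hy
    · split_ifs
      · exact zero_mem _
      · exact hdC hj y hy
  have hyC : y ∉ Cs := fun h => hyv h.2
  have hdyC : α pD y ∉ Cs := fun h => hyC (by
    have h2 : α pD (α pD (α pD y)) = y := D.ss_d_cube y
    rw [← h2]
    exact ⟨hdC hj _ (hdC hj _ h.1), hdC hv _ (hdC hv _ h.2)⟩)
  have gyC : ∀ r, g y r ∈ Cs → r = 0 := by
    rintro ⟨i, k⟩ h
    rcases z2cases i with rfl | rfl <;> rcases z2cases k with rfl | rfl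
    · rfl
    · exact absurd (by simpa [g] using h) hdyC
    · exact absurd (by simpa [g] using h) hyC
    · have h' : α pD (α pD y) ∈ Cs := by
        rw [D.ss_d_sum]
        simpa [g] using h
      exact absurd (show y ∈ Cs by
        rw [← D.ss_d_cube y]
        exact ⟨hdC hj _ h'.1, hdC hv _ h'.2⟩) hyC
  have hC4 : Nat.card Cs ≤ 4 := by
    let f : Cs × (ZMod 2 × ZMod 2) → D.ssFix D.ss_sign_jj := fun r =>
      ⟨(r.1 : U) + g y r.2, add_mem r.1.2.1 (gK y hy r.2)⟩
    have hf : Function.Injective f := by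
      rintro ⟨a, r⟩ ⟨a', r'⟩ h
      have h' : (a : U) + g y r = (a' : U) + g y r' := congrArg Subtype.val h
      have e : g y (r + r') = (a : U) + a' := by
        rw [← gadd]
        refine (D.ss_eq_of_add ?_).symm
        calc (a : U) + a' + (g y r + g y r') = ((a : U) + g y r) + ((a' : U) + g y r') := by abel
          _ = 0 := by rw [h', D.two]
      have hr := gyC _ (e ▸ add_mem a.2 a'.2)
      have key : ∀ r r' : ZMod 2 × ZMod 2, r + r' = 0 → r = r' := by decide
      obtain rfl := key r r' hr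
      exact Prod.ext (Subtype.ext (add_right_cancel h')) rfl
    have h := Nat.card_le_card_of_injective f hf
    rw [Nat.card_prod, Nat.card_prod, Nat.card_zmod, D.ss_card_K] at h
    omega
  obtain ⟨w, hwj, hwv, hw0⟩ : ∃ w, α (1, jj) w = w ∧ α (1, v) w = w ∧ w ≠ 0 := by
    refine ⟨y + α (1, v) y, ?_, ?_, fun h => hyv (D.ss_eq_of_add h).symm⟩
    · rw [D.add _ (D.ss_memA hj), ← D.ss_act hj hv, C.comm, D.ss_act hv hj, hy]
    · rw [D.add _ (D.ss_memA hv), ← D.ss_act hv hv, C.v_sq,
        show (((1 : Equiv.Perm (Fin 3)), (1 : S6)) : P) = 1 from rfl, D.one, add_comm]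
  have hline : ∀ x, α (1, jj) x = x → α (1, v) x = x → x ≠ 0 → ∃ e : ℕ, x = α (pD ^ e) w := by
    have gC : ∀ r, g w r ∈ Cs := by
      intro r
      refine ⟨gK w hwj r, add_mem ?_ ?_⟩
      · split_ifs
        · exact zero_mem _
        · exact hwv
      · split_ifs
        · exact zero_mem _
        · exact hdC hv w hwv
    let f : ZMod 2 × ZMod 2 → Cs := fun r => ⟨g w r, gC r⟩
    have hf : Function.Injective f := by
      intro r r' h
      have h0 : g w (r + r') = 0 := by
        rw [← gadd, show g w r = g w r' from congrArg Subtype.val h, D.two]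
      have hr : r + r' = 0 := by
        generalize r + r' = c at h0
        rcases c with ⟨i, k⟩
        rcases z2cases i with rfl | rfl <;> rcases z2cases k with rfl | rfl
        · rfl
        · exact absurd (D.ss_inj D.ss_memD (show α pD w = α pD 0 by
            rw [D.ss_map_zero D.ss_memD]; simpa [g] using h0)) hw0
        · exact absurd (by simpa [g] using h0) hw0
        · have h1 : w = α pD w := D.ss_eq_of_add (by simpa [g] using h0)
          exact absurd (D.fpf w h1.symm) hw0
      have key : ∀ r r' : ZMod 2 × ZMod 2, r + r' = 0 → r = r' := by decide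
      exact key r r' hr
    have hb : Function.Bijective f := (Nat.bijective_iff_injective_and_card f).2 ⟨hf, le_antisymm
      (Nat.card_le_card_of_injective f hf) (hC4.trans (by simp))⟩
    intro x hx hx' hx0
    obtain ⟨⟨i, k⟩, hr⟩ := hb.2 ⟨x, hx, hx'⟩
    have e : g w (i, k) = x := congrArg Subtype.val hr
    rcases z2cases i with rfl | rfl <;> rcases z2cases k with rfl | rfl
    · exact absurd (by simpa [g] using e.symm) hx0
    · exact ⟨1, by rw [← e, pow_one]; simp [g]⟩
    · exact ⟨0, by rw [← e, pow_zero, D.one]; simp [g]⟩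
    · exact ⟨1 + 1, by rw [← e, D.ss_dd, pow_one, D.ss_d_sum]; simp [g]⟩
  -- the normaliser fixes `w`
  have hH : ∀ h, Hp v h → α (1, h) w = w := by
    have scal : ∀ h, Hp v h → ∃ e : ℕ, α (1, h) w = α (pD ^ e) w := fun h hh =>
      hline _ (D.ss_preserve C hh hwj hwv).1 (D.ss_preserve C hh hwj hwv).2 fun e =>
        hw0 (D.ss_inj (D.ss_memA hh.1) (e.trans (D.ss_map_zero (D.ss_memA hh.1)).symm))
    have four : ∀ h, Equiv.Perm.sign h = 1 → h ^ 4 = 1 → ∀ e : ℕ, α (1, h) w = α (pD ^ e) w →
        e % 3 = 0 := by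
      intro h hs h4 e he
      have := D.ss_pow hs he 4
      rw [h4] at this
      have := D.ss_dpow_fix (this.symm.trans (D.one w)) hw0
      omega
    have hsw : α (1, s) w = w := by
      obtain ⟨e, he⟩ := scal s C.s_mem
      rw [he, ss_dpow_mod, four s C.s_mem.1 C.s_pow e he, pow_zero, D.one]
    intro h hh
    obtain ⟨e, he⟩ := scal h hh
    rw [he, ss_dpow_mod]
    suffices e % 3 = 0 by rw [this, pow_zero, D.one]
    rcases C.h_ord h hh with r | r
    · exact four h hh.1 r e he
    · refine four _ (by simp [hh.1, C.s_mem.1]) r e ?_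
      rw [D.ss_act hh.1 C.s_mem.1, hsw, he]
  -- no other representative carries `w` into its line
  have hT : ∀ i, ∀ e : ℕ, α (1, T i) w = α (pD ^ e) w → i = 0 := by
    intro i e he
    by_contra hi
    obtain ⟨hh, h5, h1⟩ := C.T_five i hi
    have hs : Equiv.Perm.sign (T i * fiv i) = 1 := by simp [C.T_sign i, hh.1]
    have hx : α (1, T i * fiv i) w = α (pD ^ e) w := by
      rw [D.ss_act (C.T_sign i) hh.1, hH _ hh, he]
    have h0 := D.ss_pow hs hx 5
    rw [h5] at h0
    have := D.ss_dpow_fix (h0.symm.trans (D.one w)) hw0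
    rw [ss_dpow_mod, show e % 3 = 0 by omega, pow_zero, D.one] at hx
    exact hw0 (D.ss_five hs h5 h1 hx)
  have cover : ∀ a, Equiv.Perm.sign a = 1 → ∃ i, α (1, a) w = α (1, T i) w ∧ Hp v ((T i)⁻¹ * a) := by
    intro a ha
    obtain ⟨i, hi⟩ := C.T_cover a ha
    refine ⟨i, ?_, hi⟩
    have e : a = T i * ((T i)⁻¹ * a) := by group
    conv_lhs => rw [e, D.ss_act (C.T_sign i) hi.1, hH _ hi]
  let o : Fin 15 → U := fun i => α (1, T i) w
  have ho0 : ∀ i, o i ≠ 0 := fun i h =>
    hw0 (D.ss_inj (D.ss_memA (C.T_sign i)) (h.trans (D.ss_map_zero (D.ss_memA (C.T_sign i))).symm))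
  have hoinj : Function.Injective o := by
    intro i k h
    obtain ⟨m, hm, hm'⟩ := cover ((T k)⁻¹ * T i) (by simp [C.T_sign])
    have e : α (1, (T k)⁻¹ * T i) w = w := by
      rw [D.ss_act (by simp [C.T_sign]) (C.T_sign i), show α (1, T i) w = α (1, T k) w from h,
        ← D.ss_act (by simp [C.T_sign]) (C.T_sign k), inv_mul_cancel]
      exact D.one w
    have hm0 : m = 0 := hT m 0 (by rw [← hm, e, pow_zero, D.one])
    subst hm0
    rw [C.T0, inv_one, one_mul] at hm'
    exact C.T_inj i k hm'
  let S : AddSubgroup U := AddSubgroup.closure (Set.range o)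
  have hgen : ∀ i, o i ∈ S := fun i => AddSubgroup.subset_closure ⟨i, rfl⟩
  have hinv : ∀ a ∈ alternatingGroup (Fin 6), ∀ x ∈ S, α (1, a) x ∈ S := by
    intro a ha x hx
    have hs : Equiv.Perm.sign a = 1 := Equiv.Perm.mem_alternatingGroup.1 ha
    induction hx using AddSubgroup.closure_induction with
    | mem x hx =>
      obtain ⟨i, rfl⟩ := hx
      obtain ⟨k, hk, -⟩ := cover (a * T i) (by simp [hs, C.T_sign])
      simp only [o]
      rw [← D.ss_act hs (C.T_sign i), hk]
      exact hgen k
    | zero => rw [D.ss_map_zero (D.ss_memA hs)]; exact zero_mem _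
    | add x y _ _ hx hy => rw [D.add _ (D.ss_memA hs)]; exact add_mem hx hy
    | neg x _ hx => rw [D.ss_neg]; exact hx
  -- the orbit is totally isotropic
  have hBw : ∀ a, Equiv.Perm.sign a = 1 → B w (α (1, a) w) = 0 := by
    intro a ha
    obtain ⟨i, hi, -⟩ := cover a ha
    rw [hi]
    obtain ⟨hh, hb⟩ := C.T_two i
    have hs : Equiv.Perm.sign (T i * two i) = 1 := by simp [C.T_sign i, hh.1]
    set b := T i * two i with hb'
    have e1 : α (1, b) w = α (1, T i) w := by rw [hb', D.ss_act (C.T_sign i) hh.1, hH _ hh]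
    have e2 : α (1, b) (α (1, T i) w) = w := by
      rw [← e1, ← D.ss_act hs hs, ← pow_two]
      exact hH _ hb
    set z := α (1, T i) w
    have hA : B w (α pD z) = B (α pD w) z := by
      calc B w (α pD z) = B (α (1, b) w) (α (1, b) (α pD z)) := (D.ss_presB (D.ss_memA hs) _ _).symm
        _ = B z (α pD w) := by rw [e1, D.ss_comm_d hs, e2]
        _ = B (α pD w) z := D.ss_symm _ _
    have hB : B (α pD w) z = B w (α pD z) + B w z := by
      rw [← D.ss_presB D.ss_memD (α pD w) z, D.ss_d_sum, D.bil, D.ss_presB D.ss_memD]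
    rw [hA] at hB
    exact left_eq_add.mp hB
  have hBgen : ∀ i k, B (o i) (o k) = 0 := by
    intro i k
    have hs := C.T_sign i
    rw [← D.ss_presB (D.ss_memA (show Equiv.Perm.sign (T i)⁻¹ = 1 by simp [hs]))]
    simp only [o]
    rw [← D.ss_act (by simp [hs]) hs, ← D.ss_act (by simp [hs]) (C.T_sign k), inv_mul_cancel,
      show (((1 : Equiv.Perm (Fin 3)), (1 : S6)) : P) = 1 from rfl, D.one]
    exact hBw _ (by simp [hs, C.T_sign])
  have hiso : ∀ x ∈ S, ∀ y ∈ S, B x y = 0 := by
    have h1 : ∀ i, ∀ y ∈ S, B (o i) y = 0 := by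
      intro i y hy
      induction hy using AddSubgroup.closure_induction with
      | mem y hy => obtain ⟨k, rfl⟩ := hy; exact hBgen i k
      | zero => exact D.ss_B_zero_right _
      | add y y' _ _ hy hy' => rw [D.ss_bil_right, hy, hy', add_zero]
      | neg y _ hy => rw [D.ss_neg]; exact hy
    intro x hx y hy
    induction hx using AddSubgroup.closure_induction with
    | mem x hx => obtain ⟨k, rfl⟩ := hx; exact h1 k y hy
    | zero => exact D.ss_B_zero _
    | add x x' _ _ hx hx' => rw [D.bil, hx, hx', add_zero]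
    | neg x _ hx => rw [D.ss_neg]; exact hx
  have hle : Nat.card S * Nat.card S ≤ 256 := by
    haveI : Fintype S := Fintype.ofFinite S
    have hrow : ∀ u : U, (∀ x : S, B u x = 0) ∧ ∑ x : S, pm (B u x) = (Fintype.card S : ℤ) ∨
        (¬∀ x : S, B u x = 0) ∧ ∑ x : S, pm (B u x) = 0 := fun u =>
      sum_pm (fun x : S => B u x) fun a b => D.ss_bil_right u a b
    have hcol : ∀ x : S, ∑ u : U, pm (B u x) = if x = 0 then (256 : ℤ) else 0 := by
      intro x
      rcases sum_pm (fun u : U => B u x) (fun a b => D.bil a b x) with ⟨h, hsum⟩ | ⟨h, hsum⟩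
      · rw [hsum, if_pos (Subtype.ext (D.nd _ fun u => by rw [D.ss_symm]; exact h u)),
          ← Nat.card_eq_fintype_card, D.card]
        norm_num
      · rw [hsum, if_neg]
        rintro rfl
        exact h fun u => D.ss_B_zero_right u
    have htot : (∑ u : U, ∑ x : S, pm (B u x)) = 256 := by
      rw [Finset.sum_comm]
      simp [hcol]
    have hlow : (∑ u : U, if u ∈ S then (Fintype.card S : ℤ) else 0) ≤ ∑ u : U, ∑ x : S, pm (B u x) := by
      refine Finset.sum_le_sum fun u _ => ?_
      rcases hrow u with ⟨-, hsum⟩ | ⟨h, hsum⟩ <;> rw [hsum]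
      · split_ifs <;> first | exact le_rfl | exact Int.natCast_nonneg _
      · rw [if_neg fun hu => h fun x => hiso u hu x x.2]
    rw [htot, ← Finset.sum_filter, Finset.sum_const, nsmul_eq_mul] at hlow
    have hcard : (Finset.univ.filter fun u : U => u ∈ S).card = Fintype.card S := by
      rw [← Fintype.card_subtype]
    rw [hcard] at hlow
    rw [Nat.card_eq_fintype_card]
    exact_mod_cast hlow
  let f : Option (Fin 15) → S := fun r => r.elim 0 fun i => ⟨o i, hgen i⟩
  have hf : Function.Injective f := by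
    rintro (_ | i) (_ | k) h
    · rfl
    · exact absurd (congrArg Subtype.val h).symm (ho0 k)
    · exact absurd (congrArg Subtype.val h) (ho0 i)
    · exact congrArg some (hoinj (congrArg Subtype.val h))
  have hge := Nat.card_le_card_of_injective f hf
  have hopt : Nat.card (Option (Fin 15)) = 16 := by
    rw [Nat.card_eq_fintype_card]; rfl
  rw [hopt] at hge
  have h16 : Nat.card S = 16 := by nlinarith
  have horb : ∀ x ∈ S, x ≠ 0 → ∃ i, x = o i := by
    intro x hx hx0
    obtain ⟨r, hr⟩ := ((Nat.bijective_iff_injective_and_card f).2 ⟨hf, hopt.trans h16.symm⟩).2 ⟨x, hx⟩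
    rcases r with _ | i
    · exact absurd (congrArg Subtype.val hr).symm hx0
    · exact ⟨i, (congrArg Subtype.val hr).symm⟩
  have hqo : ∀ i, q (o i) = q w := fun i => D.presq _ (D.ss_memA (C.T_sign i)) w
  have hqw : q w = 0 := by
    have hne : o 0 + o 1 ≠ 0 := fun e => absurd (hoinj (D.ss_eq_of_add e)) (by decide)
    obtain ⟨k, hk⟩ := horb _ (add_mem (hgen 0) (hgen 1)) hne
    have h := D.quad (o 0) (o 1)
    rw [hiso _ (hgen 0) _ (hgen 1), hk, hqo, hqo, hqo, add_zero, CharTwo.add_self_eq_zero] at h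
    exact h
  refine ⟨S, h16, fun x hx => ?_, hiso, hinv, fun x hx hdx => ?_, fun p hp hodd => ?_⟩
  · by_cases hx0 : x = 0
    · rw [hx0, D.ss_q_zero]
    · obtain ⟨i, rfl⟩ := horb x hx hx0
      rw [hqo, hqw]
  · by_contra hx0
    obtain ⟨i, rfl⟩ := horb x hx hx0
    have hs : Equiv.Perm.sign (T i)⁻¹ = 1 := by simp [C.T_sign]
    have h1 := hinv _ (Equiv.Perm.mem_alternatingGroup.2 hs) _ hdx
    rw [D.ss_comm_d hs] at h1
    simp only [o] at h1
    rw [← D.ss_act hs (C.T_sign i), inv_mul_cancel,
      show (((1 : Equiv.Perm (Fin 3)), (1 : S6)) : P) = 1 from rfl, D.one] at h1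
    have hd0 : α pD w ≠ 0 := fun e =>
      hw0 (D.ss_inj D.ss_memD (e.trans (D.ss_map_zero D.ss_memD).symm))
    obtain ⟨k, hk⟩ := horb _ h1 hd0
    have hk0 := hT k 1 (by rw [pow_one]; exact hk.symm)
    subst hk0
    simp only [o] at hk
    rw [C.T0, show (((1 : Equiv.Perm (Fin 3)), (1 : S6)) : P) = 1 from rfl, D.one] at hk
    exact hw0 (D.fpf w hk)
  · let p0 : P := (Equiv.swap 0 1, t0)
    have hp0 : p0 ∈ Γ := (D.hR _).2 (by simp [p0, C.t0_sign])
    have hswap : ∀ a, Equiv.Perm.sign a = 1 → ∀ u,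
        α p0 (α (1, a) u) = α (1, t0 * a * t0) (α p0 u) := by
      intro a ha u
      rw [← D.mul _ hp0 _ (D.ss_memA ha),
        ← D.mul _ (D.ss_memA (by simp [ha, C.t0_sign])) _ hp0]
      congr 1
      simp [p0, Prod.ext_iff, mul_assoc, C.t0_sq]
    have fixed : ∀ b, Equiv.Perm.sign b = 1 →
        (t0 * b * t0 = jj ∨ t0 * b * t0 = v ∨ t0 * b * t0 = jj * v) → α (1, b) (α p0 w) = α p0 w := by
      intro b hb hbc
      have hs : Equiv.Perm.sign (t0 * b * t0) = 1 := by simp [hb, C.t0_sign]
      have e := hswap (t0 * b * t0) hs w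
      rw [show t0 * (t0 * b * t0) * t0 = t0 * t0 * b * (t0 * t0) by group, C.t0_sq, one_mul,
        mul_one] at e
      rw [← e]
      congr 1
      rcases hbc with r | r | r <;> rw [r]
      · exact hwj
      · exact hwv
      · rw [D.ss_act hj hv, hwv, hwj]
    obtain ⟨k, hk⟩ := hline (α p0 w) (fixed jj hj C.t0_j) (fixed v hv C.t0_v) fun e =>
      hw0 (D.ss_inj hp0 (e.trans (D.ss_map_zero hp0).symm))
    have hodd' : Equiv.Perm.sign p.2 = -1 := ((D.hR p).1 hp).symm.trans hodd
    obtain ⟨e, he⟩ := perm3_odd p.1 hodd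
    have hsa : Equiv.Perm.sign (t0 * p.2) = 1 := by simp [C.t0_sign, hodd']
    have hpe : p = pD ^ (e : ℕ) * (p0 * ((1, t0 * p.2) : P)) := by
      refine Prod.ext ?_ ?_
      · simp [pD, p0, he]
      · simp only [pD, p0, Prod.snd_mul, Prod.pow_snd, one_pow, one_mul]
        rw [← mul_assoc, C.t0_sq, one_mul]
    have key : ∀ x ∈ S, ∃ x' ∈ S, α p x = α (pD ^ ((e : ℕ) + k)) x' := by
      intro x hx
      by_cases hx0 : x = 0
      · exact ⟨0, zero_mem _, by rw [hx0, D.ss_map_zero hp, D.ss_map_zero (pow_mem D.ss_memD _)]⟩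
      obtain ⟨i, rfl⟩ := horb x hx hx0
      set a := t0 * p.2 * T i with ha
      have hsia : Equiv.Perm.sign a = 1 := by
        rw [ha, map_mul, hsa, C.T_sign, one_mul]
      obtain ⟨m, hm, -⟩ := cover (t0 * a * t0) (by simp [hsia, C.t0_sign])
      refine ⟨o m, hgen m, ?_⟩
      rw [hpe, D.mul _ (pow_mem D.ss_memD _) _ (mul_mem hp0 (D.ss_memA hsa)),
        D.mul _ hp0 _ (D.ss_memA hsa), D.ss_dd]
      congr 1
      simp only [o]
      rw [← D.ss_act hsa (C.T_sign i), ← ha, hswap a hsia, hk,
        D.ss_comm (by simp [hsia, C.t0_sign]), hm]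
    rcases (show ((e : ℕ) + k) % 3 = 0 ∨ ((e : ℕ) + k) % 3 = 1 ∨ ((e : ℕ) + k) % 3 = 2 by omega) with
      h | h | h
    · refine Or.inl fun x hx => ?_
      obtain ⟨x', hx', e'⟩ := key x hx
      rw [e', ss_dpow_mod, h, pow_zero, D.one]
      exact hx'
    · refine Or.inr (Or.inr fun x hx => ?_)
      obtain ⟨x', hx', e'⟩ := key x hx
      rw [e', ss_dpow_mod, h, pow_one, D.ss_d_cube]
      exact hx'
    · refine Or.inr (Or.inl fun x hx => ?_)
      obtain ⟨x', hx', e'⟩ := key x hx
      rw [e', ss_dpow_mod, h, show (2 : ℕ) = 1 + 1 from rfl, D.ss_dd, pow_one, D.ss_d_cube]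
      exact hx'

end Cfg

/-- The form over the field with two elements. -/
theorem exists_formSpace : ∃ S : AddSubgroup U, FormSpace q B Γ α S := by
  haveI := D.ss_finite
  obtain ⟨-, -, -, hs, hj, -, ha1, hb1, hb2, hcc⟩ := cc_facts
  by_cases hA : ∃ y, α (1, jj) y = y ∧ α (1, vA) y ≠ y
  · exact D.ss_of_line cfgA hA
  by_cases hB : ∃ y, α (1, jj) y = y ∧ α (1, vB) y ≠ y
  · exact D.ss_of_line cfgB hB
  exfalso
  push Not at hA hB
  obtain ⟨y, hy, hy0⟩ : ∃ y, α (1, jj) y = y ∧ y ≠ 0 := by
    by_contra h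
    push Not at h
    haveI : Subsingleton (D.ssFix D.ss_sign_jj) :=
      ⟨fun a b => Subtype.ext ((h a a.2).trans (h b b.2).symm)⟩
    have := D.ss_card_K
    rw [Nat.card_of_subsingleton 0] at this
    omega
  have pA : ∀ a, Hp vA a → ∀ z, α (1, jj) z = z → α (1, jj) (α (1, a) z) = α (1, a) z :=
    fun a ha z hz => (D.ss_preserve cfgA ha hz (hA z hz)).1
  have pB : ∀ a, Hp vB a → ∀ z, α (1, jj) z = z → α (1, jj) (α (1, a) z) = α (1, a) z :=
    fun a ha z hz => (D.ss_preserve cfgB ha hz (hB z hz)).1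
  refine hy0 (D.ss_K_meet hy ?_)
  have h := pA _ ha1 _ (pB _ hb1 _ (pA _ ha1 _ (pB _ hb2 y hy)))
  have e : α (1, cc) y = α (1, Equiv.swap 1 2 * Equiv.swap 4 5) (α (1, Equiv.swap 2 4 * Equiv.swap 3 5)
      (α (1, Equiv.swap 1 2 * Equiv.swap 4 5)
        (α (1, Equiv.swap 0 2 * Equiv.swap 1 3 * Equiv.swap 2 4 * Equiv.swap 3 5) y))) := by
    rw [hcc, D.ss_act (by simp [ha1.1, hb1.1]) hb2.1, D.ss_act (by simp [ha1.1, hb1.1]) ha1.1,
      D.ss_act ha1.1 hb1.1]
  rw [e]
  exact h

end SignData

end Cfsg.Agent.H49.Tensor
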