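import Cfsg.Agent.H49.Frame

/-!
From the hypotheses of the statements to a setting with fusion.
-/

set_option autoImplicit false
set_option linter.style.haveILetI false

namespace Cfsg.Agent.H49

open Cfsg Cfsg.Agent.LargeExtra

variable {G : Type*} [Group G] [Finite G]

theorem pResidual_eq_top_of_simple [IsSimpleGroup G] (h3 : 3 ∣ Nat.card G) :
    Cfsg.pResidual 2 G = ⊤ := by
  have hn : (Cfsg.pResidual 2 G).Normal := by
    refine ⟨fun a ha g => ?_⟩
    induction ha using Subgroup.closure_induction with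
    | mem x hx =>
      refine Subgroup.subset_closure ?_
      show Nat.Coprime (orderOf (g * x * g⁻¹)) 2
      have e : orderOf (g * x * g⁻¹) = orderOf x := MulEquiv.orderOf_eq (MulAut.conj g) x
      rwa [e]
    | one => simp
    | mul x y _ _ hx hy =>
      rw [show g * (x * y) * g⁻¹ = (g * x * g⁻¹) * (g * y * g⁻¹) by group]
      exact mul_mem hx hy
    | inv x _ hx =>
      rw [show g * x⁻¹ * g⁻¹ = (g * x * g⁻¹)⁻¹ by group]
      exact inv_mem hx
  rcases hn.eq_bot_or_eq_top with h | h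
  · exfalso
    haveI : Fact (Nat.Prime 3) := ⟨Nat.prime_three⟩
    obtain ⟨x, hx⟩ := exists_prime_orderOf_dvd_card' (G := G) 3 h3
    have hm : x ∈ Cfsg.pResidual 2 G := Subgroup.subset_closure (by
      show Nat.Coprime (orderOf x) 2
      rw [hx]; decide)
    rw [h, Subgroup.mem_bot] at hm
    rw [hm, orderOf_one] at hx
    omega
  · exact h

/-- The setting and the fusion. -/
theorem setting_fusion [IsSimpleGroup G] {z : G} (hz : orderOf z = 2)
    {N : Subgroup ↥(Subgroup.centralizer ({z} : Set G))} [hn : N.Normal]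
    (hQ : Cfsg.IsExtraspecial 2 ↥N) (hQ9 : Nat.card ↥N = 2 ^ 9)
    (hCQ : Subgroup.centralizer (N : Set ↥(Subgroup.centralizer ({z} : Set G))) ≤ N)
    (π : ↥(Subgroup.centralizer ({z} : Set G)) →* Equiv.Perm (Fin 3) × Equiv.Perm (Fin 6))
    (hd : ∃ m, π m = (finRotate 3, 1)) (ht : ∃ p ∈ π.range, Equiv.Perm.sign p.1 = -1) :
    Setting z (N.map (Subgroup.centralizer ({z} : Set G)).subtype) 4 ∧
      ∃ g : G, g * z * g⁻¹ ∈ N.map (Subgroup.centralizer ({z} : Set G)).subtype ∧ g * z * g⁻¹ ≠ z := by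
  classical
  set E := N.map (Subgroup.centralizer ({z} : Set G)).subtype with hE
  have hext : Cfsg.IsExtraspecial 2 ↥E :=
    isExtraspecial_map_equiv hQ (N.equivMapOfInjective (Subgroup.centralizer ({z} : Set G)).subtype (Subgroup.centralizer ({z} : Set G)).subtype_injective)
  have hcard : Nat.card ↥E = 2 ^ 9 :=
    hQ9 ▸ (Nat.card_congr (N.equivMapOfInjective (Subgroup.centralizer ({z} : Set G)).subtype (Subgroup.centralizer ({z} : Set G)).subtype_injective).toEquiv).symm
  have hzC : z ∈ Subgroup.centralizer ({z} : Set G) := Subgroup.mem_centralizer_singleton_iff.2 rfl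
  have hzE : z ∈ E := ⟨⟨z, hzC⟩, hCQ fun a _ =>
    Subtype.ext (Subgroup.mem_centralizer_singleton_iff.1 a.2), rfl⟩
  have hcent : Subgroup.centralizer (E : Set G) ≤ E := by
    intro c hc
    have hcC : c ∈ Subgroup.centralizer ({z} : Set G) := Subgroup.mem_centralizer_singleton_iff.2 (hc z hzE).symm
    refine ⟨⟨c, hcC⟩, hCQ fun a ha => Subtype.ext ?_, rfl⟩
    exact hc _ ⟨a, ha, rfl⟩
  have hcomm : ∀ e ∈ E, e * z = z * e := by
    rintro _ ⟨e, _, rfl⟩
    exact Subgroup.mem_centralizer_singleton_iff.1 e.2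
  obtain ⟨y, hy⟩ := exists_centralInvolution hext
  obtain rfl : z = y := (hy.of_central z hzE hcomm).resolve_left fun h => by
    rw [h, orderOf_one] at hz; omega
  have S : Setting z E 4 := ⟨hy, by
    rintro h hh _ ⟨e, he, rfl⟩
    exact ⟨_, hn.conj_mem e he ⟨h, Subgroup.mem_centralizer_singleton_iff.2 hh⟩, rfl⟩, hcent, hcard⟩
  refine ⟨S, ?_⟩
  have h3 : 3 ∣ Nat.card G := by
    obtain ⟨m, hm⟩ := hd
    have ho : orderOf ((finRotate 3, 1) : Equiv.Perm (Fin 3) × Equiv.Perm (Fin 6)) = 3 := by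
      haveI : Fact (Nat.Prime 3) := ⟨Nat.prime_three⟩
      exact orderOf_eq_prime (by decide +kernel) (by decide +kernel)
    rw [← ho, ← hm]
    exact (orderOf_map_dvd π m).trans ((orderOf_dvd_natCard m).trans (Subgroup.card_subgroup_dvd_card _))
  have hres := pResidual_eq_top_of_simple h3
  set μ := (Equiv.Perm.sign.comp (MonoidHom.fst (Equiv.Perm (Fin 3)) (Equiv.Perm (Fin 6)))).comp π
    with hμ
  have hsur : Function.Surjective μ := by
    intro u
    rcases Int.units_eq_one_or u with rfl | rfl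
    · exact ⟨1, map_one μ⟩
    · obtain ⟨p, ⟨m, rfl⟩, hp⟩ := ht
      exact ⟨m, hp⟩
  by_contra hnf
  push Not at hnf
  have hidx : μ.ker.index = 2 := by
    rw [Subgroup.index_ker, MonoidHom.range_eq_top.2 hsur, Subgroup.card_top, Nat.card_eq_fintype_card]
    rfl
  obtain ⟨ν, hν⟩ := Setting.index_two_hom (H := ↥(Subgroup.centralizer ({z} : Set G))) hidx
  have h1 := S.hom_eq_one_of_not_fused (by norm_num) hres hnf ν Setting.mul_self_multiplicative
  have htop : μ.ker = ⊤ := (Subgroup.eq_top_iff' _).2 fun h => (hν h).1 (DFunLike.congr_fun h1 h)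
  rw [htop, Subgroup.index_top] at hidx
  exact absurd hidx (by norm_num)

end Cfsg.Agent.H49
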